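import Cfsg.Agent.Lib.Co2Invol.Main

/-!
# The interface between the parts of the uniqueness proof for `Co2`

A copy of the centralizer of the model inside `G`, and a copy of the model extending it.
-/

set_option autoImplicit false

namespace Cfsg.Lib.CoTwoType

open Cfsg Cfsg.Lib.Co2Invol

variable (G : Type*) [Group G]

/-- A copy of the centralizer of the involution of the model, onto the centralizer of its image. -/
structure LocalIso where
  /-- The copy. -/
  θ : Cent →* G
  inj : Function.Injective θ
  range : θ.range = Subgroup.centralizer ({θ tCent} : Set G)

variable {G}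

/-- The involution of the copy. -/
noncomputable def LocalIso.z (S : LocalIso G) : G := S.θ tCent

/-- An element of `G` realising, on the common centralizer of the involution and its conjugate, an
involution `gM` of the model which moves `tTwo` into its centralizer. -/
structure LocalIso.Mover (S : LocalIso G) (gM : ↥Spor.Co2) where
  /-- The mover. -/
  g : G
  sq : g * g = 1
  act : ∀ (x : Cent) (hx : gM * x.1 * gM⁻¹ ∈ Cent),
    g * S.θ x * g⁻¹ = S.θ ⟨gM * x.1 * gM⁻¹, hx⟩

/-- The conjugates of the involution commuting with it are those of the model. -/
def LocalIso.Fusion (S : LocalIso G) : Prop :=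
  ∀ g : G, Commute (g * S.z * g⁻¹) S.z → ∃ x : Cent, IsConj tTwo x.1 ∧ S.θ x = g * S.z * g⁻¹

/-- A copy of the model extending a copy of its centralizer. -/
structure LocalIso.Extension (S : LocalIso G) where
  /-- The copy. -/
  φ : ↥Spor.Co2 →* G
  inj : Function.Injective φ
  extends_ : ∀ x : Cent, φ x.1 = S.θ x

end Cfsg.Lib.CoTwoType
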