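import Cfsg.Agent.Lib.CoTwoType.DescentCore
import Cfsg.Agent.Lib.CoTwoType.Interface

/-!
# Descent to the copy of the model

The finite facts on the model that the descent uses, and the descent from them.
-/

set_option autoImplicit false
set_option linter.style.haveILetI false

namespace Cfsg.Lib.CoTwoType

open Cfsg Cfsg.Lib.Co2Invol Descent
open scoped Pointwise

/-- The extraspecial subgroup of the model. -/
noncomputable def qModel : Subgroup ↥Spor.Co2 := toSymp.ker.map Cent.subtype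

/-- What the descent needs of the model. -/
structure ModelFacts : Prop where
  cent_ker : ∀ c : Cent, (∀ q ∈ toSymp.ker, c * q = q * c) → c ∈ toSymp.ker
  sig_comm : ∀ d a, Sig tTwo qModel d tTwo → Sig tTwo qModel d a → Commute tTwo a
  pair : ∀ d a, Sig tTwo qModel d tTwo → Sig tTwo qModel d a → Commute tTwo a → a ≠ tTwo →
    IsD tTwo (tTwo * a * d)
  witness : ∀ d, Sig tTwo qModel d tTwo → ∀ w, IsD tTwo w → Commute w tTwo → Commute w d → w ≠ tTwo →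
    ¬ Sig tTwo qModel d w → ∃ a, Sig tTwo qModel d a ∧ ¬ IsD tTwo (a * (tTwo * w))
  q_other : ∀ d, Sig tTwo qModel d tTwo → ∃ v, IsD tTwo v ∧ Commute v d ∧ ¬ Sig tTwo qModel d v
  four_other : ∀ w, IsD tTwo w → Commute w tTwo → w ≠ tTwo → (∀ a, ¬ Sig tTwo qModel (tTwo * w) a) →
    ∃ v, IsD tTwo v ∧ Commute v (tTwo * w) ∧ ¬ IsD tTwo (v * (tTwo * w))
  triangle : ∀ w w', IsD tTwo w → IsD tTwo w' → Commute w tTwo → Commute w' tTwo → Commute w w' →
    w ≠ tTwo → w' ≠ tTwo → w ≠ w' → (∀ a, ¬ Sig tTwo qModel (tTwo * w) a) →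
    (∀ a, ¬ Sig tTwo qModel (tTwo * w') a) → (∀ a, ¬ Sig tTwo qModel (w * w') a) → False
  classes : ∀ c, Commute c tTwo → c * c = 1 → c ≠ 1 →
    IsD tTwo c ∨ (∃ a, Sig tTwo qModel c a) ∨
      ∃ u v, IsD tTwo u ∧ IsD tTwo v ∧ Commute u v ∧ u ≠ v ∧ c = u * v
  exists_d : ∃ d, Sig tTwo qModel d tTwo ∧ ¬ IsD tTwo d

theorem mem_qModel {x : ↥Spor.Co2} : x ∈ qModel ↔ ∃ q : Cent, q ∈ toSymp.ker ∧ q.1 = x := Iff.rfl

theorem tTwo_sq : tTwo * tTwo = 1 := by
  have h := pow_orderOf_eq_one tTwo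
  rwa [orderOf_tTwo, pow_two] at h

theorem tTwo_ne : tTwo ≠ 1 := fun e => by
  have h := orderOf_tTwo
  rw [e, orderOf_one] at h
  norm_num at h

theorem mem_qModel_comm {x : ↥Spor.Co2} (hx : x ∈ qModel) : Commute x tTwo := by
  obtain ⟨q, -, rfl⟩ := hx
  exact Subgroup.mem_centralizer_singleton_iff.1 q.2

variable {G : Type*} [Group G] {S : LocalIso G} (E : S.Extension)

namespace LocalIso

theorem Extension.map_t : E.φ tTwo = S.z := E.extends_ tCent

theorem Extension.mem_range_of_comm {c : G} (hc : Commute c S.z) : ∃ x : Cent, E.φ x.1 = c := by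
  have : c ∈ S.θ.range := by rw [S.range]; exact Subgroup.mem_centralizer_singleton_iff.2 hc
  obtain ⟨x, rfl⟩ := this
  exact ⟨x, E.extends_ x⟩

/-- The extraspecial subgroup in `G`. -/
noncomputable def Extension.q : Subgroup G := qModel.map E.φ

theorem Extension.q_norm {c : G} (hc : Commute c S.z) {q : G} (hq : q ∈ E.q) : c * q * c⁻¹ ∈ E.q := by
  obtain ⟨x, rfl⟩ := E.mem_range_of_comm hc
  obtain ⟨_, ⟨y, hy, rfl⟩, rfl⟩ := hq
  exact ⟨x.1 * y.1 * x.1⁻¹, ⟨x * y * x⁻¹, (MonoidHom.normal_ker toSymp).conj_mem y hy x, rfl⟩, by simp⟩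

theorem Extension.map_isD {a : ↥Spor.Co2} (h : IsD tTwo a) : IsD S.z (E.φ a) := by
  obtain ⟨g, rfl⟩ := h
  exact ⟨E.φ g, by simp [E.map_t]⟩

theorem Extension.map_sig {d a : ↥Spor.Co2} (h : Sig tTwo qModel d a) : Sig S.z E.q (E.φ d) (E.φ a) := by
  obtain ⟨⟨g, rfl, hq⟩, h1, h2, h3⟩ := h
  exact ⟨⟨E.φ g, by simp [E.map_t], ⟨_, hq, by simp⟩⟩, fun e => h1 (E.inj (e.trans (map_one _).symm)),
    fun e => h2 (E.inj e), by rw [← map_mul, h3, map_one]⟩

theorem Extension.unmap_sig {d a : ↥Spor.Co2} (ha : IsD tTwo a) (h : Sig S.z E.q (E.φ d) (E.φ a)) :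
    Sig tTwo qModel d a := by
  obtain ⟨⟨g, hg, hq⟩, h1, h2, h3⟩ := h
  obtain ⟨k, rfl⟩ := ha
  refine ⟨⟨k, rfl, ?_⟩, fun e => h1 (by rw [e, map_one]), fun e => h2 (by rw [e]),
    E.inj (by rw [map_mul, h3, map_one])⟩
  have hc : Commute ((E.φ k)⁻¹ * g) S.z := by
    show (E.φ k)⁻¹ * g * S.z = S.z * ((E.φ k)⁻¹ * g)
    calc (E.φ k)⁻¹ * g * S.z = (E.φ k)⁻¹ * (g * S.z * g⁻¹) * g := by group
      _ = (E.φ k)⁻¹ * (E.φ k * S.z * (E.φ k)⁻¹) * g := by
        rw [hg]; simp only [map_mul, map_inv, E.map_t]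
      _ = _ := by group
  have h' := E.q_norm hc hq
  rw [show (E.φ k)⁻¹ * g * (g⁻¹ * E.φ d * g) * ((E.φ k)⁻¹ * g)⁻¹ = (E.φ k)⁻¹ * E.φ d * E.φ k by group] at h'
  obtain ⟨y, hy, e⟩ := h'
  have : y = k⁻¹ * d * k := E.inj (by rw [e, map_mul, map_mul, map_inv])
  exact this ▸ hy

theorem Extension.unmap_sig_t {d : ↥Spor.Co2} (h : Sig S.z E.q (E.φ d) S.z) : Sig tTwo qModel d tTwo :=
  E.unmap_sig ⟨1, by group⟩ (E.map_t.symm ▸ h)

theorem Extension.map_commute_iff {a b : ↥Spor.Co2} : Commute (E.φ a) (E.φ b) ↔ Commute a b :=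
  ⟨fun h => E.inj (by rw [map_mul, map_mul]; exact h), fun h => h.map E.φ⟩

theorem Extension.sig_qModel {d : ↥Spor.Co2} (h : Sig tTwo qModel d tTwo) : Commute d tTwo := by
  obtain ⟨⟨g, hg, hq⟩, -⟩ := h
  have := (Commute.conj_iff g).2 (mem_qModel_comm hq)
  rw [hg] at this
  simpa [mul_assoc] using this

variable [Finite G]

include E in
/-- A Sylow subgroup of the centraliser is one of `G`. -/
theorem Extension.exists_sylow (hF : ModelFacts) :
    ∃ P : Sylow 2 G, ∀ x ∈ (P : Subgroup G), Commute x S.z := by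
  classical
  haveI : Fact (Nat.Prime 2) := ⟨Nat.prime_two⟩
  set C := Subgroup.centralizer ({S.z} : Set G) with hC
  obtain ⟨T⟩ := (inferInstance : Nonempty (Sylow 2 C))
  set P₀ := (T : Subgroup C).map C.subtype with hP₀
  have hP₀C : P₀ ≤ C := Subgroup.map_subtype_le _
  -- the subgroup `Q` lies in it
  have hQ : E.q ≤ P₀ := by
    intro q hq
    have hqC : E.q ≤ C := by
      rintro _ ⟨y, hy, rfl⟩
      rw [hC, Subgroup.mem_centralizer_singleton_iff, ← E.map_t]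
      exact ((mem_qModel_comm hy).map E.φ).eq
    haveI : (E.q.subgroupOf C).Normal :=
      ⟨fun a ha c => E.q_norm (Subgroup.mem_centralizer_singleton_iff.1 c.2) ha⟩
    have hp : IsPGroup 2 (E.q.subgroupOf C) := by
      have h1 : IsPGroup 2 toSymp.ker := IsPGroup.of_card (n := 9) card_ker
      exact ((h1.map Cent.subtype).map E.φ).of_equiv (Subgroup.subgroupOfEquivOfLe hqC).symm
    have hle : E.q.subgroupOf C ≤ (T : Subgroup C) := by
      have := T.3 (IsPGroup.to_sup_of_normal_left hp T.2) le_sup_right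
      exact this ▸ le_sup_left
    exact ⟨⟨q, hqC hq⟩, hle (show (⟨q, hqC hq⟩ : C) ∈ E.q.subgroupOf C from hq), rfl⟩
  have hp₀ : IsPGroup 2 P₀ := T.2.map C.subtype
  obtain ⟨P, hP⟩ := hp₀.exists_le_sylow
  refine ⟨P, fun x hx => ?_⟩
  suffices h : P₀ = (P : Subgroup G) by
    exact Subgroup.mem_centralizer_singleton_iff.1 (hP₀C (h ▸ hx))
  by_contra hne
  haveI := P.2.isNilpotent
  have hlt : P₀.subgroupOf (P : Subgroup G) < ⊤ := lt_top_iff_ne_top.2 fun e =>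
    hne (le_antisymm hP (Subgroup.subgroupOf_eq_top.1 e))
  obtain ⟨y, hyN, hy⟩ := SetLike.exists_of_lt (Group.normalizerCondition_of_isNilpotent _ hlt)
  have hyn : ∀ p ∈ P₀, (y : G) * p * (y : G)⁻¹ ∈ P₀ := fun p hp =>
    (Subgroup.mem_normalizer_iff.1 hyN ⟨p, hP hp⟩).1 hp
  have hzQ : S.z ∈ E.q := ⟨tTwo, ⟨tCent, tCent_ker, rfl⟩, E.map_t⟩
  -- `z` is the only involution of the centre
  have hz : (y : G) * S.z * (y : G)⁻¹ = S.z := by
    set c := (y : G) * S.z * (y : G)⁻¹ with hc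
    have hcP : c ∈ P₀ := hyn _ (hQ hzQ)
    have hcq : ∀ q ∈ E.q, Commute c q := by
      intro q hq
      have hq' : (y : G)⁻¹ * q * (y : G) ∈ P₀ := by
        have := (Subgroup.mem_normalizer_iff''.1 hyN ⟨q, hP (hQ hq)⟩).1 (hQ hq)
        exact this
      have h1 : Commute S.z ((y : G)⁻¹ * q * (y : G)) :=
        (Subgroup.mem_centralizer_singleton_iff.1 (hP₀C hq')).symm
      have := (Commute.conj_iff (y : G)).2 h1
      simpa [mul_assoc, hc] using this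
    obtain ⟨x, hx⟩ := E.mem_range_of_comm (Subgroup.mem_centralizer_singleton_iff.1 (hP₀C hcP))
    have hxk : x ∈ toSymp.ker := hF.cent_ker x fun q hq => Subtype.ext (E.inj (by
      have := hcq (E.φ q.1) ⟨q.1, ⟨q, hq, rfl⟩, rfl⟩
      rw [← hx] at this
      simpa using this.eq))
    have hcen : (⟨x, hxk⟩ : toSymp.ker) ∈ Subgroup.center toSymp.ker :=
      Subgroup.mem_center_iff.2 fun q => Subtype.ext (Subtype.ext (E.inj (by
        have := hcq (E.φ q.1.1) ⟨q.1.1, ⟨q.1, q.2, rfl⟩, rfl⟩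
        rw [← hx] at this
        simpa using this.eq.symm)))
    rw [ker_center] at hcen
    obtain ⟨i, hi⟩ := Subgroup.mem_zpowers_iff.1 hcen
    have hx' : x.1 = tTwo ^ i := by
      have := congrArg (fun a : toSymp.ker => ((a : Cent) : ↥Spor.Co2)) hi
      simpa [tKer, tCent] using this.symm
    have hc1 : c = S.z ^ i := by rw [← hx, hx', map_zpow, E.map_t]
    rcases Int.even_or_odd i with ⟨j, rfl⟩ | ⟨j, rfl⟩
    · exfalso
      rw [← two_mul, zpow_mul, zpow_two, ← E.map_t, ← map_mul, tTwo_sq, map_one, one_zpow, hc,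
        mul_inv_eq_one, mul_eq_left] at hc1
      exact tTwo_ne (E.inj (E.map_t.trans (hc1.trans (map_one _).symm)))
    · rw [zpow_add, zpow_mul, zpow_two, ← E.map_t, ← map_mul, tTwo_sq, map_one, one_zpow, one_mul, zpow_one,
        E.map_t] at hc1
      exact hc1
  have hyC : (y : G) ∈ C := Subgroup.mem_centralizer_singleton_iff.2 (mul_inv_eq_iff_eq_mul.1 hz)
  have hmem : (⟨y, hyC⟩ : C) ∈ (T : Subgroup C) := by
    have hle : (T : Subgroup C) ≤ (P : Subgroup G).subgroupOf C := fun a ha => hP ⟨a, ha, rfl⟩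
    have := T.3 (P.2.comap_of_injective C.subtype (Subgroup.subtype_injective C)) hle
    exact this ▸ (show (⟨y, hyC⟩ : C) ∈ (P : Subgroup G).subgroupOf C from y.2)
  exact hy (show (y : G) ∈ P₀ from ⟨⟨y, hyC⟩, hmem, rfl⟩)

/-- Every element of the copy of two-power order is conjugate in it into the centraliser. -/
theorem Extension.conj_to_cent (hF : ModelFacts) {a : G} (ha : a ∈ E.φ.range) (h2 : a * a = 1) :
    ∃ m ∈ E.φ.range, Commute (m * a * m⁻¹) S.z := by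
  haveI : Fact (Nat.Prime 2) := ⟨Nat.prime_two⟩
  obtain ⟨P, hP⟩ := E.exists_sylow hF
  have hPM : (P : Subgroup G) ≤ E.φ.range := fun x hx => by
    obtain ⟨y, hy⟩ := E.mem_range_of_comm (hP x hx)
    exact ⟨y.1, hy⟩
  have hp : IsPGroup 2 (Subgroup.zpowers (⟨a, ha⟩ : E.φ.range)) := fun g => ⟨1, by
    obtain ⟨g, k, rfl⟩ := g
    refine Subtype.ext (Subtype.ext ?_)
    show (a ^ k) ^ (2 ^ 1) = 1
    rw [pow_one, ← zpow_natCast, ← zpow_mul, mul_comm, zpow_mul, zpow_natCast, pow_two, h2, one_zpow]⟩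
  obtain ⟨R, hR⟩ := hp.exists_le_sylow
  obtain ⟨m, hm⟩ := MulAction.exists_smul_eq E.φ.range R (P.subtype hPM)
  refine ⟨m.1, m.2, hP _ ?_⟩
  have h3 := Subgroup.smul_mem_pointwise_smul _ (MulAut.conj m) _ (hR (Subgroup.mem_zpowers _))
  have h4 : MulAut.conj m • (R : Subgroup E.φ.range) = ((P.subtype hPM : Sylow 2 E.φ.range) : Subgroup E.φ.range) := by
    rw [← hm]; rfl
  rw [h4] at h3
  exact h3

theorem Extension.unmap_isD (hF : ModelFacts) (hfus : S.Fusion) {a : ↥Spor.Co2} (h : IsD S.z (E.φ a)) :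
    IsD tTwo a := by
  obtain ⟨g, hg⟩ := h
  have h2 : E.φ a * E.φ a = 1 := by
    rw [← hg, show g * S.z * g⁻¹ * (g * S.z * g⁻¹) = g * (S.z * S.z) * g⁻¹ by group, ← E.map_t, ← map_mul,
      tTwo_sq, map_one]
    group
  obtain ⟨_, ⟨m, rfl⟩, hm⟩ := E.conj_to_cent hF ⟨a, rfl⟩ h2
  rw [← hg, show E.φ m * (g * S.z * g⁻¹) * (E.φ m)⁻¹ = E.φ m * g * S.z * (E.φ m * g)⁻¹ by group] at hm
  obtain ⟨x, hx, e⟩ := hfus _ hm
  obtain ⟨k, hk⟩ := isConj_iff.1 hx
  refine ⟨m⁻¹ * k, E.inj ?_⟩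
  rw [← hg, show E.φ (m⁻¹ * k * tTwo * (m⁻¹ * k)⁻¹) = (E.φ m)⁻¹ * E.φ (k * tTwo * k⁻¹) * E.φ m by
    simp [mul_assoc], hk, E.extends_ x, e]
  group

theorem Extension.data (hF : ModelFacts) (hfus : S.Fusion) : Data S.z E.q E.φ.range where
  z_sq := by rw [← E.map_t, ← map_mul, tTwo_sq, map_one]
  z_ne e := tTwo_ne (E.inj (E.map_t.trans (e.trans (map_one _).symm)))
  z_Q := ⟨tTwo, ⟨tCent, tCent_ker, rfl⟩, E.map_t⟩
  Q_comm := by
    rintro _ ⟨y, hy, rfl⟩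
    rw [← E.map_t]
    exact (mem_qModel_comm hy).map E.φ
  Q_norm c hc q hq := E.q_norm hc hq
  cent_le c hc := by
    obtain ⟨x, hx⟩ := E.mem_range_of_comm hc
    exact ⟨x.1, hx⟩
  conj_mem g hg := by
    obtain ⟨a, ha⟩ := hg
    obtain ⟨k, rfl⟩ := E.unmap_isD hF hfus (a := a) ⟨g, ha.symm⟩
    exact ⟨E.φ k, ⟨k, rfl⟩, by rw [← ha]; simp [E.map_t]⟩
  centre a ha h2 := by
    obtain ⟨m, hm, hc⟩ := E.conj_to_cent hF ha h2
    refine ⟨m⁻¹ * S.z * m, mul_mem (mul_mem (inv_mem hm) ⟨tTwo, E.map_t⟩) hm, ⟨m⁻¹, by group⟩, ?_⟩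
    have := (Commute.conj_iff m⁻¹).2 hc
    simpa [mul_assoc] using this
  sig_comm := by
    rintro _ ⟨d, hd, rfl⟩ _ ⟨a, rfl⟩ h1 h2
    rw [← E.map_t]
    exact (hF.sig_comm d a (E.unmap_sig_t h1)
      (E.unmap_sig (E.unmap_isD hF hfus h2.isD) h2)).map E.φ
  pair := by
    rintro _ ⟨d, hd, rfl⟩ _ ⟨a, rfl⟩ h1 h2 hc hne
    rw [← E.map_t] at hc hne
    rw [← E.map_t, ← map_mul, ← map_mul, E.map_t]
    exact E.map_isD (hF.pair d a (E.unmap_sig_t h1) (E.unmap_sig (E.unmap_isD hF hfus h2.isD) h2)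
      (E.map_commute_iff.1 hc) fun e => hne (by rw [e]))
  witness := by
    rintro _ ⟨d, hd, rfl⟩ h1 w hw hwz hwd hne hnS
    obtain ⟨w', rfl⟩ : ∃ w', E.φ w' = w := (E.mem_range_of_comm hwz).elim fun x hx => ⟨x.1, hx⟩
    rw [← E.map_t] at hwz hne
    obtain ⟨a, ha, hac⟩ := hF.witness d (E.unmap_sig_t h1) w' (E.unmap_isD hF hfus hw)
      (E.map_commute_iff.1 hwz) (E.map_commute_iff.1 hwd) (fun e => hne (by rw [e]))
      (fun h => hnS (E.map_sig h))
    refine ⟨E.φ a, ⟨a, rfl⟩, E.map_sig ha, fun h => hac (E.unmap_isD hF hfus ?_)⟩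
    rw [map_mul, map_mul, E.map_t]
    exact h
  q_other := by
    rintro _ ⟨d, hd, rfl⟩ h1
    obtain ⟨v, hv, hc, hn⟩ := hF.q_other d (E.unmap_sig_t h1)
    exact ⟨E.φ v, ⟨v, rfl⟩, E.map_isD hv, hc.map E.φ, fun h => hn (E.unmap_sig hv h)⟩
  four_other w hw hwz hne hnS := by
    obtain ⟨w', rfl⟩ : ∃ w', E.φ w' = w := (E.mem_range_of_comm hwz).elim fun x hx => ⟨x.1, hx⟩
    rw [← E.map_t] at hwz hne
    rw [← E.map_t, ← map_mul, E.map_t] at hnS ⊢
    obtain ⟨v, hv, hc, hn⟩ := hF.four_other w' (E.unmap_isD hF hfus hw) (E.map_commute_iff.1 hwz)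
      (fun e => hne (by rw [e])) fun a ha => hnS _ (E.map_sig ha)
    exact ⟨E.φ v, ⟨v, rfl⟩, E.map_isD hv, hc.map E.φ,
      fun h => hn (E.unmap_isD hF hfus (by rwa [map_mul]))⟩
  triangle w w' hw hw' hwz hwz' hww hne hne' hne2 h1 h2 h3 := by
    obtain ⟨u, rfl⟩ : ∃ u, E.φ u = w := (E.mem_range_of_comm hwz).elim fun x hx => ⟨x.1, hx⟩
    obtain ⟨u', rfl⟩ : ∃ u', E.φ u' = w' := (E.mem_range_of_comm hwz').elim fun x hx => ⟨x.1, hx⟩
    rw [← E.map_t] at hwz hwz' hne hne'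
    rw [← E.map_t, ← map_mul, E.map_t] at h1 h2
    rw [← map_mul] at h3
    exact hF.triangle u u' (E.unmap_isD hF hfus hw) (E.unmap_isD hF hfus hw') (E.map_commute_iff.1 hwz)
      (E.map_commute_iff.1 hwz') (E.map_commute_iff.1 hww) (fun e => hne (by rw [e])) (fun e => hne' (by rw [e]))
      (fun e => hne2 (by rw [e])) (fun a ha => h1 _ (E.map_sig ha)) (fun a ha => h2 _ (E.map_sig ha))
      fun a ha => h3 _ (E.map_sig ha)
  classes c hc h2 hne := by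
    obtain ⟨c', rfl⟩ : ∃ c', E.φ c' = c := (E.mem_range_of_comm hc).elim fun x hx => ⟨x.1, hx⟩
    rw [← E.map_t] at hc
    rcases hF.classes c' (E.map_commute_iff.1 hc) (E.inj (by rw [map_mul, h2, map_one]))
      (fun e => hne (by rw [e, map_one])) with h | ⟨a, ha⟩ | ⟨u, v, hu, hv, huv, hne', e⟩
    · exact Or.inl (E.map_isD h)
    · exact Or.inr (Or.inl ⟨_, E.map_sig ha⟩)
    · exact Or.inr (Or.inr ⟨_, _, E.map_isD hu, E.map_isD hv, huv.map E.φ, fun h => hne' (E.inj h),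
        by rw [e, map_mul]⟩)
  exists_d := by
    obtain ⟨d, hd, hn⟩ := hF.exists_d
    obtain ⟨⟨g, hg, hq⟩, -⟩ := id hd
    have hgc : Commute g tTwo := mul_inv_eq_iff_eq_mul.1 hg
    obtain ⟨y, hy, e⟩ := hq
    let g' : Cent := ⟨g, Subgroup.mem_centralizer_singleton_iff.2 hgc.eq⟩
    have hdq : d ∈ qModel := ⟨g' * y * g'⁻¹, (MonoidHom.normal_ker toSymp).conj_mem y hy g', by
      show g * y.1 * g⁻¹ = d
      rw [show y.1 = g⁻¹ * d * g from e]; group⟩
    refine ⟨E.φ d, ⟨d, hdq, rfl⟩, ?_, fun h => hn (E.unmap_isD hF hfus h)⟩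
    have := E.map_sig hd
    rwa [E.map_t] at this

/-- The copy of the model is the whole group. -/
theorem Extension.range_eq_top_of_facts (hF : ModelFacts) (hfus : S.Fusion) : E.φ.range = ⊤ :=
  (E.data hF hfus).eq_top

end LocalIso

end Cfsg.Lib.CoTwoType
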