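import Cfsg.Agent.Lib.Extra.CoOneUniq.Dihedral

/-!
# Descent to a subgroup containing the centralizer of its involution

`M` contains the centralizer of `z`. A product of `z` with a noncentral involution of `Q`, or of two
commuting conjugates of `z`, fixes one coset of `M`; then a dihedral pair at two cosets is impossible.
-/

set_option autoImplicit false
set_option linter.style.haveILetI false

namespace Cfsg.Lib.CoTwoType.Descent

open Cfsg.Lib.CoOneUniq

variable {G : Type*} [Group G]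

/-- A conjugate of `z`. -/
def IsD (z a : G) : Prop := ∃ g : G, g * z * g⁻¹ = a

/-- `d` lies in the subgroup `Q` of the conjugate `a`, apart from `1` and `a`. -/
def Sig (z : G) (Q : Subgroup G) (d a : G) : Prop :=
  (∃ g : G, g * z * g⁻¹ = a ∧ g⁻¹ * d * g ∈ Q) ∧ d ≠ 1 ∧ d ≠ a ∧ d * d = 1

variable {z : G} {Q : Subgroup G}

theorem IsD.conj {a : G} (k : G) (h : IsD z a) : IsD z (k * a * k⁻¹) := by
  obtain ⟨g, rfl⟩ := h
  exact ⟨k * g, by group⟩

theorem Sig.isD {d a : G} (h : Sig z Q d a) : IsD z a := by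
  obtain ⟨⟨g, hg, -⟩, -⟩ := h
  exact ⟨g, hg⟩

theorem Sig.conj {d a : G} (k : G) (h : Sig z Q d a) : Sig z Q (k * d * k⁻¹) (k * a * k⁻¹) := by
  obtain ⟨⟨g, hg, hd⟩, h1, h2, h3⟩ := h
  refine ⟨⟨k * g, by rw [← hg]; group, ?_⟩, fun e => h1 ?_, fun e => h2 (mul_left_cancel (mul_right_cancel e)), ?_⟩
  · rw [show (k * g)⁻¹ * (k * d * k⁻¹) * (k * g) = g⁻¹ * d * g by group]; exact hd
  · calc d = k⁻¹ * (k * d * k⁻¹) * k := by group
      _ = 1 := by rw [e]; group
  · rw [show k * d * k⁻¹ * (k * d * k⁻¹) = k * (d * d) * k⁻¹ by group, h3]; group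

theorem Sig.unconj {d a : G} (k : G) (h : Sig z Q (k * d * k⁻¹) (k * a * k⁻¹)) : Sig z Q d a := by
  have := h.conj k⁻¹
  simpa [mul_assoc] using this

theorem IsD.inv_conj {a : G} (k : G) (h : IsD z a) : IsD z (k⁻¹ * a * k) := by
  simpa using h.conj k⁻¹

theorem Sig.inv_conj {d a : G} (k : G) (h : Sig z Q d a) : Sig z Q (k⁻¹ * d * k) (k⁻¹ * a * k) := by
  simpa using h.conj k⁻¹

theorem comm_inv_conj {a b : G} (k : G) (h : Commute a b) : Commute (k⁻¹ * a * k) (k⁻¹ * b * k) := by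
  simpa using (Commute.conj_iff k⁻¹).2 h

/-- What the descent needs. -/
structure Data (z : G) (Q M : Subgroup G) : Prop where
  z_sq : z * z = 1
  z_ne : z ≠ 1
  z_Q : z ∈ Q
  Q_comm : ∀ q ∈ Q, Commute q z
  Q_norm : ∀ c, Commute c z → ∀ q ∈ Q, c * q * c⁻¹ ∈ Q
  cent_le : ∀ c, Commute c z → c ∈ M
  conj_mem : ∀ g, g * z * g⁻¹ ∈ M → ∃ m ∈ M, m * z * m⁻¹ = g * z * g⁻¹
  centre : ∀ a ∈ M, a * a = 1 → ∃ u ∈ M, IsD z u ∧ Commute a u
  sig_comm : ∀ d ∈ Q, ∀ a ∈ M, Sig z Q d z → Sig z Q d a → Commute z a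
  pair : ∀ d ∈ Q, ∀ a ∈ M, Sig z Q d z → Sig z Q d a → Commute z a → a ≠ z → IsD z (z * a * d)
  witness : ∀ d ∈ Q, Sig z Q d z → ∀ w, IsD z w → Commute w z → Commute w d → w ≠ z → ¬ Sig z Q d w →
    ∃ a ∈ M, Sig z Q d a ∧ ¬ IsD z (a * (z * w))
  q_other : ∀ d ∈ Q, Sig z Q d z → ∃ v ∈ M, IsD z v ∧ Commute v d ∧ ¬ Sig z Q d v
  four_other : ∀ w, IsD z w → Commute w z → w ≠ z → (∀ a, ¬ Sig z Q (z * w) a) →
    ∃ v ∈ M, IsD z v ∧ Commute v (z * w) ∧ ¬ IsD z (v * (z * w))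
  triangle : ∀ w w', IsD z w → IsD z w' → Commute w z → Commute w' z → Commute w w' → w ≠ z → w' ≠ z →
    w ≠ w' → (∀ a, ¬ Sig z Q (z * w) a) → (∀ a, ¬ Sig z Q (z * w') a) → (∀ a, ¬ Sig z Q (w * w') a) → False
  classes : ∀ c, Commute c z → c * c = 1 → c ≠ 1 →
    IsD z c ∨ (∃ a, Sig z Q c a) ∨ ∃ u v, IsD z u ∧ IsD z v ∧ Commute u v ∧ u ≠ v ∧ c = u * v
  exists_d : ∃ d ∈ Q, Sig z Q d z ∧ ¬ IsD z d

variable {M : Subgroup G}

namespace Data

theorem d_sq (D : Data z Q M) {a : G} (h : IsD z a) : a * a = 1 ∧ a ≠ 1 := by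
  obtain ⟨g, rfl⟩ := h
  refine ⟨by rw [show g * z * g⁻¹ * (g * z * g⁻¹) = g * (z * z) * g⁻¹ by group, D.z_sq]; group,
    fun e => D.z_ne ?_⟩
  calc z = g⁻¹ * (g * z * g⁻¹) * g := by group
    _ = 1 := by rw [e]; group

/-- A conjugate of `z` in `M` is conjugate in `M`. -/
theorem exists_conj (D : Data z Q M) {a : G} (ha : IsD z a) (haM : a ∈ M) :
    ∃ m ∈ M, m⁻¹ * a * m = z := by
  obtain ⟨g, rfl⟩ := ha
  obtain ⟨m, hm, e⟩ := D.conj_mem g haM
  exact ⟨m, hm, by rw [← e]; group⟩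

/-- A conjugate of `z` fixes one coset. -/
theorem point (D : Data z Q M) {a g : G} (ha : IsD z a) (haM : a ∈ M) (hg : g⁻¹ * a * g ∈ M) : g ∈ M := by
  obtain ⟨m, hm, e⟩ := D.exists_conj ha haM
  obtain ⟨n, hn, e'⟩ := D.exists_conj (ha.inv_conj g) hg
  have hc : Commute (m⁻¹ * g * n) z := by
    show m⁻¹ * g * n * z = z * (m⁻¹ * g * n)
    conv_lhs => rw [← e']
    conv_rhs => rw [← e]
    group
  have := mul_mem (mul_mem hm (D.cent_le _ hc)) (inv_mem hn)
  rwa [show m * (m⁻¹ * g * n) * n⁻¹ = g by group] at this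

/-- Two cosets fixed by a conjugate of `z`. -/
theorem unique (D : Data z Q M) {a g h : G} (ha : IsD z a) (hg : g⁻¹ * a * g ∈ M) (hh : h⁻¹ * a * h ∈ M) :
    g⁻¹ * h ∈ M :=
  D.point (ha.inv_conj g) hg (by rwa [show (g⁻¹ * h)⁻¹ * (g⁻¹ * a * g) * (g⁻¹ * h) = h⁻¹ * a * h by group])

/-- What commutes with a conjugate of `z` fixes its coset. -/
theorem fix_comm (D : Data z Q M) {a c g : G} (ha : IsD z a) (hg : g⁻¹ * a * g ∈ M) (hc : Commute c a) :
    g⁻¹ * c * g ∈ M := by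
  refine D.point (ha.inv_conj g) hg ?_
  rw [show (g⁻¹ * c * g)⁻¹ * (g⁻¹ * a * g) * (g⁻¹ * c * g) = g⁻¹ * (c⁻¹ * (a * c)) * g by group, ← hc.eq,
    inv_mul_cancel_left]
  exact hg

theorem mem_of_comm (D : Data z Q M) {a c : G} (ha : IsD z a) (haM : a ∈ M) (hc : Commute c a) : c ∈ M := by
  simpa using D.fix_comm (g := 1) ha (by simpa using haM) hc

theorem sig_of_z (D : Data z Q M) {d : G} (h : Sig z Q d z) : d ∈ Q := by
  obtain ⟨⟨g, hg, hd⟩, -⟩ := h
  have hc : Commute g z := mul_inv_eq_iff_eq_mul.1 hg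
  have := D.Q_norm g hc _ hd
  rwa [show g * (g⁻¹ * d * g) * g⁻¹ = d by group] at this

theorem z_sig_comm (D : Data z Q M) {d : G} (hs : Sig z Q d z) {a : G} (ha : a ∈ M) (h : Sig z Q d a) :
    Commute z a := D.sig_comm d (D.sig_of_z hs) a ha hs h

/-- Members of the set of `d` at one coset commute. -/
theorem sig_comm_at (D : Data z Q M) {d a b g : G} (ha : Sig z Q d a) (hb : Sig z Q d b)
    (hga : g⁻¹ * a * g ∈ M) (hgb : g⁻¹ * b * g ∈ M) : Commute a b := by
  obtain ⟨m, hm, e⟩ := D.exists_conj (ha.isD.inv_conj g) hga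
  have h1 := (ha.inv_conj g).inv_conj m
  have h2 := (hb.inv_conj g).inv_conj m
  rw [e] at h1
  have h3 := D.z_sig_comm h1 (mul_mem (mul_mem (inv_mem hm) hgb) hm) h2
  rw [← e] at h3
  have h4 := (Commute.conj_iff m).2 h3
  have h5 := (Commute.conj_iff g).2 h4
  simpa [mul_assoc] using h5

/-- The third member of two commuting ones. -/
theorem sig_pair_at (D : Data z Q M) {d a b g : G} (ha : Sig z Q d a) (hb : Sig z Q d b)
    (hga : g⁻¹ * a * g ∈ M) (hgb : g⁻¹ * b * g ∈ M) (hne : b ≠ a) : IsD z (a * b * d) := by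
  have hc := D.sig_comm_at ha hb hga hgb
  obtain ⟨m, hm, e⟩ := D.exists_conj (ha.isD.inv_conj g) hga
  have h1 := (ha.inv_conj g).inv_conj m
  have h2 := (hb.inv_conj g).inv_conj m
  rw [e] at h1
  have hc2 : Commute z (m⁻¹ * (g⁻¹ * b * g) * m) := by rw [← e]; exact comm_inv_conj m (comm_inv_conj g hc)
  have h3 := (D.pair _ (D.sig_of_z h1) _ (mul_mem (mul_mem (inv_mem hm) hgb) hm) h1 h2 hc2 (fun h => hne (by
    have h' := e ▸ h
    exact mul_left_cancel (mul_right_cancel (mul_left_cancel (mul_right_cancel h')))))).conj (g * m)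
  have hexp : g * m * (z * (m⁻¹ * (g⁻¹ * b * g) * m) * (m⁻¹ * (g⁻¹ * d * g) * m)) * (g * m)⁻¹ = a * b * d := by
    rw [← e]; group
  rwa [hexp] at h3

theorem comm_of_sig (D : Data z Q M) {d a : G} (h : Sig z Q d a) : Commute d a := by
  obtain ⟨⟨g, rfl, hd⟩, -⟩ := h
  have := (Commute.conj_iff g).2 (D.Q_comm _ hd)
  simpa [mul_assoc] using this

theorem z_mem (D : Data z Q M) : z ∈ M := D.cent_le z (Commute.refl z)

theorem isD_z (_ : Data z Q M) : IsD z z := ⟨1, by group⟩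

theorem mul_sq {a b : G} (ha : a * a = 1) (hb : b * b = 1) (h : Commute a b) : a * b * (a * b) = 1 := by
  rw [mul_assoc a b, ← mul_assoc b a, ← h.eq, mul_assoc a b b, hb, mul_one, ha]

variable [Finite G]

/-- An involution in the subgroup `Q` of `z` fixes only the coset `M`. -/
theorem sig_point_z (D : Data z Q M) {d : G} (hs : Sig z Q d z) {g : G} (hg : g⁻¹ * d * g ∈ M) : g ∈ M := by
  by_contra hgM
  have hdz : Commute d z := D.comm_of_sig hs
  have hdM : d ∈ M := D.cent_le d hdz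
  obtain ⟨v, hvD, hvg, hvd, hvS⟩ : ∃ v, IsD z v ∧ g⁻¹ * v * g ∈ M ∧ Commute v d ∧ ¬ Sig z Q d v := by
    obtain ⟨v', hv'M, hv'D, hv'c, hv'S⟩ : ∃ v' ∈ M, IsD z v' ∧ Commute v' (g⁻¹ * d * g) ∧
        ¬ Sig z Q (g⁻¹ * d * g) v' := by
      obtain ⟨u, huM, huD, huc⟩ := D.centre _ hg (by
        rw [show g⁻¹ * d * g * (g⁻¹ * d * g) = g⁻¹ * (d * d) * g by group, hs.2.2.2]; group)
      by_cases hS : Sig z Q (g⁻¹ * d * g) u
      · obtain ⟨m, hm, e⟩ := D.exists_conj huD huM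
        have h1 := hS.inv_conj m
        rw [e] at h1
        obtain ⟨v, hv, hvD, hvc, hvS⟩ := D.q_other _ (D.sig_of_z h1) h1
        refine ⟨m * v * m⁻¹, mul_mem (mul_mem hm hv) (inv_mem hm), hvD.conj m, ?_,
          fun h => hvS (by have := h.inv_conj m; rwa [show m⁻¹ * (m * v * m⁻¹) * m = v by group] at this)⟩
        have := (Commute.conj_iff m).2 hvc
        simpa [mul_assoc] using this
      · exact ⟨u, huM, huD, huc.symm, hS⟩
    refine ⟨g * v' * g⁻¹, hv'D.conj g, by rwa [show g⁻¹ * (g * v' * g⁻¹) * g = v' by group], ?_,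
      fun h => hv'S (by have := h.inv_conj g; rwa [show g⁻¹ * (g * v' * g⁻¹) * g = v' by group] at this)⟩
    have := (Commute.conj_iff g).2 hv'c
    simpa [mul_assoc] using this
  -- no conjugate of `z` times `d` fixes both cosets
  have hno : ∀ s, s ∈ M → g⁻¹ * s * g ∈ M → ¬ IsD z (s * d) := fun s h1 h2 h =>
    hgM (D.point h (mul_mem h1 hdM) (by
      rw [show g⁻¹ * (s * d) * g = g⁻¹ * s * g * (g⁻¹ * d * g) by group]
      exact mul_mem h2 hg))
  have key : ∀ a ∈ M, Sig z Q d a → ∃ s, s ∈ M ∧ g⁻¹ * s * g ∈ M ∧ Commute s a ∧ Commute s v ∧ Commute d s ∧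
      s ≠ 1 ∧ IsD z (a * s) ∧ Sig z Q d (v * s) := by
    intro a haM ha
    have hsq := D.d_sq ha.isD
    have hcon : ∀ {k b : G}, k * a * k⁻¹ = b → (∀ f : G, Commute f a → Commute f v → Commute f k) →
        Sig z Q d b := by
      intro k b hk hkc
      have h1 := ha.conj k
      rwa [hk, show k * d * k⁻¹ = d by rw [← (hkc d (D.comm_of_sig ha) hvd.symm).eq, mul_inv_cancel_right]] at h1
    rcases pair_cases hsq.1 (D.d_sq hvD).1 with ⟨k, hk, hkc⟩ | ⟨s, hs1, -, hsa, hsv, hsf, hcases⟩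
    · exact absurd (hcon hk hkc) hvS
    have hsM := D.mem_of_comm ha.isD haM hsa
    have hsg := D.fix_comm hvD hvg hsv
    have hds := hsf d (D.comm_of_sig ha) hvd.symm
    rcases hcases with ⟨⟨k, hk, hkc⟩, ⟨l, hl, -⟩⟩ | ⟨⟨k, hk, hkc⟩, -⟩
    · exact ⟨s, hsM, hsg, hsa, hsv, hds, hs1, hl ▸ hvD.conj l, hcon hk hkc⟩
    · exfalso
      have h := D.sig_pair_at (g := 1) ha (hcon hk hkc) (by simpa using haM) (by simpa using mul_mem haM hsM)
        (fun e => hs1 (mul_eq_left.1 e))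
      rw [← mul_assoc, hsq.1, one_mul] at h
      exact hno s hsM hsg h
  obtain ⟨s, hsM, hsg, hsz, hsv, hds, hs1, hzs, hσ⟩ := key z D.z_mem hs
  have hprod : ∀ a ∈ M, Sig z Q d a → IsD z (a * s) := by
    intro a haM ha
    obtain ⟨s', hs'M, hs'g, -, -, -, -, has', hσ'⟩ := key a haM ha
    by_cases e : s' = s
    · exact e ▸ has'
    exfalso
    have hvsg : ∀ r : G, g⁻¹ * r * g ∈ M → g⁻¹ * (v * r) * g ∈ M := fun r hr => by
      rw [show g⁻¹ * (v * r) * g = g⁻¹ * v * g * (g⁻¹ * r * g) by group]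
      exact mul_mem hvg hr
    have h := D.sig_pair_at hσ hσ' (hvsg s hsg) (hvsg s' hs'g) (fun h' => e (mul_left_cancel h'))
    rw [show v * s * (v * s') * d = (v * s * v) * s' * d by group, ← hsv.eq, mul_assoc s v v,
      (D.d_sq hvD).1, mul_one] at h
    exact hno (s * s') (mul_mem hsM hs'M) (by
      rw [show g⁻¹ * (s * s') * g = g⁻¹ * s * g * (g⁻¹ * s' * g) by group]
      exact mul_mem hsg hs'g) h
  have hnS : ¬ Sig z Q d (z * s) := fun h => by
    have h' := D.sig_pair_at (g := 1) hs h (by simpa using D.z_mem) (by simpa using mul_mem D.z_mem hsM)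
      (fun e => hs1 (mul_eq_left.1 e))
    rw [← mul_assoc, D.z_sq, one_mul] at h'
    exact hno s hsM hsg h'
  obtain ⟨a, haM, ha, hac⟩ := D.witness d (D.sig_of_z hs) hs (z * s) hzs ((Commute.refl z).mul_left hsz)
    (hdz.mul_right hds).symm (fun e => hs1 (mul_eq_left.1 e)) hnS
  exact hac (by rw [← mul_assoc z z s, D.z_sq, one_mul]; exact hprod a haM ha)

/-- An involution in the subgroup `Q` of a conjugate of `z` fixes one coset. -/
theorem sig_point (D : Data z Q M) {d a g h : G} (ha : Sig z Q d a) (hg : g⁻¹ * d * g ∈ M)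
    (hh : h⁻¹ * d * h ∈ M) : g⁻¹ * h ∈ M := by
  obtain ⟨k, hk⟩ := ha.isD
  have h1 := ha.inv_conj k
  rw [show k⁻¹ * a * k = z by rw [← hk]; group] at h1
  have key : ∀ x : G, x⁻¹ * d * x ∈ M → k⁻¹ * x ∈ M := fun x hx =>
    D.sig_point_z h1 (by rwa [show (k⁻¹ * x)⁻¹ * (k⁻¹ * d * k) * (k⁻¹ * x) = x⁻¹ * d * x by group])
  have := mul_mem (inv_mem (key g hg)) (key h hh)
  rwa [show (k⁻¹ * g)⁻¹ * (k⁻¹ * h) = g⁻¹ * h by group] at this

/-- The product of `z` and a commuting conjugate fixes one coset. -/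
theorem prod_point_z (D : Data z Q M) {w : G} (hwD : IsD z w) (hwc : Commute w z) (hwz : w ≠ z) {g : G}
    (hg : g⁻¹ * (z * w) * g ∈ M) : g ∈ M := by
  by_contra hgM
  set x := z * w with hxdef
  have hxM : x ∈ M := mul_mem D.z_mem (D.cent_le w hwc)
  have hbad : ∀ r, r ∈ M → g⁻¹ * r * g ∈ M → ∀ a, ¬ Sig z Q r a := fun r h1 h2 a ha => hgM (by
    simpa using D.sig_point ha (g := 1) (by simpa using h1) h2)
  have hxx : x * x = 1 := mul_sq D.z_sq (D.d_sq hwD).1 hwc.symm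
  have hzx : z * x = w := by rw [hxdef, ← mul_assoc, D.z_sq, one_mul]
  have hx1 : x ≠ 1 := fun e => hwz (by rw [← hzx, e, mul_one])
  have hcxz : Commute x z := (Commute.refl z).mul_left hwc
  obtain ⟨v, hvD, hvg, hvx, hvn⟩ : ∃ v, IsD z v ∧ g⁻¹ * v * g ∈ M ∧ Commute v x ∧ ¬ IsD z (v * x) := by
    obtain ⟨v', hv'M, hv'D, hv'c, hv'n⟩ : ∃ v' ∈ M, IsD z v' ∧ Commute v' (g⁻¹ * x * g) ∧
        ¬ IsD z (v' * (g⁻¹ * x * g)) := by
      set x' := g⁻¹ * x * g with hx'
      obtain ⟨u, huM, huD, huc⟩ := D.centre x' hg (by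
        rw [hx', show g⁻¹ * x * g * (g⁻¹ * x * g) = g⁻¹ * (x * x) * g by group, hxx]; group)
      by_cases hD : IsD z (u * x')
      · obtain ⟨m, hm, e⟩ := D.exists_conj huD huM
        have h0 : z * (m⁻¹ * (u * x') * m) = m⁻¹ * x' * m := by
          rw [← e, show m⁻¹ * u * m * (m⁻¹ * (u * x') * m) = m⁻¹ * (u * u * x') * m by group,
            (D.d_sq huD).1, one_mul]
        obtain ⟨v, hv, hvD, hvc, hvn⟩ := D.four_other (m⁻¹ * (u * x') * m) (hD.inv_conj m) (by
            rw [← e]; exact comm_inv_conj m ((Commute.refl u).mul_left huc))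
          (fun h => hx1 (by
            rw [← e] at h
            have h' : x' = 1 := mul_eq_left.1 (mul_left_cancel (mul_right_cancel h))
            calc x = g * x' * g⁻¹ := by rw [hx']; group
              _ = 1 := by rw [h']; group))
          (fun a ha => by
            rw [h0] at ha
            have h' := (ha.conj m).conj g
            rw [show g * (m * (m⁻¹ * x' * m) * m⁻¹) * g⁻¹ = x by rw [hx']; group] at h'
            exact hbad x hxM hg _ h')
        rw [h0] at hvc hvn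
        refine ⟨m * v * m⁻¹, mul_mem (mul_mem hm hv) (inv_mem hm), hvD.conj m, ?_, fun h => hvn ?_⟩
        · have := (Commute.conj_iff m).2 hvc
          simpa [mul_assoc] using this
        · have := h.inv_conj m
          rwa [show m⁻¹ * (m * v * m⁻¹ * x') * m = v * (m⁻¹ * x' * m) by group] at this
      · exact ⟨u, huM, huD, huc.symm, hD⟩
    refine ⟨g * v' * g⁻¹, hv'D.conj g, by rwa [show g⁻¹ * (g * v' * g⁻¹) * g = v' by group], ?_,
      fun h => hv'n (by
        have := h.inv_conj g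
        rwa [show g⁻¹ * (g * v' * g⁻¹ * x) * g = v' * (g⁻¹ * x * g) by group] at this)⟩
    have := (Commute.conj_iff g).2 hv'c
    simpa [mul_assoc] using this
  have hmove : ∀ {k a b : G}, k * a * k⁻¹ = b → (∀ f : G, Commute f z → Commute f v → Commute f k) →
      IsD z (a * x) → IsD z (b * x) := by
    intro k a b hk hkc hD
    have := hD.conj k
    rwa [show k * (a * x) * k⁻¹ = k * a * k⁻¹ * (k * x * k⁻¹) by group, hk,
      show k * x * k⁻¹ = x by rw [← (hkc x hcxz hvx.symm).eq, mul_inv_cancel_right]] at this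
  have hzxD : IsD z (z * x) := hzx.symm ▸ hwD
  rcases pair_cases D.z_sq (D.d_sq hvD).1 with ⟨k, hk, hkc⟩ | ⟨s, hs1, -, hsz, hsv, hsf, hcases⟩
  · exact hvn (hmove hk hkc hzxD)
  have hsM : s ∈ M := D.cent_le s hsz
  have hsg := D.fix_comm hvD hvg hsv
  have hxs : Commute x s := hsf x hcxz hvx.symm
  have hsxg : g⁻¹ * (s * x) * g ∈ M := by
    rw [show g⁻¹ * (s * x) * g = g⁻¹ * s * g * (g⁻¹ * x * g) by group]
    exact mul_mem hsg hg
  rcases hcases with ⟨⟨k, hk, hkc⟩, -⟩ | ⟨⟨k, hk, hkc⟩, ⟨l, hl, -⟩⟩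
  · have h1 : IsD z (v * s) := hk ▸ D.isD_z.conj k
    have h2 : IsD z (v * s * x) := hmove hk hkc hzxD
    obtain ⟨m, hm, e⟩ := D.exists_conj (hvD.inv_conj g) hvg
    set K := g * m with hK
    have hKv : K⁻¹ * v * K = z := by rw [← e, hK]; group
    have hv2 := (D.d_sq hvD).1
    have hp1 : z * (K⁻¹ * (v * s) * K) = K⁻¹ * s * K := by
      rw [← hKv, show K⁻¹ * v * K * (K⁻¹ * (v * s) * K) = K⁻¹ * (v * v * s) * K by group, hv2, one_mul]
    have hp2 : z * (K⁻¹ * (v * s * x) * K) = K⁻¹ * (s * x) * K := by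
      rw [← hKv, show K⁻¹ * v * K * (K⁻¹ * (v * s * x) * K) = K⁻¹ * (v * v * (s * x)) * K by group, hv2, one_mul]
    have hp3 : K⁻¹ * (v * s) * K * (K⁻¹ * (v * s * x) * K) = K⁻¹ * x * K := by
      rw [show K⁻¹ * (v * s) * K * (K⁻¹ * (v * s * x) * K) = K⁻¹ * (v * s * (v * s) * x) * K by group,
        (D.d_sq h1).1, one_mul]
    refine D.triangle _ _ (h1.inv_conj K) (h2.inv_conj K)
      (hKv ▸ comm_inv_conj K ((Commute.refl v).mul_left hsv))
      (hKv ▸ comm_inv_conj K (((Commute.refl v).mul_left hsv).mul_left hvx.symm))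
      (comm_inv_conj K ((Commute.refl (v * s)).mul_right (hvx.mul_left hxs.symm)))
      (fun h => ?_) (fun h => ?_) (fun h => ?_) (fun a ha => ?_) (fun a ha => ?_) (fun a ha => ?_)
    · rw [← hKv] at h
      exact hs1 (mul_eq_left.1 (mul_left_cancel (mul_right_cancel h)))
    · rw [← hKv] at h
      have h' : v * s * x = v := mul_left_cancel (mul_right_cancel h)
      rw [mul_assoc, mul_eq_left] at h'
      have : s = x := by rw [← mul_one s, ← hxx, ← mul_assoc, h', one_mul]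
      exact hvn (this ▸ h1)
    · exact hx1 (mul_eq_left.1 (mul_left_cancel (mul_right_cancel h)).symm)
    · rw [hp1] at ha
      have := ha.conj K
      rw [show K * (K⁻¹ * s * K) * K⁻¹ = s by group] at this
      exact hbad s hsM hsg _ this
    · rw [hp2] at ha
      have := ha.conj K
      rw [show K * (K⁻¹ * (s * x) * K) * K⁻¹ = s * x by group] at this
      exact hbad _ (mul_mem hsM hxM) hsxg _ this
    · rw [hp3] at ha
      have := ha.conj K
      rw [show K * (K⁻¹ * x * K) * K⁻¹ = x by group] at this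
      exact hbad x hxM hg _ this
  · have h1 : IsD z (z * s) := hk ▸ D.isD_z.conj k
    have hws : Commute w (z * s) := hwc.mul_right (by
      rw [← hzx]; exact (hsz.symm).mul_left hxs)
    refine D.triangle w (z * s) hwD h1 hwc ((Commute.refl z).mul_left hsz) hws hwz
      (fun e => hs1 (mul_eq_left.1 e)) (fun e => hvn ?_) (hbad x hxM hg) (fun a ha => ?_) (fun a ha => ?_)
    · have : s = x := by rw [hxdef, e, ← mul_assoc, D.z_sq, one_mul]
      exact this ▸ (hl ▸ hvD.conj l)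
    · rw [← mul_assoc, D.z_sq, one_mul] at ha
      exact hbad s hsM hsg a ha
    · rw [← hzx, show z * x * (z * s) = z * x * z * s by group, ← hcxz.symm.eq.symm] at ha
      rw [mul_assoc x z z, D.z_sq, mul_one, hxs.eq] at ha
      exact hbad _ (mul_mem hsM hxM) hsxg a ha

/-- The product of two commuting conjugates of `z` fixes one coset. -/
theorem prod_point (D : Data z Q M) {a b g h : G} (ha : IsD z a) (hb : IsD z b) (hc : Commute a b) (hne : a ≠ b)
    (hg : g⁻¹ * (a * b) * g ∈ M) (hh : h⁻¹ * (a * b) * h ∈ M) : g⁻¹ * h ∈ M := by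
  obtain ⟨k, hk⟩ := ha
  have hz : k⁻¹ * a * k = z := by rw [← hk]; group
  have hp : z * (k⁻¹ * b * k) = k⁻¹ * (a * b) * k := by rw [← hz]; group
  have key : ∀ x : G, x⁻¹ * (a * b) * x ∈ M → k⁻¹ * x ∈ M := fun x hx =>
    D.prod_point_z (hb.inv_conj k) (hz ▸ (comm_inv_conj k hc).symm)
      (fun e => hne (by rw [← hz] at e; exact (mul_left_cancel (mul_right_cancel e)).symm))
      (by rw [hp]; rwa [show (k⁻¹ * x)⁻¹ * (k⁻¹ * (a * b) * k) * (k⁻¹ * x) = x⁻¹ * (a * b) * x by group])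
  have := mul_mem (inv_mem (key g hg)) (key h hh)
  rwa [show (k⁻¹ * g)⁻¹ * (k⁻¹ * h) = g⁻¹ * h by group] at this

/-- The subgroup is everything. -/
theorem eq_top (D : Data z Q M) : M = ⊤ := by
  refine eq_top_iff.2 fun g _ => ?_
  by_contra hgM
  obtain ⟨d, hdQ, hd, hdD⟩ := D.exists_d
  have hdM : d ∈ M := D.cent_le d (D.Q_comm d hdQ)
  set v := g * z * g⁻¹ with hv
  have hvD : IsD z v := ⟨g, rfl⟩
  have hvg : g⁻¹ * v * g ∈ M := by rw [hv, show g⁻¹ * (g * z * g⁻¹) * g = z by group]; exact D.z_mem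
  have hv2 := (D.d_sq hvD).1
  rcases pair_cases hd.2.2.2 hv2 with ⟨k, hk, -⟩ | ⟨s, hs1, hss, hsd, hsv, -, hcases⟩
  · exact hdD (by
      have := hvD.inv_conj k
      rwa [← hk, show k⁻¹ * (k * d * k⁻¹) * k = d by group] at this)
  have hsg := D.fix_comm hvD hvg hsv
  have hsM : s ∈ M := D.sig_point_z hd (by rwa [mul_assoc, ← hsd.eq, inv_mul_cancel_left])
  have hs1g : (1 : G)⁻¹ * s * 1 ∈ M := by simpa using hsM
  rcases hcases with ⟨-, ⟨k, hk, -⟩⟩ | ⟨-, ⟨k, hk, -⟩⟩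
  · have hyD : IsD z (d * s) := hk ▸ hvD.conj k
    obtain ⟨m, hm, e⟩ := D.exists_conj hyD (mul_mem hdM hsM)
    have hc : Commute (m⁻¹ * s * m) z := e ▸ comm_inv_conj m (hsd.mul_right (Commute.refl s))
    rcases D.classes _ hc (by rw [show m⁻¹ * s * m * (m⁻¹ * s * m) = m⁻¹ * (s * s) * m by group, hss]; group)
      (fun h => hs1 (by
        calc s = m * (m⁻¹ * s * m) * m⁻¹ := by group
          _ = 1 := by rw [h]; group)) with h | ⟨a, ha⟩ | ⟨a, b, ha, hb, hab, hne, h⟩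
    · have h' := h.conj m
      rw [show m * (m⁻¹ * s * m) * m⁻¹ = s by group] at h'
      exact hgM (D.point h' hsM hsg)
    · have h' := ha.conj m
      rw [show m * (m⁻¹ * s * m) * m⁻¹ = s by group] at h'
      exact hgM (by simpa using D.sig_point h' (g := 1) hs1g hsg)
    · have h' : m * a * m⁻¹ * (m * b * m⁻¹) = s := by
        rw [show m * a * m⁻¹ * (m * b * m⁻¹) = m * (a * b) * m⁻¹ by group, ← h]; group
      refine hgM (by
        simpa using D.prod_point (ha.conj m) (hb.conj m) ((Commute.conj_iff m).2 hab)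
          (fun e' => hne (mul_left_cancel (mul_right_cancel e'))) (g := 1) (h := g)
          (by rw [h']; exact hs1g) (by rw [h']; exact hsg))
  · have hvsD : IsD z (v * s) := hk ▸ hvD.conj k
    have h' : v * (v * s) = s := by rw [← mul_assoc, hv2, one_mul]
    exact hgM (by
      simpa using D.prod_point hvD hvsD ((Commute.refl v).mul_right hsv.symm)
        (fun e' => hs1 (mul_eq_left.1 e'.symm)) (g := 1) (h := g)
        (by rw [h']; exact hs1g) (by rw [h']; exact hsg))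

end Data

end Cfsg.Lib.CoTwoType.Descent
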