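import Cfsg.Agent.Lib.CoTwoType.Setting
import Cfsg.Agent.S0270
import Cfsg.Agent.Lib.SpSix.Unique
import Cfsg.Agent.Lib.Extra.CoOneUniq.FusedMain
import Cfsg.Agent.Lib.Extra.OuterClassify

/-!
# The data of the centralizer from the hypotheses
-/

set_option autoImplicit false
set_option linter.style.haveILetI false
set_option linter.unusedSectionVars false
set_option maxRecDepth 10000

namespace Cfsg.Lib.CoTwoType

open Cfsg Module Cfsg.Lib.Linear.Orth Cfsg.Lib.Extra.Wide Cfsg.Lib.CoOneLocal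
open scoped Matrix

theorem sp_odd_normal (M : Subgroup Cfsg.Lib.SpSix.SpGrp) (hM : M.Normal) (h : (Nat.card M).Coprime 2) :
    M = ⊥ := by
  haveI := Cfsg.Agent.S0270.result (F := ZMod 2) 3 (by norm_num) (by norm_num)
  have hinj : Function.Injective (QuotientGroup.mk' (Subgroup.center Cfsg.Lib.SpSix.SpGrp) :
      Cfsg.Lib.SpSix.SpGrp →* Cfsg.PSp 3 (ZMod 2)) := by
    rw [← MonoidHom.ker_eq_bot_iff, QuotientGroup.ker_mk', Cfsg.Lib.SpSix.center_Sp]
  have hsurj := QuotientGroup.mk'_surjective (Subgroup.center Cfsg.Lib.SpSix.SpGrp)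
  rcases (hM.map (QuotientGroup.mk' (Subgroup.center Cfsg.Lib.SpSix.SpGrp)) hsurj).eq_bot_or_eq_top with e | e
  · exact (Subgroup.map_eq_bot_iff_of_injective M hinj).1 e
  · exfalso
    rw [Subgroup.map_injective hinj (e.trans (Subgroup.map_top_of_surjective _ hsurj).symm), Subgroup.card_top,
      Cfsg.Lib.SpSix.card_Sp] at h
    norm_num at h

/-- A perfect subgroup of the isometry group lies in `Omega`. -/
theorem perfect_le_omega {q : V8 → ZMod 2} {R : Subgroup (GL I8 (ZMod 2))}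
    (hR : R ≤ isometryGroup (ZMod 2) q) (hp : commutator ↥R = ⊤) : R ≤ Cfsg.Geo.omegaGL q := by
  intro g hg
  have h : (⟨g, hg⟩ : ↥R) ∈ commutator ↥R := hp ▸ Subgroup.mem_top _
  have h1 : Subgroup.inclusion hR ⟨g, hg⟩ ∈ Cfsg.Omega (ZMod 2) q := by
    have h2 := Subgroup.mem_map_of_mem (Subgroup.inclusion hR) h
    rw [commutator_def, Subgroup.map_commutator] at h2
    exact Subgroup.commutator_mono le_top le_top h2
  exact ⟨_, h1, rfl⟩

variable {G : Type*} [Group G] [Finite G]

/-- The largest normal `2`-subgroup is the generalized Fitting subgroup. -/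
theorem fitting_eq_core (t : G) (hcon : Cfsg.IsPConstrained 2 (Subgroup.centralizer ({t} : Set G)))
    (e : (Subgroup.centralizer ({t} : Set G)) ⧸ Cfsg.pCore 2 (Subgroup.centralizer ({t} : Set G)) ≃*
      Cfsg.Lib.SpSix.SpGrp) :
    Cfsg.generalizedFittingSubgroup (Subgroup.centralizer ({t} : Set G)) =
      Cfsg.pCore 2 (Subgroup.centralizer ({t} : Set G)) := by
  haveI : Fact (Nat.Prime 2) := ⟨Nat.prime_two⟩
  exact Cfsg.Lib.Core.generalizedFitting_eq_pCore_iff.2
    (Cfsg.Lib.CoOneFused.centralizer_core_le hcon (fun M hM h => sp_odd_normal M hM h) e)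

/-- The data of the centralizer, with the identification of the image. -/
theorem exists_act_iso (z : G) (hz : orderOf z = 2)
    (Q : Subgroup (Subgroup.centralizer ({z} : Set G))) [Q.Normal]
    (hF : Cfsg.generalizedFittingSubgroup (Subgroup.centralizer ({z} : Set G)) = Q)
    (hQ : Cfsg.IsExtraspecial 2 Q) (hcard : Nat.card Q = 2 ^ 9) (hbig : Cfsg.Lib.Extra.HasBig ↥Q 4)
    (e : (Subgroup.centralizer ({z} : Set G)) ⧸ Q ≃* Cfsg.Lib.SpSix.SpGrp) :
    ∃ (D : Act G) (_ : D.z = z) (σ : ↥D.R ≃* Cfsg.Lib.SpSix.SpGrp),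
      D.Q = Q.map (Subgroup.centralizer ({z} : Set G)).subtype ∧
      ∀ (c : Subgroup.centralizer ({z} : Set G)) (h : Commute (c : G) D.z),
        σ ⟨D.act c, D.act_memR c h⟩ = e (QuotientGroup.mk c) := by
  classical
  haveI : Fact (Nat.Prime 2) := ⟨Nat.prime_two⟩
  obtain ⟨Bp, Sp⟩ := exists_space_plus (F := ZMod 2) 4
  have hctx := ctx_of_hyp z hz Q hF hQ
  set π : Subgroup.centralizer ({z} : Set G) →* Cfsg.Lib.SpSix.SpGrp :=
    e.toMonoidHom.comp (QuotientGroup.mk' Q) with hπdef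
  have hπ : ∀ c : Subgroup.centralizer ({z} : Set G), π c = 1 ↔
      (c : G) ∈ Q.map (Subgroup.centralizer ({z} : Set G)).subtype := fun c => by
    simp only [hπdef, MonoidHom.coe_comp, Function.comp_apply, MulEquiv.coe_toMonoidHom,
      MulEquiv.map_eq_one_iff, QuotientGroup.mk'_apply, QuotientGroup.eq_one_iff]
    exact ⟨fun h => ⟨c, h, rfl⟩, fun ⟨y, hy, e'⟩ => Subtype.ext e' ▸ hy⟩
  have hsurj : Function.Surjective π := e.surjective.comp (QuotientGroup.mk'_surjective Q)
  rcases Cfsg.Lib.Extra.model_cases hQ 3 (by rw [hcard]) with ⟨⟨f⟩⟩ | ⟨⟨f⟩⟩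
  · obtain ⟨cls, act, R, -, hRle, h1, h2, h3, h4, h5, h7, h8, h9, h10, h11⟩ :=
      exists_action hctx (Cfsg.Lib.Extra.pairForm_nondeg _) (Cfsg.Lib.Extra.plusCoords 4)
        (Cfsg.Lib.Extra.plus_form 4) Sp
        ((Q.equivMapOfInjective _ (Subgroup.centralizer ({z} : Set G)).subtype_injective).symm.trans f)
        π hsurj hπ
    have hC : ∀ c : Subgroup.centralizer ({z} : Set G), Commute (c : G) z := fun c =>
      Subgroup.mem_centralizer_singleton_iff.1 c.2
    let a : Subgroup.centralizer ({z} : Set G) →* ↥R := MonoidHom.mk' (fun c => ⟨act c, h8 _ (hC c)⟩)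
      fun c d => Subtype.ext (h7 _ _ (hC c) (hC d))
    have ha : Function.Surjective a := fun r => by
      obtain ⟨c, hc, he⟩ := h9 r r.2
      exact ⟨⟨c, Subgroup.mem_centralizer_singleton_iff.2 hc⟩, Subtype.ext he⟩
    have hker : π.ker = a.ker := by
      ext c
      rw [MonoidHom.mem_ker, MonoidHom.mem_ker, hπ, ← h10 _ (hC c)]
      exact ⟨fun h => Subtype.ext h, fun h => congrArg Subtype.val h⟩
    let iso : ↥R ≃* Cfsg.Lib.SpSix.SpGrp :=
      (QuotientGroup.quotientKerEquivOfSurjective a ha).symm.trans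
        ((QuotientGroup.quotientMulEquivOfEq hker.symm).trans (QuotientGroup.quotientKerEquivOfSurjective π hsurj))
    have hperf : commutator ↥R = ⊤ := by
      rw [commutator_def, ← Subgroup.map_top_of_surjective iso.symm.toMonoidHom iso.symm.surjective,
        ← Subgroup.map_commutator, ← commutator_def, Cfsg.Lib.SpSix.perfect_Sp]
    refine ⟨⟨z, Q.map (Subgroup.centralizer ({z} : Set G)).subtype, Bp, cls, act, hctx, Sp, h1, h2, h3, h4,
      h5, h7, R, perfect_le_omega hRle hperf, ⟨iso⟩, h8, h9, h10, h11⟩, rfl, iso, rfl, fun c h => ?_⟩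
    show (QuotientGroup.quotientKerEquivOfSurjective π hsurj)
      ((QuotientGroup.quotientMulEquivOfEq hker.symm)
        ((QuotientGroup.quotientKerEquivOfSurjective a ha).symm (a c))) = _
    rw [show (QuotientGroup.quotientKerEquivOfSurjective a ha).symm (a c) = QuotientGroup.mk c from
      (QuotientGroup.quotientKerEquivOfSurjective a ha).symm_apply_eq.2 rfl]
    rfl
  · exact absurd (Cfsg.Lib.Extra.hasBig_congr f hbig) (Cfsg.Lib.Extra.minus_not_hasBig 3)

/-- The data of the centralizer when the extraspecial subgroup is of plus type. -/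
theorem exists_act_plus (z : G) (hz : orderOf z = 2)
    (Q : Subgroup (Subgroup.centralizer ({z} : Set G))) [Q.Normal]
    (hF : Cfsg.generalizedFittingSubgroup (Subgroup.centralizer ({z} : Set G)) = Q)
    (hQ : Cfsg.IsExtraspecial 2 Q) (hcard : Nat.card Q = 2 ^ 9) (hbig : Cfsg.Lib.Extra.HasBig ↥Q 4)
    (e : (Subgroup.centralizer ({z} : Set G)) ⧸ Q ≃* Cfsg.Lib.SpSix.SpGrp) :
    ∃ D : Act G, D.z = z ∧ D.Q = Q.map (Subgroup.centralizer ({z} : Set G)).subtype := by
  obtain ⟨D, h1, -, h2, -⟩ := exists_act_iso z hz Q hF hQ hcard hbig e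
  exact ⟨D, h1, h2⟩

end Cfsg.Lib.CoTwoType
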