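import Cfsg.Agent.Lib.CoTwoType.FixedFalse
import Cfsg.Agent.Lib.ZStar.Main

/-!
# No element of order four is fixed by the centralizer

Two commuting conjugates of the involution would give an element of order four of `Sp6(2)` commuting with
all the squares of the centralizer of its square, or an elementary abelian subgroup of index four in `Q`.
-/

set_option autoImplicit false
set_option linter.style.haveILetI false
set_option linter.unusedSectionVars false

namespace Cfsg.Lib.CoTwoType

open Cfsg Cfsg.Lib.Extra Cfsg.Lib.SpSix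

variable {G : Type*} [Group G] [Finite G] {Q R : Subgroup G} {z x w x' : G} {π π' : G → SpGrp}
  (F : Fixed Q z x π) (E : Fixed R w x' π') (hc : Cross Q z R w) (hconj : IsConj z w)
include F E hc hconj

theorem not_commute_fixed : ¬ Commute x w := by
  intro hxw
  have hwz : Commute w z := hc.comm.symm
  have hx'z : Commute x' z := by
    rcases E.fix z hc.comm with e | e
    · exact (mul_inv_eq_iff_eq_mul.1 e : z * x' = x' * z).symm
    · exfalso
      refine no_wz hc F.mem F.sq hxw hconj (IsConj.symm (isConj_iff.2 ⟨x', ?_⟩))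
      have e' : z * x' = w * x' * z := mul_inv_eq_iff_eq_mul.1 e
      calc x' * (w * z) * x'⁻¹ = w * x' * z * x'⁻¹ := by
            rw [← mul_assoc x', ((E.ctx.central x' E.mem).symm).eq]
        _ = z := by rw [← e', mul_inv_cancel_right]
  have hv1 : π w ≠ 1 := fun e => hc.not_fst ((F.ker w hwz).1 e)
  have hv : π w * π w = 1 := by rw [← F.mul w w hwz hwz, E.ctx.sq_z, F.pi_one]
  have hr : π x' * π x' = π w := by rw [← F.mul x' x' hx'z hx'z, E.sq]
  obtain ⟨g, hg, hgn⟩ := no_root hv hv1 hr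
  obtain ⟨c, hcz, rfl⟩ := F.surj g
  have hcw : w⁻¹ * (c * w * c⁻¹) ∈ Q := by
    refine (F.ker _ (hwz.inv_left.mul_left ((hcz.mul_left hwz).mul_left hcz.inv_left))).1 ?_
    rw [F.mul _ _ hwz.inv_left ((hcz.mul_left hwz).mul_left hcz.inv_left), F.pi_conj hcz hwz, F.pi_inv hwz, hg.eq,
      mul_inv_cancel_right, inv_mul_cancel]
  obtain ⟨q, hq, hqw⟩ := exists_lift hc F.mem F.sq hxw hconj (by rw [F.card]; norm_num) hcw
  have hqz : Commute q z := (F.ctx.central q hq).symm
  have hdz : Commute (q * c) z := hqz.mul_left hcz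
  have hπd : π (q * c) = π c := by rw [F.mul q c hqz hcz, F.pi_Q hq, one_mul]
  refine hgn ?_
  have key : π c * π x' * (π c)⁻¹ = π x' ∨ π c * π x' * (π c)⁻¹ = π w * π x' := by
    rw [← hπd, ← F.pi_conj hdz hx'z]
    rcases E.fix _ hqw with e | e <;> rw [e]
    · exact Or.inl rfl
    · exact Or.inr (F.mul w x' hwz hx'z)
  show π c * π c * π x' = π x' * (π c * π c)
  refine mul_inv_eq_iff_eq_mul.1 ?_
  have e0 : π c * π c * π x' * (π c * π c)⁻¹ = π c * (π c * π x' * (π c)⁻¹) * (π c)⁻¹ := by group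
  rw [e0]
  rcases key with e | e <;> rw [e]
  · exact e
  · rw [← conj_mul, e, hg.eq, mul_inv_cancel_right, ← mul_assoc, hv, one_mul]

omit F E hc hconj

theorem cross_false (F : Fixed Q z x π) {k : G} (hne : k * z * k⁻¹ ≠ z) (hcm : Commute z (k * z * k⁻¹)) :
    False := by
  classical
  set w := k * z * k⁻¹ with hwdef
  have hU := F.unf
  set R := Q.map (MulAut.conj k).toMonoidHom with hRdef
  have E := F.conj k
  set x' := k * x * k⁻¹ with hx'def
  have hconj : IsConj z w := isConj_iff.2 ⟨k, rfl⟩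
  have hc : Cross Q z R w := by
    refine ⟨hU, hU.conj k, hcm, fun h => hne (hU.uniq k h), fun h => ?_⟩
    obtain ⟨b, hb, e⟩ := h
    have e' : k * b * k⁻¹ = z := e
    have hb' : k⁻¹ * z * k⁻¹⁻¹ = b := by rw [← e']; group
    have := hU.uniq k⁻¹ (hb' ▸ hb)
    refine hne ?_
    calc w = k * (k⁻¹ * z * k⁻¹⁻¹) * k⁻¹ := by rw [this]
      _ = z := by group
  have hww : w * w = 1 := E.ctx.sq_z
  have hnx : ¬ Commute x w := not_commute_fixed F E hc hconj
  have hnx' : ¬ Commute x' z := not_commute_fixed E F hc.symm hconj.symm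
  have hwz : Commute w z := hcm.symm
  -- the flips
  have hwx : w * x * w⁻¹ = z * x := (F.fix w hwz).resolve_left fun e => hnx (Commute.symm (mul_inv_eq_iff_eq_mul.1 e))
  have hzx' : z * x' * z⁻¹ = w * x' := (E.fix z hcm).resolve_left fun e => hnx' (Commute.symm (mul_inv_eq_iff_eq_mul.1 e))
  have hxz : Commute x z := (F.ctx.central x F.mem).symm
  have hxw : x * w * x⁻¹ = z * w := by
    have e : w * x = z * x * w := mul_inv_eq_iff_eq_mul.1 hwx
    calc x * w * x⁻¹ = z * (z * x * w) * x⁻¹ := by simp only [← mul_assoc, F.ctx.sq_z, one_mul]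
      _ = _ := by rw [← e]; group
  have hx'zw : x' * z * x'⁻¹ = w * z := by
    have e : z * x' = w * x' * z := mul_inv_eq_iff_eq_mul.1 hzx'
    calc x' * z * x'⁻¹ = w * (w * x' * z) * x'⁻¹ := by simp only [← mul_assoc, hww, one_mul]
      _ = _ := by rw [← e]; group
  have hwi : w⁻¹ = w := E.ctx.inv_z
  -- the common third subgroup
  have hQR : ∀ a ∈ Q, Commute a w → a ∈ R ∨ z * a ∈ R := by
    intro a ha haw
    have haz : Commute a z := (F.ctx.central a ha).symm
    obtain ⟨δ, hδ, haδ⟩ : ∃ δ, (δ = 1 ∨ δ = w) ∧ δ * a ∈ Q.map (MulAut.conj x').toMonoidHom := by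
      rcases E.fix a haw with e | e
      · refine ⟨1, Or.inl rfl, a, ha, ?_⟩
        rw [one_mul]
        show x' * a * x'⁻¹ = a
        have e' : a * x' = x' * a := mul_inv_eq_iff_eq_mul.1 e
        rw [← e', mul_inv_cancel_right]
      · refine ⟨w, Or.inr rfl, a, ha, ?_⟩
        show x' * a * x'⁻¹ = w * a
        have e' : a * x' = w * x' * a := mul_inv_eq_iff_eq_mul.1 e
        calc x' * a * x'⁻¹ = w * (w * x' * a) * x'⁻¹ := by simp only [← mul_assoc, hww, one_mul]
          _ = _ := by rw [← e']; group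
    have hsame : x' * z * x'⁻¹ = (x * k) * z * (x * k)⁻¹ := by
      rw [hx'zw, hwz.eq]
      calc z * w = x * w * x⁻¹ := hxw.symm
        _ = _ := by rw [hwdef]; group
    have hmem : x⁻¹ * (δ * a) * x ∈ R := by
      obtain ⟨b, hb, e⟩ := haδ
      have hb' := F.ctx.conj_mem_iff_of_commute hsame (a := δ * a) ⟨b, hb, e⟩
      obtain ⟨b', hb', e'⟩ := hb'
      refine ⟨b', hb', ?_⟩
      show k * b' * k⁻¹ = x⁻¹ * (δ * a) * x
      rw [← show x * k * b' * (x * k)⁻¹ = δ * a from e']
      group
    have hxδ : ∃ e, (e = 1 ∨ e = z) ∧ x⁻¹ * δ * x = e * δ := by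
      rcases hδ with rfl | rfl
      · exact ⟨1, Or.inl rfl, by simp⟩
      · refine ⟨z, Or.inr rfl, ?_⟩
        calc x⁻¹ * w * x = x⁻¹ * (z * (x * w * x⁻¹)) * x := by rw [hxw, ← mul_assoc z z, F.ctx.sq_z, one_mul]
          _ = x⁻¹ * (z * x) * w := by group
          _ = _ := by rw [← hxz.eq, inv_mul_cancel_left]
    obtain ⟨e, he, hxδ'⟩ := hxδ
    obtain ⟨f, hf, hxa⟩ : ∃ f, (f = 1 ∨ f = z) ∧ x⁻¹ * a * x = f * a := by
      rcases F.ctx.conj_cases' F.mem ha with q | q
      · exact ⟨1, Or.inl rfl, by rw [q, one_mul]⟩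
      · exact ⟨z, Or.inr rfl, q⟩
    have hfδ : Commute δ f := by
      rcases hf with q | q <;> rw [q]
      · exact Commute.one_right δ
      · rcases hδ with r | r <;> rw [r]
        exacts [Commute.one_left z, hwz]
    have hm2 : e * f * (δ * a) ∈ R := by
      have : x⁻¹ * (δ * a) * x = e * f * (δ * a) := by
        calc x⁻¹ * (δ * a) * x = (x⁻¹ * δ * x) * (x⁻¹ * a * x) := by group
          _ = e * (δ * f) * a := by rw [hxδ', hxa]; group
          _ = _ := by rw [hfδ.eq]; group
      rwa [this] at hmem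
    have hδR : δ ∈ R := by
      rcases hδ with q | q <;> rw [q]
      exacts [one_mem _, E.ctx.mem]
    have hδc : Commute (e * f) δ := by
      rcases he with q | q <;> rw [q]
      · rw [one_mul]; exact hfδ.symm
      · refine Commute.mul_left ?_ hfδ.symm
        rcases hδ with r | r <;> rw [r]
        exacts [Commute.one_right z, hcm]
    have hm3 : e * f * a ∈ R := by
      have h3 := mul_mem (inv_mem hδR) hm2
      rwa [← mul_assoc (e * f), hδc.eq, ← mul_assoc δ⁻¹, inv_mul_cancel_left] at h3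
    rcases he with rfl | rfl <;> rcases hf with rfl | rfl <;> simp only [one_mul, mul_one, F.ctx.sq_z] at hm3
    exacts [Or.inl hm3, Or.inr hm3, Or.inr hm3, Or.inl hm3]
  -- squares in the centralizer
  have hsq : ∀ a ∈ Q, Commute a w → a * a = 1 := by
    intro a ha haw
    refine (F.ctx.sq a ha).resolve_right fun e => hc.not_snd ?_
    rcases hQR a ha haw with h | h
    · exact e ▸ mul_mem h h
    · have h2 := mul_mem h h
      have e2 : z * a * (z * a) = a * a := by
        calc z * a * (z * a) = z * (a * z) * a := by group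
          _ = z * (z * a) * a := by rw [(F.ctx.central a ha).eq]
          _ = _ := by rw [← mul_assoc z z, F.ctx.sq_z, one_mul]
      rwa [e2, e] at h2
  -- a conjugate in the coset of `w` by an element of `R`
  have hwd : ∀ d ∈ R, IsConj z (w * d) → d = 1 := by
    intro d hd h
    obtain ⟨g, hg⟩ := isConj_iff.1 (hconj.symm.trans h)
    have h1 := hc.snd.uniq g (hg ▸ mul_mem E.ctx.mem hd)
    exact mul_eq_left.1 (hg.symm.trans h1)
  set φ : G → G := fun q => w⁻¹ * (q * w * q⁻¹) with hφ
  have hφQ : ∀ q ∈ Q, φ q ∈ Q := fun q hq => by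
    have : φ q = w⁻¹ * q * w * q⁻¹ := by simp only [hφ]; group
    rw [this]
    exact mul_mem ((Subgroup.mem_normalizer_iff''.1 (F.ctx.norm w hwz) q).1 hq) (inv_mem hq)
  have hone : ∀ q ∈ Q, Commute (φ q) w → Commute q w ∨ Commute (x * q) w := by
    intro q hq hcm'
    have hw' : q * w * q⁻¹ = w * φ q := by simp only [hφ]; group
    have hqz : Commute q z := (F.ctx.central q hq).symm
    have hzc : φ q = 1 ∨ φ q = z := by
      rcases hQR _ (hφQ q hq) hcm' with h | h
      · exact Or.inl (hwd _ h (hconj.trans (isConj_iff.2 ⟨q, hw'⟩)))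
      · -- the product with `z`
        right
        set d := z * φ q with hd
        have hdQ : d ∈ Q := mul_mem F.ctx.mem (hφQ q hq)
        have hφd : φ q = z * d := by rw [hd, ← mul_assoc, F.ctx.sq_z, one_mul]
        have hxq : x * (q * w * q⁻¹) * x⁻¹ = q * (x * w * x⁻¹) * q⁻¹ := by
          rcases F.ctx.conj_cases F.mem hq with e | e
          · calc x * (q * w * q⁻¹) * x⁻¹ = (x * q * x⁻¹) * (x * w * x⁻¹) * (x * q * x⁻¹)⁻¹ := by group
              _ = _ := by rw [e]
          · calc x * (q * w * q⁻¹) * x⁻¹ = (x * q * x⁻¹) * (x * w * x⁻¹) * (x * q * x⁻¹)⁻¹ := by group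
              _ = z * (q * (x * w * x⁻¹) * q⁻¹) * z⁻¹ := by rw [e]; group
              _ = _ := by
                have hzy : Commute z (q * (x * w * x⁻¹) * q⁻¹) :=
                  ((hqz.symm).mul_right ((hxz.symm.mul_right hcm).mul_right hxz.symm.inv_right)).mul_right hqz.symm.inv_right
                rw [hzy.eq, mul_inv_cancel_right]
        have hwd' : x * (q * w * q⁻¹) * x⁻¹ = w * d := by
          rw [hxq, hxw]
          calc q * (z * w) * q⁻¹ = q * z * q⁻¹ * (q * w * q⁻¹) := by group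
            _ = z * (w * (z * d)) := by rw [mul_inv_eq_iff_eq_mul.2 hqz, hw', hφd]
            _ = _ := by rw [← mul_assoc w, hwz.eq, ← mul_assoc z, ← mul_assoc z, F.ctx.sq_z, one_mul]
        have hd1 : d = 1 := hwd d h (hconj.trans (isConj_iff.2 ⟨x * q, by rw [← hwd']; group⟩))
        rw [hφd, hd1, mul_one]
    rcases hzc with e | e <;> rw [e] at hw'
    · left; rw [mul_one] at hw'; exact mul_inv_eq_iff_eq_mul.1 hw'
    · right
      refine mul_inv_eq_iff_eq_mul.1 ?_
      calc x * q * w * (x * q)⁻¹ = x * (q * w * q⁻¹) * x⁻¹ := by group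
        _ = x * (w * z) * x⁻¹ := by rw [hw']
        _ = x * w * x⁻¹ * z := by rw [← conj_mul, mul_inv_eq_iff_eq_mul.2 hxz]
        _ = w := by rw [hxw, mul_assoc, hwz.eq, ← mul_assoc, F.ctx.sq_z, one_mul]
  have hflip : ∀ q ∈ Q, ¬ Commute (φ q) w → Commute (x * φ q) w := by
    intro q hq hncm
    have hinv : w * φ q * w⁻¹ = (φ q)⁻¹ := by
      simp only [hφ, mul_inv_rev, inv_inv, hwi]
      calc w * (w * (q * w * q⁻¹)) * w = (w * w) * (q * w * q⁻¹) * w := by group
        _ = _ := by rw [hww, one_mul]; group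
    rcases F.ctx.inv_mul_self (hφQ q hq) with e | e <;> rw [e] at hinv
    · exact absurd (Commute.symm (mul_inv_eq_iff_eq_mul.1 hinv)) hncm
    · refine Commute.symm (mul_inv_eq_iff_eq_mul.1 ?_)
      rw [← conj_mul, hwx, hinv, mul_assoc z x, ← mul_assoc x z, hxz.eq]
      calc z * (z * x * φ q) = z * z * (x * φ q) := by group
        _ = _ := by rw [F.ctx.sq_z, one_mul]
  -- four cosets
  let A : Subgroup G := Q ⊓ Subgroup.centralizer ({w} : Set G)
  have hA : ∀ {a : G}, a ∈ A ↔ a ∈ Q ∧ Commute a w := fun {a} => by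
    simp only [A, Subgroup.mem_inf, Subgroup.mem_centralizer_singleton_iff]; rfl
  have hAab : ∀ a ∈ A, ∀ b ∈ A, Commute a b := by
    intro a ha b hb
    obtain ⟨h1, h2⟩ := hA.1 ha
    obtain ⟨h3, h4⟩ := hA.1 hb
    have e1 := hsq a h1 h2
    have e2 := hsq b h3 h4
    have e3 := hsq _ (mul_mem h1 h3) (h2.mul_left h4)
    show a * b = b * a
    calc a * b = a * (a * b * (a * b)) * b := by rw [e3, mul_one]
      _ = (a * a) * b * a * (b * b) := by simp only [mul_assoc]
      _ = _ := by rw [e1, e2, one_mul, mul_one]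
  have hdouble : ∀ p ∈ Q, ∀ q ∈ Q, ¬ Commute (φ p) w → ¬ Commute (φ q) w → Commute (φ (p * q)) w := by
    intro p hp q hq h1 h2
    have e : φ (p * q) = φ p * (p * φ q * p⁻¹) := by simp only [hφ]; group
    have hx1 := hflip p hp h1
    have hx2 := hflip q hq h2
    have hpp : Commute (φ p * φ q) w := by
      have h3 : Commute ((x * φ p) * (x * φ q)) w := hx1.mul_left hx2
      rcases F.ctx.conj_cases' F.mem (hφQ p hp) with r | r
      · have e4 : x * φ p * (x * φ q) = z * (φ p * φ q) := by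
          calc x * φ p * (x * φ q) = (x * x) * (x⁻¹ * φ p * x) * φ q := by group
            _ = _ := by rw [F.sq, r, mul_assoc]
        rw [e4] at h3
        have := hcm.inv_left.mul_left h3
        rwa [inv_mul_cancel_left] at this
      · have e4 : x * φ p * (x * φ q) = φ p * φ q := by
          calc x * φ p * (x * φ q) = (x * x) * (x⁻¹ * φ p * x) * φ q := by group
            _ = z * z * φ p * φ q := by rw [F.sq, r]; group
            _ = _ := by rw [F.ctx.sq_z, one_mul]
        rwa [e4] at h3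
    rw [e]
    rcases F.ctx.conj_cases hp (hφQ q hq) with r | r <;> rw [r]
    · exact hpp
    · rw [← mul_assoc, ← (F.ctx.central _ (hφQ p hp)).eq, mul_assoc]
      exact hcm.mul_left hpp
  obtain ⟨s, hs, hcov⟩ : ∃ s ∈ Q, ∀ p ∈ Q,
      Commute p w ∨ Commute (x * p) w ∨ Commute (s * p) w ∨ Commute (x * (s * p)) w := by
    by_cases hall : ∀ p ∈ Q, Commute (φ p) w
    · exact ⟨1, one_mem _, fun p hp => (hone p hp (hall p hp)).elim Or.inl fun h => Or.inr (Or.inl h)⟩
    push Not at hall
    obtain ⟨s, hs, hsn⟩ := hall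
    refine ⟨s, hs, fun p hp => ?_⟩
    by_cases hp' : Commute (φ p) w
    · rcases hone p hp hp' with h | h
      exacts [Or.inl h, Or.inr (Or.inl h)]
    · rcases hone _ (mul_mem hs hp) (hdouble s hs p hp hsn hp') with h | h
      exacts [Or.inr (Or.inr (Or.inl h)), Or.inr (Or.inr (Or.inr h))]
  have h32 := F.abelian_le (A := A) inf_le_left hAab
  let f : A × Bool × Bool → Q := fun p => ⟨(bif p.2.1 then s⁻¹ else 1) * ((bif p.2.2 then x⁻¹ else 1) * p.1.1),
    mul_mem (by cases p.2.1 <;> simp [hs, one_mem]) (mul_mem (by cases p.2.2 <;> simp [F.mem, one_mem]) p.1.2.1)⟩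
  have hf : Function.Surjective f := by
    rintro ⟨p, hp⟩
    rcases hcov p hp with h | h | h | h
    · exact ⟨(⟨p, hA.2 ⟨hp, h⟩⟩, false, false), Subtype.ext (by simp [f])⟩
    · exact ⟨(⟨_, hA.2 ⟨mul_mem F.mem hp, h⟩⟩, false, true), Subtype.ext (by simp [f])⟩
    · exact ⟨(⟨_, hA.2 ⟨mul_mem hs hp, h⟩⟩, true, false), Subtype.ext (by simp [f])⟩
    · exact ⟨(⟨_, hA.2 ⟨mul_mem F.mem (mul_mem hs hp), h⟩⟩, true, true), Subtype.ext (by simp [f])⟩
  have := Nat.card_le_card_of_surjective f hf
  have hB : Nat.card (Bool × Bool) = 4 := by simp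
  rw [Nat.card_prod, hB, F.card] at this
  omega

/-- No element of order four is fixed by the centralizer. -/
theorem no_fixed (F : Fixed Q z x π) (hO : Cfsg.oddCore G = ⊥) (hZ : Subgroup.center G = ⊥) : False := by
  by_cases hex : ∃ g : G, g * z * g⁻¹ ≠ z ∧ Commute (g * z * g⁻¹) z
  · obtain ⟨g, hne, hc⟩ := hex
    exact cross_false F hne hc.symm
  · push Not at hex
    have hiso : IsIsolatedInvolution z :=
      ⟨orderOf_eq_prime (by rw [pow_two]; exact F.ctx.sq_z) F.ctx.ne_one, fun g hg => by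
        by_contra hne
        exact hex g hne hg.symm⟩
    have hcen : z ∈ Subgroup.center G := Subgroup.mem_center_iff.2 fun g => by
      have h0 := Cfsg.Lib.ZStar.zStarHolds G z hiso g
      rw [hO, Subgroup.mem_bot] at h0
      exact (mul_inv_eq_iff_eq_mul.1 (mul_inv_eq_one.1 h0) : z * g = g * z).symm
    rw [hZ, Subgroup.mem_bot] at hcen
    exact F.ctx.ne_one hcen

end Cfsg.Lib.CoTwoType
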