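import Cfsg.Agent.Lib.CoTwoType.SpinBase
import Cfsg.Agent.Lib.CoTwoType.SpinData

/-!
# The checks behind the search for seven transvection images
-/

set_option autoImplicit false
set_option linter.style.haveILetI false
set_option maxRecDepth 100000

namespace Cfsg.Lib.CoTwoType.SpinCert

open Cfsg.Lib.CoTwoType

/-- The entries of an alternating four by four matrix with six free bits. -/
def nBit (u i j : ℕ) : Bool :=
  i != j && u.testBit (bif i == 0 || j == 0 then i + j - 1 else i + j)

/-- A row of the translation. -/
def nRow (u v i : ℕ) : ℕ :=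
  bif (nBit u i 0 && v.testBit 4) ^^ (nBit u i 1 && v.testBit 5) ^^ (nBit u i 2 && v.testBit 6) ^^
    (nBit u i 3 && v.testBit 7) then 2 ^ i else 0

/-- The element fixing the base half with matrix `u`. -/
def nU (u v : ℕ) : ℕ := v ^^^ nRow u v 0 ^^^ nRow u v 1 ^^^ nRow u v 2 ^^^ nRow u v 3

/-- The Pfaffian. -/
def pfB (u : ℕ) : Bool :=
  (u.testBit 0 && u.testBit 5) ^^ (u.testBit 1 && u.testBit 4) ^^ (u.testBit 2 && u.testBit 3)

/-- An element of the class of half-fixing involutions. -/
def hF (p : ℕ × ℕ) (u v : ℕ) : ℕ := app p.1 (nU u (app p.2 v))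

/-- Singular codes. -/
def sing : List ℕ := (List.range 256).filter fun v => !qn v

/-- Anisotropic codes. -/
def anis : List ℕ := (List.range 256).filter qn

/-- Root elements. -/
def classA : List (ℕ → ℕ) :=
  sing.flatMap fun u => (sing.filter fun v => u < v && v < (u ^^^ v) && !bn u v).map (sf u)

/-- Products of two orthogonal reflections. -/
def classC : List (ℕ → ℕ) :=
  anis.flatMap fun a => (anis.filter fun b => a < b && !bn a b).map fun b v => rf a (rf b v)

/-- Involutions fixing a half. -/
def classF : List (ℕ → ℕ) :=
  hsF.flatMap fun p => ((List.range 64).filter pfB).map (hF p)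

/-- Commuting, distinct. -/
def cmB (f g : ℕ → ℕ) : Bool := !agree f g && agree (fun v => f (g v)) (fun v => g (f v))

/-- Braiding, distinct. -/
def brB (f g : ℕ → ℕ) : Bool := !agree f g && agree (fun v => f (g (f v))) (fun v => g (f (g v)))

/-- The diagram. -/
def adjB (i j : ℕ) : Bool :=
  [(0, 1), (1, 0), (1, 2), (2, 1), (2, 3), (3, 2), (3, 4), (4, 3), (4, 5), (5, 4), (2, 6), (6, 2)].elem (i, j)

/-- The relation between two images. -/
def relB (b : Bool) (f g : ℕ → ℕ) : Bool := bif b then brB f g else cmB f g

/-- The scan of a class against the base element. -/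
def scanOk (K : List (ℕ → ℕ)) (a : ℕ) (b : Bool) (L : List ℕ) : Bool :=
  (K.filter fun f => relB b (app a) f).map enc == L

/-- The candidates at a node. -/
def surv (L : List ℕ) (pre : List ℕ) (i : ℕ) : List ℕ :=
  L.filter fun y => (List.range i).all fun j => j == 0 || relB (adjB j i) (app (pre.getD j 0)) (app y)

/-- The check of one candidate. -/
def candOk (n : Node) (y : ℕ) (kh : ℕ × ℕ) : Bool :=
  decide (kh.1 < n.kids.length) && isoChk kh.2 &&
    (n.pre.all fun p => agree (fun v => app kh.2 (app p v)) (fun v => app p (app kh.2 v))) &&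
    agree (fun v => app kh.2 (app y v)) (fun v => app (n.kids.getD kh.1 0) (app kh.2 v))

/-- The check of one node. -/
def nodeOk (L : List ℕ) (i : ℕ) (next : List (List ℕ)) (n : Node) : Bool :=
  n.pre.length == i && (surv L n.pre i).length == n.ws.length &&
    ((surv L n.pre i).zip n.ws).all (fun p => candOk n p.1 p.2) &&
    n.kids.all fun k => next.elem (n.pre ++ [k])

/-- The check of one depth. -/
def levelOk (L : List ℕ) (i : ℕ) (nodes : List Node) (next : List (List ℕ)) : Bool :=
  nodes.all (nodeOk L i next)

theorem rootA : lvA1.map Node.pre = [[baseA]] ∧ lvC1.map Node.pre = [[baseC]] ∧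
    lvF1.map Node.pre = [[baseF]] := by decide +kernel

theorem leaves_facts : leavesA = [] ∧ (leavesC.all fun l => (List.range 7).all fun j =>
    app (l.getD j 0) 17 == 17) = true ∧ leavesF.length = 1 := by decide +kernel

/-- The roots reach every anisotropic code. -/
def ordChk : List (ℕ × ℕ × ℕ) → List ℕ → Bool
  | [], seen => anis.all fun v => seen.elem v
  | (v, i, p) :: l, seen => decide (i < rootsO.length) && (bif p == 0 then v == rootsO.getD i 0
      else seen.elem p && v == rf (rootsO.getD i 0) p) && ordChk l (v :: seen)

theorem ordO_ok : ordChk ordO [] = true ∧ (rootsO.all fun r => decide (r < 256) && qn r) = true := by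
  decide +kernel

theorem halves_ok : hsF.head? = some (enc id, enc id) ∧ (hsF.all fun p => isoChk p.1 && isoChk p.2 &&
    agree (fun v => app p.2 (app p.1 v)) id) = true := by decide +kernel

theorem step_ok : ((List.range 9).all fun i => (stepF.getD i []).length == hsF.length &&
    (hsF.zip (stepF.getD i [])).all fun q => decide (q.2 < hsF.length) &&
      [1, 2, 4, 8].all fun a => decide (app (hsF.getD q.2 (0, 0)).2 (rf (rootsO.getD i 0) (app q.1.1 a)) < 16)) =
    true := by decide +kernel

/-- The columns of an isometry that fixes the base half and is trivial modulo it. -/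
def shapeOk : Bool :=
  (List.range 16).all fun a => qn (16 + a) || (List.range 16).all fun b => qn (32 + b) || bn (16 + a) (32 + b) ||
    (List.range 16).all fun c => qn (64 + c) || bn (16 + a) (64 + c) || bn (32 + b) (64 + c) ||
      (List.range 16).all fun d => qn (128 + d) || bn (16 + a) (128 + d) || bn (32 + b) (128 + d) ||
        bn (64 + c) (128 + d) || (List.range 64).any fun u =>
          nU u 16 == 16 + a && nU u 32 == 32 + b && nU u 64 == 64 + c && nU u 128 == 128 + d

theorem shape_ok : shapeOk = true := by decide +kernel

theorem pf_fix : ((List.range 64).all fun u => pfB u || (List.range 15).any fun f =>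
    nU u (16 * (f + 1)) == 16 * (f + 1)) = true := by decide +kernel

theorem low_fix : ((List.range 64).all fun u => [1, 2, 4, 8].all fun a => nU u a == a) = true := by decide +kernel

end Cfsg.Lib.CoTwoType.SpinCert
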