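import Cfsg.Agent.Lib.SpSix.Symp
import Cfsg.Agent.Lib.CoTwoType.SpinChecks

/-!
# Seven transvections generating `Sp6(2)`
-/

set_option autoImplicit false
set_option maxRecDepth 100000

namespace Cfsg.Lib.CoTwoType

open Cfsg.Lib.SpSix Cfsg.Lib.Linear.Symp
open scoped Matrix

/-- The polar form on six-bit codes. -/
def bnS (a c : ℕ) : Bool :=
  (a.testBit 0 && c.testBit 3) ^^ (a.testBit 3 && c.testBit 0) ^^ (a.testBit 1 && c.testBit 4) ^^
    (a.testBit 4 && c.testBit 1) ^^ (a.testBit 2 && c.testBit 5) ^^ (a.testBit 5 && c.testBit 2)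

/-- A transvection on six-bit codes. -/
def tvN (w v : ℕ) : ℕ := bif bnS v w then v ^^^ w else v

theorem tvN_eq : ∀ w j : Fin 63, (tvVec w j : ℕ) + 1 = tvN (w + 1) (j + 1) := by decide +kernel

/-- The transvection of a code. -/
noncomputable def sN (k : ℕ) : SpGrp :=
  ⟨Cfsg.sympTransvection 3 (SpSix.vec (Fin.ofNat 63 (k - 1))) 1, sympTransvection_mem _ _⟩

/-- The action on codes. -/
noncomputable def actN (A : SpGrp) (v : ℕ) : ℕ := (spRep A (Fin.ofNat 63 (v - 1)) : ℕ) + 1

theorem actN_bd (A : SpGrp) (v : ℕ) : 1 ≤ actN A v ∧ actN A v < 64 := by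
  have := (spRep A (Fin.ofNat 63 (v - 1))).isLt
  rw [actN]; omega

theorem actN_mul (A B : SpGrp) (v : ℕ) : actN (A * B) v = actN A (actN B v) := by
  rw [actN, actN, actN, map_mul, Equiv.Perm.mul_apply, Nat.add_sub_cancel, Fin.ofNat_val_eq_self]

theorem actN_one {v : ℕ} (h : 1 ≤ v) (h' : v < 64) : actN 1 v = v := by
  rw [actN, map_one, Equiv.Perm.one_apply, Fin.val_ofNat, Nat.mod_eq_of_lt (by omega)]
  omega

theorem actN_ext {A B : SpGrp} (h : ∀ v, 1 ≤ v → v < 64 → actN A v = actN B v) : A = B :=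
  spRep_injective (Equiv.ext fun j => Fin.ext (by
    have := h (j + 1) (by omega) (by omega)
    rw [actN, actN, Nat.add_sub_cancel, Fin.ofNat_val_eq_self] at this
    omega))

theorem actN_sN {k v : ℕ} (hk : 1 ≤ k) (hk' : k < 64) (hv : 1 ≤ v) (hv' : v < 64) :
    actN (sN k) v = tvN k v := by
  have h1 : spRep (sN k) (Fin.ofNat 63 (v - 1)) = tvVec (Fin.ofNat 63 (k - 1)) (Fin.ofNat 63 (v - 1)) := by
    rw [spRep_apply]
    show SpSix.cod (Cfsg.sympTransvection 3 _ 1 *ᵥ _) = _
    rw [sympTransvection_mulVec, one_mul, spB_apply, tvVec]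
  have h2 := tvN_eq (Fin.ofNat 63 (k - 1)) (Fin.ofNat 63 (v - 1))
  simp only [Fin.val_ofNat, Nat.mod_eq_of_lt (show k - 1 < 63 by omega),
    Nat.mod_eq_of_lt (show v - 1 < 63 by omega), Nat.sub_add_cancel hk, Nat.sub_add_cancel hv] at h2
  rw [actN, h1, h2]

/-- The product of the transvections of a word. -/
noncomputable def sWord (W : List ℕ) : SpGrp := (W.map sN).prod

/-- The action of a word on codes. -/
def tvW : List ℕ → ℕ → ℕ
  | [], v => v
  | k :: W, v => tvN k (tvW W v)

theorem actN_word : ∀ W : List ℕ, (∀ k ∈ W, 1 ≤ k ∧ k < 64) → ∀ v, 1 ≤ v → v < 64 →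
    actN (sWord W) v = tvW W v
  | [], _, v, hv, hv' => by simpa [sWord, tvW] using actN_one hv hv'
  | k :: W, hW, v, hv, hv' => by
    have hk := hW k (by simp)
    have ih := actN_word W (fun j hj => hW j (by simp [hj])) v hv hv'
    show actN (sN k * sWord W) v = tvN k (tvW W v)
    rw [actN_mul, actN_sN hk.1 hk.2 (actN_bd _ _).1 (actN_bd _ _).2, ih]

/-- Two words agree. -/
def wordEq (W W' : List ℕ) : Bool :=
  (W ++ W').all (fun k => decide (1 ≤ k) && decide (k < 64)) &&
    (List.range 63).all fun v => tvW W (v + 1) == tvW W' (v + 1)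

theorem eq_of_wordEq {W W' : List ℕ} (h : wordEq W W' = true) : sWord W = sWord W' := by
  simp only [wordEq, Bool.and_eq_true, List.all_eq_true, List.mem_range, beq_iff_eq, decide_eq_true_eq,
    List.mem_append] at h
  refine actN_ext fun v hv hv' => ?_
  rw [actN_word W (fun k hk => h.1 k (Or.inl hk)) v hv hv', actN_word W' (fun k hk => h.1 k (Or.inr hk)) v hv hv']
  have := h.2 (v - 1) (by omega)
  rwa [Nat.sub_add_cancel hv] at this

theorem ne_of_word {W W' : List ℕ} (hW : ∀ k ∈ W, 1 ≤ k ∧ k < 64) (hW' : ∀ k ∈ W', 1 ≤ k ∧ k < 64) {v : ℕ}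
    (hv : 1 ≤ v) (hv' : v < 64) (h : tvW W v ≠ tvW W' v) : sWord W ≠ sWord W' := fun e => h (by
  rw [← actN_word W hW v hv hv', ← actN_word W' hW' v hv hv', e])

/-- The code of the i-th root. -/
def sRoot (i : Fin 7) : ℕ := SpinCert.rootsS.getD i.val 0

/-- The seven transvections. -/
noncomputable def sGen (i : Fin 7) : SpGrp := sN (sRoot i)

theorem sRoot_bd : ∀ i : Fin 7, 1 ≤ sRoot i ∧ sRoot i < 64 := by decide +kernel

/-- Relations among the seven transvections. -/
def relW (i j : Fin 7) : Bool :=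
  i == j || (if SpinCert.adjB i.val j.val then wordEq [sRoot i, sRoot j, sRoot i] [sRoot j, sRoot i, sRoot j]
    else wordEq [sRoot i, sRoot j] [sRoot j, sRoot i])

theorem rel_table : (∀ i j : Fin 7, relW i j = true) ∧ (∀ i : Fin 7, wordEq [sRoot i, sRoot i] [] = true) := by
  decide +kernel

theorem sGen_sq (i : Fin 7) : sGen i * sGen i = 1 := by
  simpa [sWord, sGen] using eq_of_wordEq (rel_table.2 i)

theorem sGen_braid {i j : Fin 7} (hij : i ≠ j) (h : SpinCert.adjB i.val j.val = true) :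
    sGen i * sGen j * sGen i = sGen j * sGen i * sGen j := by
  have h1 := rel_table.1 i j
  simp only [relW, h, if_true, Bool.or_eq_true, beq_iff_eq, hij, false_or] at h1
  simpa [sWord, sGen, mul_assoc] using eq_of_wordEq h1

theorem sGen_comm {i j : Fin 7} (hij : i ≠ j) (h : SpinCert.adjB i.val j.val = false) :
    Commute (sGen i) (sGen j) := by
  have h1 := rel_table.1 i j
  simp only [relW, h, Bool.or_eq_true, beq_iff_eq, hij, false_or, Bool.false_eq_true, if_false] at h1
  simpa [sWord, sGen, Commute, SemiconjBy] using eq_of_wordEq h1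

theorem root_sep : (∀ i : Fin 7, ∃ v : Fin 63, tvN (sRoot i) (v + 1) ≠ (v : ℕ) + 1) ∧
    ∀ i j : Fin 7, i ≠ j → ∃ v : Fin 63, tvN (sRoot i) (v + 1) ≠ tvN (sRoot j) (v + 1) := by decide +kernel

theorem sGen_ne_one (i : Fin 7) : sGen i ≠ 1 := fun e => by
  obtain ⟨v, hv⟩ := root_sep.1 i
  refine hv ?_
  rw [← actN_sN (sRoot_bd i).1 (sRoot_bd i).2 (by omega) (by omega), ← sGen, e, actN_one (by omega) (by omega)]

theorem sGen_inj : Function.Injective sGen := fun i j e => by
  by_contra hij
  obtain ⟨v, hv⟩ := root_sep.2 i j hij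
  refine hv ?_
  rw [← actN_sN (sRoot_bd i).1 (sRoot_bd i).2 (by omega) (by omega),
    ← actN_sN (sRoot_bd j).1 (sRoot_bd j).2 (by omega) (by omega), ← sGen, ← sGen, e]

theorem conj_of_braid {G : Type*} [Group G] {a b : G} (h : a * b * a = b * a * b) :
    a * b * a * (a * b)⁻¹ = b := by rw [h]; group

theorem sGen_conj (i : Fin 7) : ∃ x : SpGrp, x * sGen 0 * x⁻¹ = sGen i := by
  have step : ∀ {i j : Fin 7}, i ≠ j → SpinCert.adjB i.val j.val = true →
      (∃ x : SpGrp, x * sGen 0 * x⁻¹ = sGen i) → ∃ x : SpGrp, x * sGen 0 * x⁻¹ = sGen j := by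
    rintro i j hij h ⟨x, hx⟩
    refine ⟨sGen i * sGen j * x, ?_⟩
    have hb := conj_of_braid (sGen_braid hij h)
    calc sGen i * sGen j * x * sGen 0 * (sGen i * sGen j * x)⁻¹
        = sGen i * sGen j * (x * sGen 0 * x⁻¹) * (sGen i * sGen j)⁻¹ := by group
      _ = sGen j := by rw [hx]; exact hb
  have h0 : ∃ x : SpGrp, x * sGen 0 * x⁻¹ = sGen 0 := ⟨1, by simp⟩
  have h1 := step (i := 0) (j := 1) (by decide) (by decide) h0
  have h2 := step (i := 1) (j := 2) (by decide) (by decide) h1
  have h3 := step (i := 2) (j := 3) (by decide) (by decide) h2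
  have h4 := step (i := 3) (j := 4) (by decide) (by decide) h3
  have h5 := step (i := 4) (j := 5) (by decide) (by decide) h4
  have h6 := step (i := 2) (j := 6) (by decide) (by decide) h2
  fin_cases i <;> assumption

/-- The seven roots reach every code. -/
def ordSChk : List (ℕ × ℕ × ℕ) → List ℕ → Bool
  | [], seen => (List.range 63).all fun v => seen.elem (v + 1)
  | (v, i, p) :: l, seen => decide (i < 7) && (bif p == 0 then v == SpinCert.rootsS.getD i 0
      else seen.elem p && decide (1 ≤ p) && decide (p < 64) &&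
        wordEq [SpinCert.rootsS.getD i 0, p, SpinCert.rootsS.getD i 0] [v]) && ordSChk l (v :: seen)

theorem ordS_ok : ordSChk SpinCert.ordS [] = true := by decide +kernel

theorem ordSChk_mem {H : Subgroup SpGrp} (hH : ∀ i, sGen i ∈ H) :
    ∀ (l : List (ℕ × ℕ × ℕ)) (seen : List ℕ), (∀ v ∈ seen, sN v ∈ H) → ordSChk l seen = true →
      ∀ v, 1 ≤ v → v < 64 → sN v ∈ H
  | [], seen, hs, h, v, hv, hv' => by
    simp only [ordSChk, List.all_eq_true, List.mem_range, List.elem_eq_mem, decide_eq_true_eq] at h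
    have := h (v - 1) (by omega)
    rw [Nat.sub_add_cancel hv] at this
    exact hs v this
  | (w, i, p) :: l, seen, hs, h, v, hv, hv' => by
    simp only [ordSChk, Bool.and_eq_true, decide_eq_true_eq] at h
    obtain ⟨⟨hi, hw⟩, hl⟩ := h
    have hr : sN (SpinCert.rootsS.getD i 0) ∈ H := hH ⟨i, hi⟩
    refine ordSChk_mem hH l (w :: seen) (fun u hu => ?_) hl v hv hv'
    rcases List.mem_cons.1 hu with rfl | hu
    · cases hp : p == 0
      · rw [hp, cond_false] at hw
        simp only [Bool.and_eq_true, List.elem_eq_mem, decide_eq_true_eq] at hw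
        have he := eq_of_wordEq hw.2
        simp only [sWord, List.map_cons, List.map_nil, List.prod_cons, List.prod_nil, mul_one] at he
        rw [← he]
        exact mul_mem hr (mul_mem (hs _ hw.1.1.1) hr)
      · rw [hp, cond_true, beq_iff_eq] at hw
        rw [hw]; exact hr
    · exact hs u hu

theorem sGen_closure : Subgroup.closure (Set.range sGen) = ⊤ := by
  rw [eq_top_iff, ← Cfsg.Agent.S0765.result (F := ZMod 2) 3, Subgroup.closure_le]
  rintro A ⟨w, c, hA⟩
  by_cases h : c = 0 ∨ w = 0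
  · have : A = 1 := Subtype.ext (by
      rw [hA, Submonoid.coe_one, Cfsg.sympTransvection]
      rcases h with rfl | rfl <;> simp)
    rw [this]; exact one_mem _
  push_neg at h
  obtain rfl : c = 1 := by
    revert h; rcases (by decide : ∀ a : ZMod 2, a = 0 ∨ a = 1) c with rfl | rfl <;> simp
  have e0 : SpSix.vec (Fin.ofNat 63 ((SpSix.cod w : ℕ) + 1 - 1)) = w := by
    rw [Nat.add_sub_cancel, Fin.ofNat_val_eq_self]
    exact vec_cod_all w h.2
  have e : A = sN ((SpSix.cod w : ℕ) + 1) :=
    Subtype.ext (hA.trans (congrArg (fun u => Cfsg.sympTransvection 3 u (1 : ZMod 2)) e0.symm))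
  rw [SetLike.mem_coe, e]
  exact ordSChk_mem (fun i => Subgroup.subset_closure (Set.mem_range_self i)) SpinCert.ordS []
    (by simp) ordS_ok _ (by omega) (by omega)

/-- Two homomorphisms that agree on the seven transvections are equal. -/
theorem spHom_ext {M : Type*} [Group M] {f f' : SpGrp →* M} (h : ∀ i, f (sGen i) = f' (sGen i)) : f = f' :=
  MonoidHom.eq_of_eqOn_dense sGen_closure (Set.eqOn_range.2 (funext h))

theorem five_table : wordEq (SpinCert.fiveWord ++ SpinCert.fiveWord ++ SpinCert.fiveWord ++ SpinCert.fiveWord ++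
      SpinCert.fiveWord) [] = true ∧
    wordEq (SpinCert.fiveWord ++ [sRoot 0]) ([sRoot 0] ++ SpinCert.fiveWord) = true ∧
    (∀ k ∈ SpinCert.fiveWord, 1 ≤ k ∧ k < 64) ∧
    ∃ v : Fin 63, tvW SpinCert.fiveWord (v + 1) ≠ (v : ℕ) + 1 := by decide +kernel

theorem sWord_append (a b : List ℕ) : sWord (a ++ b) = sWord a * sWord b := by simp [sWord]

/-- An element of order five commuting with the first transvection. -/
theorem exists_five : ∃ x : SpGrp, x ^ 5 = 1 ∧ x ≠ 1 ∧ Commute x (sGen 0) := by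
  obtain ⟨h1, h2, h3, v, hv⟩ := five_table
  refine ⟨sWord SpinCert.fiveWord, ?_, fun e => hv ?_, ?_⟩
  · have := eq_of_wordEq h1
    simp only [sWord_append] at this
    rw [show sWord ([] : List ℕ) = 1 from rfl] at this
    simpa [pow_succ] using this
  · rw [← actN_word _ h3 _ (by omega) (by omega), e, actN_one (by omega) (by omega)]
  · have := eq_of_wordEq h2
    simp only [sWord_append] at this
    simpa [sWord, sGen, Commute, SemiconjBy] using this

end Cfsg.Lib.CoTwoType
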