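import Cfsg.Agent.Lib.SpSix.Unique
import Cfsg.Agent.Lib.CoTwoType.SpinSp

/-!
# In a stem double cover of `Sp6(2)` a transvection lifts to elements of order four
-/

set_option autoImplicit false
set_option maxRecDepth 100000

namespace Cfsg.Lib.CoTwoType

open Cfsg Cfsg.Lib.SpSix Cfsg.Lib.Linear.Symp
open scoped Matrix

universe u

/-- A word for the first transvection. -/
def tWord0 : List ℕ := tvWord.getD (sRoot 0 - 1) []

theorem tWord0_moves : pImg tWord0 (pImg tWord0 0) ≠ 0 := by decide +kernel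

theorem toSp_tWord0 : toSp (cWord tWord0) = sGen 0 := by
  refine spRep_injective ?_
  rw [spRep_toSp]
  refine Equiv.ext fun j => Fin.ext ?_
  have h0 : sRoot 0 - 1 < 63 := by decide +kernel
  have h1 : spRep (sGen 0) j = tvVec ⟨sRoot 0 - 1, h0⟩ j := by
    rw [spRep_apply]
    show SpSix.cod (Cfsg.sympTransvection 3 (SpSix.vec (Fin.ofNat 63 (sRoot 0 - 1))) 1 *ᵥ _) = _
    rw [show Fin.ofNat 63 (sRoot 0 - 1) = ⟨sRoot 0 - 1, h0⟩ from Fin.ext (Nat.mod_eq_of_lt h0),
      sympTransvection_mulVec, one_mul, spB_apply, tvVec]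
  rw [cWord_vec, h1]
  exact tv_table ⟨sRoot 0 - 1, h0⟩ j

theorem tWord0_sq : cWord tWord0 * cWord tWord0 = tau := by
  refine (ker_cases ?_).resolve_left fun e => tWord0_moves ?_
  · have h : toSp (cWord tWord0 * cWord tWord0) = 1 := by rw [map_mul, toSp_tWord0, sGen_sq]
    rw [← spRep_toSp, h, map_one]
  · have h := congrArg (fun g => (ptAct g 0 : ℕ)) e
    simp only [map_mul, Equiv.Perm.mul_apply, map_one, Equiv.Perm.one_apply] at h
    rw [cWord_pt, cWord_pt] at h
    simpa using h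

/-- In a stem double cover a word squaring to the central element lifts to no involution. -/
theorem stem_sq_word {W : List ℕ} (hW : cWord W * cWord W = tau) {H : Type u} [Group H] [Finite H] (σ : H →* SpGrp) (hs : Function.Surjective σ)
    (hc : σ.ker ≤ Subgroup.center H) (hk : σ.ker ≤ commutator H) (h2 : Nat.card σ.ker = 2) {h : H}
    (hh : σ h = toSp (cWord W)) : h * h ≠ 1 := by
  classical
  let σ' : H →* ULift.{u} SpGrp := MulEquiv.ulift.symm.toMonoidHom.comp σ
  have hker : σ'.ker = σ.ker := by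
    ext x
    simp [σ', MonoidHom.mem_ker]
  let θ : ULift.{u} Cov →* ULift.{u} SpGrp :=
    (MulEquiv.ulift.symm.toMonoidHom.comp toSp).comp MulEquiv.ulift.toMonoidHom
  have hθ : Function.Surjective θ :=
    (MulEquiv.ulift.symm.surjective.comp toSp_surjective).comp MulEquiv.ulift.surjective
  obtain ⟨τ, hτ, hcomp⟩ := Cfsg.Lib.SpMult.lift_of_trivial Cfsg.Lib.SpMult.perfect_uCov
    (fun Γ _ _ π hπ => Cfsg.Lib.SpMult.noStem_uCov Γ π hπ) θ hθ σ'
    ⟨MulEquiv.ulift.symm.surjective.comp hs, hker ▸ hc, hker ▸ hk⟩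
  have hcard : Nat.card H = 2903040 := by
    rw [← σ.ker.card_mul_index, Subgroup.index_ker, MonoidHom.range_eq_top.2 hs, Subgroup.card_top, h2, card_Sp]
  have hinj : Function.Injective τ := ((Nat.bijective_iff_surjective_and_card τ).2 ⟨hτ, by
    rw [hcard, Nat.card_congr (MulEquiv.ulift : ULift.{u} Cov ≃* Cov).toEquiv, card_Cov]⟩).1
  let c : ULift.{u} Cov := ULift.up (cWord W)
  have hcσ : σ (τ c) = toSp (cWord W) := congrArg ULift.down (hcomp c)
  have hkm : (τ c)⁻¹ * h ∈ σ.ker := by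
    rw [MonoidHom.mem_ker, map_mul, map_inv, hcσ, hh, inv_mul_cancel]
  have hk2 : ((τ c)⁻¹ * h) * ((τ c)⁻¹ * h) = 1 := by
    haveI : Finite σ.ker := Nat.finite_of_card_ne_zero (by rw [h2]; norm_num)
    have := pow_card_eq_one' (x := (⟨_, hkm⟩ : σ.ker))
    rw [h2, pow_two] at this
    exact congrArg Subtype.val this
  have hcomm : Commute ((τ c)⁻¹ * h) (τ c) := ((Subgroup.mem_center_iff.1 (hc hkm)) (τ c)).symm
  intro e
  have e1 : τ (c * c) = 1 := by
    rw [map_mul]
    calc τ c * τ c = τ c * τ c * (((τ c)⁻¹ * h) * ((τ c)⁻¹ * h)) := by rw [hk2, mul_one]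
      _ = τ c * ((τ c)⁻¹ * h) * (τ c * ((τ c)⁻¹ * h)) := by
          simpa only [pow_two] using (hcomm.symm.mul_pow 2).symm
      _ = 1 := by rw [mul_inv_cancel_left, e]
  have e2 : c * c = 1 := hinj (e1.trans (map_one τ).symm)
  exact tau_ne_one (hW ▸ congrArg ULift.down e2)

/-- A word for the product of the first and the third transvection. -/
def tWord1 : List ℕ := tWord0 ++ tvWord.getD (sRoot 2 - 1) []

theorem tWord1_facts : pImg tWord1 (pImg tWord1 0) ≠ 0 ∧
    wordEq [sRoot 0, sRoot 2, sRoot 0, sRoot 2] [] = true := by decide +kernel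

theorem toSp_tWord1 : toSp (cWord tWord1) = sGen 0 * sGen 2 := by
  refine spRep_injective ?_
  rw [spRep_toSp]
  refine Equiv.ext fun j => Fin.ext ?_
  have h0 : sRoot 0 - 1 < 63 := by decide +kernel
  have h2 : sRoot 2 - 1 < 63 := by decide +kernel
  have key : ∀ (k : Fin 7) (hk : sRoot k - 1 < 63) (j : Fin 63), spRep (sGen k) j = tvVec ⟨sRoot k - 1, hk⟩ j := by
    intro k hk j
    rw [spRep_apply]
    show SpSix.cod (Cfsg.sympTransvection 3 (SpSix.vec (Fin.ofNat 63 (sRoot k - 1))) 1 *ᵥ _) = _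
    rw [show Fin.ofNat 63 (sRoot k - 1) = ⟨sRoot k - 1, hk⟩ from Fin.ext (Nat.mod_eq_of_lt hk),
      sympTransvection_mulVec, one_mul, spB_apply, tvVec]
  rw [map_mul, Equiv.Perm.mul_apply, key 2 h2, key 0 h0, cWord_vec, tWord1,
    show vImg (tWord0 ++ tvWord.getD (sRoot 2 - 1) []) j = vImg tWord0 (vImg (tvWord.getD (sRoot 2 - 1) []) j) by
      simp only [vImg, List.foldr_append],
    show vImg (tvWord.getD (sRoot 2 - 1) []) j = (tvVec ⟨sRoot 2 - 1, h2⟩ j : ℕ) from tv_table ⟨sRoot 2 - 1, h2⟩ j]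
  exact tv_table ⟨sRoot 0 - 1, h0⟩ _

theorem tWord1_sq : cWord tWord1 * cWord tWord1 = tau := by
  refine (ker_cases ?_).resolve_left fun e => tWord1_facts.1 ?_
  · have h : toSp (cWord tWord1 * cWord tWord1) = 1 := by
      rw [map_mul, toSp_tWord1]
      simpa [sWord, sGen, mul_assoc] using eq_of_wordEq tWord1_facts.2
    rw [← spRep_toSp, h, map_one]
  · have h := congrArg (fun g => (ptAct g 0 : ℕ)) e
    simp only [map_mul, Equiv.Perm.mul_apply, map_one, Equiv.Perm.one_apply] at h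
    rw [cWord_pt, cWord_pt] at h
    simpa using h

end Cfsg.Lib.CoTwoType
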