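import Cfsg.Agent.Lib.CoTwoType.SpinChecks

/-!
# Depths of the search
-/

set_option autoImplicit false
set_option maxRecDepth 100000

namespace Cfsg.Lib.CoTwoType.SpinCert

open Cfsg.Lib.CoTwoType

theorem levelA1 : levelOk threeA 1 lvA1 (lvA2.map Node.pre) = true := by decide +kernel
theorem levelA2 : levelOk twoA 2 lvA2 (lvA3.map Node.pre) = true := by decide +kernel
theorem levelA3 : levelOk twoA 3 lvA3 (lvA4.map Node.pre) = true := by decide +kernel
theorem levelA4 : levelOk twoA 4 lvA4 (lvA5.map Node.pre) = true := by decide +kernel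
theorem levelA5 : levelOk twoA 5 lvA5 (lvA6.map Node.pre) = true := by decide +kernel
theorem levelA6 : levelOk twoA 6 lvA6 leavesA = true := by decide +kernel
theorem levelC1 : levelOk threeC 1 lvC1 (lvC2.map Node.pre) = true := by decide +kernel
theorem levelC2 : levelOk twoC 2 lvC2 (lvC3.map Node.pre) = true := by decide +kernel
theorem levelC3 : levelOk twoC 3 lvC3 (lvC4.map Node.pre) = true := by decide +kernel
theorem levelC4 : levelOk twoC 4 lvC4 (lvC5.map Node.pre) = true := by decide +kernel
theorem levelC5 : levelOk twoC 5 lvC5 (lvC6.map Node.pre) = true := by decide +kernel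
theorem levelC6 : levelOk twoC 6 lvC6 leavesC = true := by decide +kernel
theorem levelF1 : levelOk threeF 1 lvF1 (lvF2.map Node.pre) = true := by decide +kernel
theorem levelF2 : levelOk twoF 2 lvF2 (lvF3.map Node.pre) = true := by decide +kernel
theorem levelF3 : levelOk twoF 3 lvF3 (lvF4.map Node.pre) = true := by decide +kernel
theorem levelF4 : levelOk twoF 4 lvF4 (lvF5.map Node.pre) = true := by decide +kernel
theorem levelF5 : levelOk twoF 5 lvF5 (lvF6.map Node.pre) = true := by decide +kernel
theorem levelF6 : levelOk twoF 6 lvF6 leavesF = true := by decide +kernel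

end Cfsg.Lib.CoTwoType.SpinCert
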