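import Cfsg.Agent.Lib.CoTwoType.SpinChecks

/-!
# Scans of the root class and of the reflection pairs
-/

set_option autoImplicit false
set_option maxRecDepth 100000

namespace Cfsg.Lib.CoTwoType.SpinCert

open Cfsg.Lib.CoTwoType

theorem scanA2 : scanOk classA baseA false twoA = true := by decide +kernel
theorem scanA3 : scanOk classA baseA true threeA = true := by decide +kernel
theorem scanC2 : scanOk classC baseC false twoC = true := by decide +kernel
theorem scanC3 : scanOk classC baseC true threeC = true := by decide +kernel

end Cfsg.Lib.CoTwoType.SpinCert
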