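import Cfsg.Agent.Lib.CoTwoType.SpinChecks

/-!
# Scan of the involutions fixing a half
-/

set_option autoImplicit false
set_option maxRecDepth 100000

namespace Cfsg.Lib.CoTwoType.SpinCert

open Cfsg.Lib.CoTwoType

theorem scanF2 : scanOk classF baseF false twoF = true := by decide +kernel
theorem scanF3 : scanOk classF baseF true threeF = true := by decide +kernel

end Cfsg.Lib.CoTwoType.SpinCert
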