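import Cfsg.Agent.Lib.CoTwoType.SpinClasses
import Cfsg.Agent.Lib.CoTwoType.SpinSp
import Cfsg.Agent.Lib.CoTwoType.SpinScanA
import Cfsg.Agent.Lib.CoTwoType.SpinScanF
import Cfsg.Agent.Lib.CoTwoType.SpinLevels

/-!
# The representations of `Sp6(2)` in the plus group of dimension eight without fixed vectors
-/

set_option autoImplicit false
set_option linter.style.haveILetI false
set_option maxRecDepth 100000

namespace Cfsg.Lib.CoTwoType

open Cfsg Module Cfsg.Lib.Linear Cfsg.Lib.Linear.Orth Cfsg.Lib.CoOneLocal Cfsg.Lib.SpSix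
open scoped Matrix

/-- Seven images of the transvections with the relations of the diagram. -/
structure Seven where
  y : Fin 7 → GL I8 (ZMod 2)
  inj : Function.Injective y
  braid : ∀ i j, i ≠ j → SpinCert.adjB i.val j.val = true → y i * y j * y i = y j * y i * y j
  comm : ∀ i j, i ≠ j → SpinCert.adjB i.val j.val = false → Commute (y i) (y j)

variable (S : Seven)

theorem Seven.rel {i j : Fin 7} (hij : i ≠ j) {f f' : ℕ → ℕ} {g : GL I8 (ZMod 2)}
    (hf : Tab f (g * S.y i * g⁻¹)) (hf' : Tab f' (g * S.y j * g⁻¹)) :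
    SpinCert.relB (SpinCert.adjB i.val j.val) f f' = true := by
  have hne : agree f f' = false := by
    cases h : agree f f'
    · rfl
    · exact absurd (S.inj (mul_left_cancel (mul_right_cancel (hf.eq_of_agree hf' h)))) hij
  cases hb : SpinCert.adjB i.val j.val
  · simp only [SpinCert.relB, cond_false, SpinCert.cmB, hne, Bool.not_false, Bool.true_and]
    refine (hf.mul hf').agree_of_eq (hf'.mul hf) ?_
    calc g * S.y i * g⁻¹ * (g * S.y j * g⁻¹) = g * (S.y i * S.y j) * g⁻¹ := by group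
      _ = g * (S.y j * S.y i) * g⁻¹ := by rw [(S.comm i j hij hb).eq]
      _ = g * S.y j * g⁻¹ * (g * S.y i * g⁻¹) := by group
  · simp only [SpinCert.relB, cond_true, SpinCert.brB, hne, Bool.not_false, Bool.true_and]
    refine (hf.mul (hf'.mul hf)).agree_of_eq (hf'.mul (hf.mul hf')) ?_
    calc g * S.y i * g⁻¹ * (g * S.y j * g⁻¹ * (g * S.y i * g⁻¹)) = g * (S.y i * S.y j * S.y i) * g⁻¹ := by group
      _ = g * (S.y j * S.y i * S.y j) * g⁻¹ := by rw [S.braid i j hij hb]
      _ = g * S.y j * g⁻¹ * (g * S.y i * g⁻¹ * (g * S.y j * g⁻¹)) := by group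

/-- The images are, after an isometry, one of the listed prefixes. -/
def Reached (base : ℕ) (pres : List (List ℕ)) (i : ℕ) : Prop :=
  ∃ pre ∈ pres, pre.length = i ∧ pre.getD 0 0 = base ∧
    ∃ g ∈ Iso8, ∀ j : Fin 7, j.val < i → Tab (app (pre.getD j.val 0)) (g * S.y j * g⁻¹)

theorem Seven.step {K : List (ℕ → ℕ)} {base : ℕ} {L : List ℕ} {nodes : List SpinCert.Node} {next : List (List ℕ)}
    {i : ℕ} (hi : 1 ≤ i) (hi' : i < 7)
    (hK : ∀ j : Fin 7, ∀ g ∈ Iso8, ∃ f ∈ K, Tab f (g * S.y j * g⁻¹))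
    (hscan : SpinCert.scanOk K base (SpinCert.adjB 0 i) L = true)
    (hlvl : SpinCert.levelOk L i nodes next = true)
    (h : Reached S base (nodes.map SpinCert.Node.pre) i) : Reached S base next (i + 1) := by
  obtain ⟨_, hmem, hlen, h0, g, hg, hT⟩ := h
  obtain ⟨n, hn, rfl⟩ := List.mem_map.1 hmem
  set z := g * S.y ⟨i, hi'⟩ * g⁻¹ with hz
  obtain ⟨f, hf, hzf⟩ := hK ⟨i, hi'⟩ g hg
  simp only [SpinCert.scanOk, beq_iff_eq] at hscan
  have hzero : Tab (app base) (g * S.y 0 * g⁻¹) := h0 ▸ hT 0 (by show 0 < i; omega)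
  have hL : enc f ∈ L := by
    rw [← hscan]
    refine List.mem_map.2 ⟨f, List.mem_filter.2 ⟨hf, ?_⟩, rfl⟩
    exact S.rel (i := 0) (j := ⟨i, hi'⟩) (fun e => by have := congrArg Fin.val e; simp at this; omega) hzero hzf
  have hzc : Tab (app (enc f)) z := hzf.enc
  have hsurv : enc f ∈ SpinCert.surv L n.pre i := by
    simp only [SpinCert.surv, List.mem_filter, List.all_eq_true, List.mem_range, Bool.or_eq_true, beq_iff_eq]
    refine ⟨hL, fun j hj => Or.inr ?_⟩
    exact S.rel (i := ⟨j, by omega⟩) (j := ⟨i, hi'⟩) (fun e => by have := congrArg Fin.val e; simp at this; omega)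
      (hT ⟨j, by omega⟩ hj) hzc
  simp only [SpinCert.levelOk, List.all_eq_true] at hlvl
  have hok := hlvl n hn
  simp only [SpinCert.nodeOk, Bool.and_eq_true, List.all_eq_true, beq_iff_eq, List.elem_eq_mem,
    decide_eq_true_eq] at hok
  obtain ⟨⟨⟨-, hwlen⟩, hcand⟩, hkids⟩ := hok
  obtain ⟨k, hk, hke⟩ := List.mem_iff_getElem.1 hsurv
  have hpair : (enc f, n.ws[k]'(hwlen ▸ hk)) ∈ (SpinCert.surv L n.pre i).zip n.ws := by
    rw [List.mem_iff_getElem]
    exact ⟨k, by rw [List.length_zip, ← hwlen, Nat.min_self]; exact hk, by rw [List.getElem_zip, hke]⟩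
  have hc := hcand _ hpair
  simp only [SpinCert.candOk, Bool.and_eq_true, decide_eq_true_eq, List.all_eq_true] at hc
  obtain ⟨⟨⟨hkid, hiso⟩, hfix⟩, hmove⟩ := hc
  obtain ⟨H, hH, hHT⟩ := exists_iso hiso
  have hkm : n.kids.getD (n.ws[k]'(hwlen ▸ hk)).1 0 ∈ n.kids := by
    rw [List.getD_eq_getElem _ _ hkid]; exact List.getElem_mem hkid
  refine ⟨_, hkids _ hkm, by simp [hlen], ?_, H * g, mul_mem hH hg, fun j hj => ?_⟩
  · rw [List.getD_append _ _ _ _ (by omega), h0]
  have e : H * g * S.y j * (H * g)⁻¹ = H * (g * S.y j * g⁻¹) * H⁻¹ := by group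
  rw [e]
  rcases Nat.lt_succ_iff_lt_or_eq.1 hj with hj | hj
  · rw [List.getD_append _ _ _ _ (by omega)]
    refine tab_conj hHT (hT j hj) (hfix _ ?_)
    rw [List.getD_eq_getElem _ _ (by omega)]
    exact List.getElem_mem _
  · obtain rfl : j = ⟨i, hi'⟩ := Fin.ext hj
    rw [List.getD_append_right _ _ _ _ (by omega), hlen, Nat.sub_self]
    exact tab_conj hHT hzc hmove

theorem Seven.search {K : List (ℕ → ℕ)} {base : ℕ} {two three : List ℕ}
    {l1 l2 l3 l4 l5 l6 : List SpinCert.Node} {leaves : List (List ℕ)}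
    (hK : ∀ j : Fin 7, ∀ g ∈ Iso8, ∃ f ∈ K, Tab f (g * S.y j * g⁻¹))
    (s2 : SpinCert.scanOk K base false two = true) (s3 : SpinCert.scanOk K base true three = true)
    (hroot : l1.map SpinCert.Node.pre = [[base]])
    (v1 : SpinCert.levelOk three 1 l1 (l2.map SpinCert.Node.pre) = true)
    (v2 : SpinCert.levelOk two 2 l2 (l3.map SpinCert.Node.pre) = true)
    (v3 : SpinCert.levelOk two 3 l3 (l4.map SpinCert.Node.pre) = true)
    (v4 : SpinCert.levelOk two 4 l4 (l5.map SpinCert.Node.pre) = true)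
    (v5 : SpinCert.levelOk two 5 l5 (l6.map SpinCert.Node.pre) = true)
    (v6 : SpinCert.levelOk two 6 l6 leaves = true)
    {g : GL I8 (ZMod 2)} (hg : g ∈ Iso8) (h0 : Tab (app base) (g * S.y 0 * g⁻¹)) :
    Reached S base leaves 7 := by
  have r1 : Reached S base (l1.map SpinCert.Node.pre) 1 := by
    refine ⟨[base], by simp [hroot], rfl, rfl, g, hg, fun j hj => ?_⟩
    obtain rfl : j = 0 := Fin.ext (by simpa using hj)
    exact h0
  exact S.step (by norm_num) (by norm_num) hK s2 v6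
    (S.step (by norm_num) (by norm_num) hK s2 v5
      (S.step (by norm_num) (by norm_num) hK s2 v4
        (S.step (by norm_num) (by norm_num) hK s2 v3
          (S.step (by norm_num) (by norm_num) hK s2 v2
            (S.step le_rfl (by norm_num) hK s3 v1 r1)))))

/-- The spin images of the seven transvections. -/
def spinC (i : Fin 7) : ℕ := (SpinCert.leavesF.getD 0 []).getD i.val 0

/-- A faithful representation in `Omega` fixes a nonsingular vector or is the spin one on the seven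
transvections. -/
theorem spin_cases (ρ : SpGrp →* GL I8 (ZMod 2)) (hinj : Function.Injective ρ)
    (hom : ∀ x, ρ x ∈ Geo.omegaGL q8) :
    (∃ v : V8, q8 v = 1 ∧ ∀ x, (ρ x).val *ᵥ v = v) ∨ ∃ g ∈ Iso8, ∀ i, Tab (app (spinC i)) (g * ρ (sGen i) * g⁻¹) := by
  let S : Seven :=
    { y := fun i => ρ (sGen i)
      inj := hinj.comp sGen_inj
      braid := fun i j hij h => by simp only [← map_mul, sGen_braid hij h]
      comm := fun i j hij h => (sGen_comm hij h).map ρ }
  have hiso : ∀ x, ρ x ∈ Iso8 := fun x => omegaGL_le_iso (hom x)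
  obtain ⟨x, hx5, hx1, hxc⟩ := exists_five
  obtain ⟨b, hb, g0, hg0, hT0⟩ := class_cases (hom (sGen 0))
    (by rw [← map_mul, sGen_sq, map_one]) (fun e => sGen_ne_one 0 (hinj (by rw [e, map_one])))
    (hiso x) (hxc.map ρ) (by rw [← map_pow, hx5, map_one]) (fun e => hx1 (hinj (by rw [e, map_one])))
  have hconj : ∀ j : Fin 7, ∀ g ∈ Iso8, ∃ g' ∈ Iso8,
      g * S.y j * g⁻¹ = g' * (g0 * ρ (sGen 0) * g0⁻¹) * g'⁻¹ := by
    intro j g hg
    obtain ⟨w, hw⟩ := sGen_conj j
    refine ⟨g * ρ w * g0⁻¹, mul_mem (mul_mem hg (hiso w)) (inv_mem hg0), ?_⟩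
    show g * ρ (sGen j) * g⁻¹ = _
    rw [← hw, map_mul, map_mul, map_inv]
    group
  simp only [List.mem_cons, List.not_mem_nil, or_false] at hb
  obtain ⟨rA, rC, rF⟩ := SpinCert.rootA
  obtain ⟨nA, fC, lF⟩ := SpinCert.leaves_facts
  rcases hb with rfl | rfl | rfl
  · exfalso
    obtain ⟨pre, hpre, -⟩ := S.search (K := SpinCert.classA) (fun j g hg => by
      obtain ⟨g', hg', e⟩ := hconj j g hg
      rw [e]; exact memberA hg' hT0) SpinCert.scanA2 SpinCert.scanA3 rA SpinCert.levelA1 SpinCert.levelA2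
      SpinCert.levelA3 SpinCert.levelA4 SpinCert.levelA5 SpinCert.levelA6 hg0 hT0
    rw [nA] at hpre
    simp at hpre
  · left
    obtain ⟨pre, hpre, hlen, -, g, hg, hT⟩ := S.search (K := SpinCert.classC) (fun j g hg => by
      obtain ⟨g', hg', e⟩ := hconj j g hg
      rw [e]; exact memberC hg' hT0) SpinCert.scanC2 SpinCert.scanC3 rC SpinCert.levelC1 SpinCert.levelC2
      SpinCert.levelC3 SpinCert.levelC4 SpinCert.levelC5 SpinCert.levelC6 hg0 hT0
    simp only [List.all_eq_true, List.mem_range, beq_iff_eq] at fC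
    set v : V8 := (g⁻¹).val *ᵥ vec 17 with hv
    have hgv : g.val *ᵥ v = vec 17 := by rw [hv, ← mul_act, mul_inv_cancel, Units.val_one, Matrix.one_mulVec]
    let H : Subgroup SpGrp :=
      { carrier := {x | (ρ x).val *ᵥ v = v}
        one_mem' := by simp
        mul_mem' := fun {a b} ha hb => by
          show (ρ (a * b)).val *ᵥ v = v
          rw [map_mul, mul_act, hb, ha]
        inv_mem' := fun {a} ha => by
          show (ρ a⁻¹).val *ᵥ v = v
          conv_lhs => rw [← ha]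
          rw [← mul_act, ← map_mul, inv_mul_cancel, map_one, Units.val_one, Matrix.one_mulVec] }
    have hall : ∀ x, x ∈ H := fun x => by
      have : Subgroup.closure (Set.range sGen) ≤ H := by
        rw [Subgroup.closure_le]
        rintro _ ⟨i, rfl⟩
        show (ρ (sGen i)).val *ᵥ v = v
        refine act_injective g ?_
        show g.val *ᵥ _ = g.val *ᵥ v
        have h1 := ((hT i i.isLt) 17 (by norm_num)).2
        rw [fC pre hpre i.val i.isLt, mul_act, mul_act, ← hv] at h1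
        rw [h1, hgv]
      exact this (by rw [sGen_closure]; trivial)
    refine ⟨v, ?_, hall⟩
    rw [← mem_iso.1 hg v, hgv, q_vec (by norm_num)]
    rfl
  · obtain ⟨pre, hpre, -, -, g, hg, hT⟩ := S.search (K := SpinCert.classF) (fun j g hg => by
      obtain ⟨g', hg', e⟩ := hconj j g hg
      rw [e]; exact memberF hg' hT0 (mul_mem (mul_mem hg0 (hiso _)) (inv_mem hg0))) SpinCert.scanF2 SpinCert.scanF3
      rF SpinCert.levelF1 SpinCert.levelF2
      SpinCert.levelF3 SpinCert.levelF4 SpinCert.levelF5 SpinCert.levelF6 hg0 hT0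
    refine Or.inr ⟨g, hg, fun i => ?_⟩
    have e : pre = SpinCert.leavesF.getD 0 [] := by
      obtain ⟨a, ha⟩ := List.length_eq_one_iff.1 lF
      rw [ha] at hpre ⊢
      simpa using hpre
    rw [spinC, ← e]
    exact hT i i.isLt

/-- A faithful representation in `Omega` without fixed vector is the spin one on the seven transvections. -/
theorem spin_gens (ρ : SpGrp →* GL I8 (ZMod 2)) (hinj : Function.Injective ρ)
    (hom : ∀ x, ρ x ∈ Geo.omegaGL q8) (hfix : ∀ v : V8, (∀ x, (ρ x).val *ᵥ v = v) → v = 0) :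
    ∃ g ∈ Iso8, ∀ i, Tab (app (spinC i)) (g * ρ (sGen i) * g⁻¹) := by
  rcases spin_cases ρ hinj hom with ⟨v, hv, hf⟩ | h
  · rw [hfix v hf, space8.zero] at hv
    exact absurd hv zero_ne_one
  · exact h

/-- The spin representation has no fixed vectors. -/
theorem spinC_no_fix : ((List.range 256).all fun v =>
    v == 0 || (List.finRange 7).any fun i => app (spinC i) v != v) = true := by decide +kernel

/-- Without a fixed nonsingular vector there is no fixed vector. -/
theorem fixed_eq_zero (ρ : SpGrp →* GL I8 (ZMod 2)) (hinj : Function.Injective ρ)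
    (hom : ∀ x, ρ x ∈ Geo.omegaGL q8) (hns : ¬ ∃ v : V8, q8 v = 1 ∧ ∀ x, (ρ x).val *ᵥ v = v)
    {v : V8} (hv : ∀ x, (ρ x).val *ᵥ v = v) : v = 0 := by
  obtain ⟨g, -, hT⟩ := (spin_cases ρ hinj hom).resolve_left hns
  obtain ⟨e, hlt⟩ := vec_cod (g.val *ᵥ v)
  have h := spinC_no_fix
  simp only [List.all_eq_true, List.mem_range, Bool.or_eq_true, beq_iff_eq, List.any_eq_true,
    List.mem_finRange, true_and, bne_iff_ne] at h
  rcases h _ hlt with h0 | ⟨i, hi⟩
  · rw [h0, vec_zero] at e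
    exact act_injective g (show g.val *ᵥ v = g.val *ᵥ 0 by rw [Matrix.mulVec_zero, ← e])
  · refine absurd (vec_inj (app_lt _ _) hlt ?_) hi
    rw [← ((hT i) _ hlt).2, e, mul_act, mul_act, inv_act, hv]

/-- Two faithful representations in `Omega` without fixed vectors are conjugate under the isometries. -/
theorem spin_unique (ρ ρ' : SpGrp →* GL I8 (ZMod 2)) (hinj : Function.Injective ρ)
    (hinj' : Function.Injective ρ') (hom : ∀ x, ρ x ∈ Geo.omegaGL q8) (hom' : ∀ x, ρ' x ∈ Geo.omegaGL q8)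
    (hfix : ∀ v : V8, (∀ x, (ρ x).val *ᵥ v = v) → v = 0)
    (hfix' : ∀ v : V8, (∀ x, (ρ' x).val *ᵥ v = v) → v = 0) :
    ∃ g ∈ Iso8, ∀ x, g * ρ x * g⁻¹ = ρ' x := by
  obtain ⟨a, ha, hA⟩ := spin_gens ρ hinj hom hfix
  obtain ⟨b, hb, hB⟩ := spin_gens ρ' hinj' hom' hfix'
  refine ⟨b⁻¹ * a, mul_mem (inv_mem hb) ha, fun x => ?_⟩
  have e : ((MulAut.conj (b⁻¹ * a)).toMonoidHom.comp ρ) = ρ' := spHom_ext fun i => by
    have h := (hA i).eq_of (hB i) fun _ _ => rfl
    show b⁻¹ * a * ρ (sGen i) * (b⁻¹ * a)⁻¹ = ρ' (sGen i)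
    calc b⁻¹ * a * ρ (sGen i) * (b⁻¹ * a)⁻¹ = b⁻¹ * (a * ρ (sGen i) * a⁻¹) * b := by group
      _ = ρ' (sGen i) := by rw [h]; group
  exact DFunLike.congr_fun e x

end Cfsg.Lib.CoTwoType
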