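import Cfsg.Agent.S2166
import Cfsg.Agent.Lib.CoTwoType.SpStem
import Cfsg.Agent.Lib.CoTwoType.SpinClassify

/-!
# The involutions of `Sp6(2)` in the spin representation
-/

set_option autoImplicit false
set_option linter.style.haveILetI false
set_option maxRecDepth 100000

namespace Cfsg.Lib.CoTwoType

open Cfsg Module Cfsg.Lib.SpSix Cfsg.Lib.Linear.Symp Cfsg.Lib.Linear.Orth Cfsg.Lib.CoOneLocal
open Cfsg.Agent.S2166 (nil nil_apply nil_props isConj_of_type)
open scoped Matrix

/-- Four words in the seven transvections, one for each class of involutions. -/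
def repW : Fin 4 → List (Fin 7) := ![[0], [0, 2], [3, 5, 6], [0, 2, 4]]

/-- The representatives. -/
noncomputable def sRep (k : Fin 4) : SpGrp := ((repW k).map sGen).prod

/-- The six-bit vectors. -/
abbrev V6 : Type := Fin 3 ⊕ Fin 3 → ZMod 2

/-- The vector of a six-bit code. -/
def vec6 (n : ℕ) : V6 := fun i => if n.testBit (i.elim (fun j => j.val) fun j => 3 + j.val) then 1 else 0

/-- The action of a word on six-bit codes. -/
def repFun (k : Fin 4) (v : ℕ) : ℕ := (repW k).foldr (fun i x => tvN (sRoot i) x) v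

theorem tv_code : ∀ i : Fin 7, ∀ v : Fin 64,
    (tvN (sRoot i) v.val < 64 ∧
      Cfsg.sympTransvection 3 (SpSix.vec (Fin.ofNat 63 (sRoot i - 1))) (1 : ZMod 2) *ᵥ vec6 v.val =
        vec6 (tvN (sRoot i) v.val)) := by decide +kernel

theorem sGen_code (i : Fin 7) {v : ℕ} (hv : v < 64) :
    tvN (sRoot i) v < 64 ∧ (sGen i).1 *ᵥ vec6 v = vec6 (tvN (sRoot i) v) := tv_code i ⟨v, hv⟩

theorem word_code : ∀ (W : List (Fin 7)) {v : ℕ}, v < 64 →
    W.foldr (fun i x => tvN (sRoot i) x) v < 64 ∧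
      ((W.map sGen).prod : SpGrp).1 *ᵥ vec6 v = vec6 (W.foldr (fun i x => tvN (sRoot i) x) v)
  | [], v, hv => ⟨hv, by simp⟩
  | i :: W, v, hv => by
    obtain ⟨h1, h2⟩ := word_code W hv
    obtain ⟨h3, h4⟩ := sGen_code i h1
    refine ⟨h3, ?_⟩
    rw [List.map_cons, List.prod_cons, Submonoid.coe_mul, ← Matrix.mulVec_mulVec, h2, h4]
    rfl

theorem vec6_surj : ∀ x : V6, ∃ n : Fin 64, vec6 n.val = x := by decide +kernel

theorem rep_nil (k : Fin 4) (v : Fin 64) :
    nil (sRep k) (vec6 v.val) = vec6 (repFun k v.val) - vec6 v.val := by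
  rw [nil_apply, sRep, (word_code _ v.isLt).2]
  rfl

theorem rep_facts : ∀ k : Fin 4,
    (Finset.univ.image fun v : Fin 64 => vec6 (repFun k v.val) - vec6 v.val).card = 2 ^ ![1, 2, 2, 3] k ∧
    ((∀ v : Fin 64, Cfsg.sympForm 3 (ZMod 2) (vec6 v.val) (vec6 (repFun k v.val) - vec6 v.val) = 0) ↔ k = 2) ∧
    (∀ v : Fin 64, repFun k (repFun k v.val) = v.val) := by decide +kernel

theorem rep_sq (k : Fin 4) : sRep k * sRep k = 1 := by
  refine Subtype.ext (Matrix.ext_of_mulVec_single fun j => ?_)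
  obtain ⟨n, hn⟩ := vec6_surj (Pi.single j 1)
  obtain ⟨h1, h2⟩ := word_code (repW k) n.isLt
  rw [← hn, Submonoid.coe_mul, ← Matrix.mulVec_mulVec, sRep, h2, (word_code (repW k) h1).2, Submonoid.coe_one,
    Matrix.one_mulVec]
  exact congrArg vec6 ((rep_facts k).2.2 n)

theorem rep_rank (k : Fin 4) : finrank (ZMod 2) (LinearMap.range (nil (sRep k))) = ![1, 2, 2, 3] k := by
  classical
  refine Nat.pow_right_injective le_rfl ?_
  show 2 ^ _ = 2 ^ _
  rw [← (rep_facts k).1]
  have hr : Nat.card ↥(LinearMap.range (nil (sRep k))) = 2 ^ finrank (ZMod 2) (LinearMap.range (nil (sRep k))) := by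
    rw [Module.natCard_eq_pow_finrank (K := ZMod 2), Nat.card_zmod]
  rw [← hr, ← SetLike.coe_sort_coe, Nat.card_coe_set_eq, ← Set.ncard_coe_finset]
  congr 1
  ext x
  simp only [SetLike.mem_coe, LinearMap.mem_range, Finset.coe_image, Finset.coe_univ, Set.image_univ, Set.mem_range]
  constructor
  · rintro ⟨y, rfl⟩
    obtain ⟨n, rfl⟩ := vec6_surj y
    exact ⟨n, (rep_nil k n).symm⟩
  · rintro ⟨n, rfl⟩
    exact ⟨_, rep_nil k n⟩

theorem rep_alt (k : Fin 4) : (∀ v, spB 3 (ZMod 2) v (nil (sRep k) v) = 0) ↔ k = 2 := by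
  rw [← (rep_facts k).2.1]
  constructor
  · intro h v
    rw [← spB_apply, ← rep_nil]
    exact h _
  · intro h v
    obtain ⟨n, rfl⟩ := vec6_surj v
    rw [rep_nil, spB_apply]
    exact h n

/-- Every involution of `Sp6(2)` is conjugate to one of the four. -/
theorem exists_rep {x : SpGrp} (h2 : x * x = 1) (h1 : x ≠ 1) : ∃ (k : Fin 4) (y : SpGrp), y * sRep k * y⁻¹ = x := by
  obtain ⟨hn2, hns⟩ := nil_props x h2
  have hsum := LinearMap.finrank_range_add_finrank_ker (nil x)
  rw [finrank_fintype_fun_eq_card, show Fintype.card (Fin 3 ⊕ Fin 3) = 6 from rfl] at hsum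
  have hle : LinearMap.range (nil x) ≤ LinearMap.ker (nil x) := by
    rintro _ ⟨v, rfl⟩; exact hn2 v
  have hle' := Submodule.finrank_mono hle
  have hne : finrank (ZMod 2) (LinearMap.range (nil x)) ≠ 0 := fun e => h1 (Subtype.ext (Matrix.ext_of_mulVec_single fun j => by
    have h := LinearMap.congr_fun (LinearMap.range_eq_bot.1 (Submodule.finrank_eq_zero.1 e)) (Pi.single j 1)
    rw [nil_apply, LinearMap.zero_apply, sub_eq_zero] at h
    rw [h, Submonoid.coe_one, Matrix.one_mulVec]))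
  have key : ∀ k : Fin 4, finrank (ZMod 2) (LinearMap.range (nil x)) = ![1, 2, 2, 3] k →
      ((∀ v, spB 3 (ZMod 2) v (nil x v) = 0) ↔ k = 2) → ∃ (k : Fin 4) (y : SpGrp), y * sRep k * y⁻¹ = x := by
    intro k hr ha
    obtain ⟨y, hy⟩ := isConj_iff.1 (isConj_of_type (rep_sq k) h2 ((rep_rank k).trans hr.symm)
      ((rep_alt k).trans ha.symm))
    exact ⟨k, y, hy⟩
  by_cases ha : ∀ v, spB 3 (ZMod 2) v (nil x v) = 0
  · have he := Cfsg.Lib.Linear.SympInv.rank_even (spB_nondegenerate 3 (ZMod 2)) _ hns ha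
    obtain ⟨j, hj⟩ := he
    exact key 2 (by show _ = 2; omega) (iff_of_true ha rfl)
  · have hcases : finrank (ZMod 2) (LinearMap.range (nil x)) = 1 ∨ finrank (ZMod 2) (LinearMap.range (nil x)) = 2 ∨
        finrank (ZMod 2) (LinearMap.range (nil x)) = 3 := by omega
    rcases hcases with h | h | h
    · exact key 0 h (iff_of_false ha (by decide))
    · exact key 1 h (iff_of_false ha (by decide))
    · exact key 3 h (iff_of_false ha (by decide))

/-- The spin code of a word. -/
def spinW (W : List (Fin 7)) (v : ℕ) : ℕ := W.foldr (fun i x => app (spinC i) x) v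

/-- Commuting generators for the two classes with singular fixed space. -/
def centW : Fin 2 → List (Fin 7) := ![[2, 4, 3], [0, 4, 5]]

/-- The fixed codes of a representative. -/
def fixL (k : Fin 4) : List ℕ := (List.range 256).filter fun v => spinW (repW k) v == v

/-- The sums of differences moved by the commuting generators. -/
def movedSums (k : Fin 2) : List ℕ :=
  (centW k).foldr (fun i acc => acc.flatMap fun s =>
    ((fixL k.castSucc.castSucc).map fun a => s ^^^ a ^^^ app (spinC i) a).dedup) [0]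

theorem spin_facts :
    (fixL 2).length = 64 ∧ ((fixL 3).any fun v => qn v) = true ∧
    (∀ k : Fin 2, (∀ i ∈ centW k, (wordEq (((repW k.castSucc.castSucc).map sRoot) ++ [sRoot i])
      ([sRoot i] ++ (repW k.castSucc.castSucc).map sRoot)) = true) ∧
      ((fixL k.castSucc.castSucc).all fun v => (movedSums k).elem v) = true) := by decide +kernel

theorem cent_comm (k : Fin 2) {i : Fin 7} (hi : i ∈ centW k) : Commute (sGen i) (sRep k.castSucc.castSucc) := by
  have h := eq_of_wordEq ((spin_facts.2.2 k).1 i hi)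
  rw [sWord_append, sWord_append] at h
  have e1 : ∀ W : List (Fin 7), sWord (W.map sRoot) = (W.map sGen).prod := fun W => by
    rw [sWord, List.map_map]; rfl
  have e2 : sWord [sRoot i] = sGen i := by simp [sWord, sGen]
  rw [e1, e2] at h
  exact h.symm

/-- The spin images of a word. -/
theorem tab_spin {ρ : SpGrp →* GL I8 (ZMod 2)} {a : GL I8 (ZMod 2)}
    (h : ∀ i, Tab (app (spinC i)) (a * ρ (sGen i) * a⁻¹)) :
    ∀ W : List (Fin 7), Tab (spinW W) (a * ρ ((W.map sGen).prod) * a⁻¹)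
  | [] => by
    have e : a * ρ (([] : List (Fin 7)).map sGen).prod * a⁻¹ = 1 := by simp
    rw [e]; exact Tab.one
  | i :: W => by
    have e : a * ρ ((i :: W).map sGen).prod * a⁻¹ = (a * ρ (sGen i) * a⁻¹) * (a * ρ (W.map sGen).prod * a⁻¹) := by
      rw [List.map_cons, List.prod_cons, map_mul]; group
    rw [e]
    exact (h i).mul (tab_spin h W)

variable {ρ : SpGrp →* GL I8 (ZMod 2)} {a : GL I8 (ZMod 2)} (ha : a ∈ Iso8)
  (hT : ∀ i, Tab (app (spinC i)) (a * ρ (sGen i) * a⁻¹))

include ha hT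

theorem rep_fix {k : Fin 4} {v : ℕ} (hv : v < 256) :
    ((ρ (sRep k)).val *ᵥ ((a⁻¹ : GL I8 (ZMod 2)).val *ᵥ vec v) = (a⁻¹ : GL I8 (ZMod 2)).val *ᵥ vec v ↔
      spinW (repW k) v = v) := by
  obtain ⟨h1, h2⟩ := tab_spin hT (repW k) v hv
  rw [mul_act, mul_act] at h2
  change a.val *ᵥ ((ρ (sRep k)).val *ᵥ _) = _ at h2
  constructor
  · intro h
    rw [h, ← mul_act, mul_inv_cancel, Units.val_one, Matrix.one_mulVec] at h2
    exact (vec_inj hv h1 h2).symm
  · intro h
    rw [h] at h2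
    refine act_injective a ?_
    show a.val *ᵥ _ = a.val *ᵥ _
    rw [h2, ← mul_act, mul_inv_cancel, Units.val_one, Matrix.one_mulVec]

/-- An involution with a totally singular fixed space of dimension four is of the first two classes. -/
theorem rep_singular {k : Fin 4} (hd : finrank (ZMod 2) (fixSpace (ρ (sRep k))) = 4)
    (hs : ∀ v ∈ fixSpace (ρ (sRep k)), q8 v = 0) : k = 0 ∨ k = 1 := by
  obtain ⟨h64, hns, -⟩ := spin_facts
  have hfix : ∀ v ∈ fixL k, (a⁻¹ : GL I8 (ZMod 2)).val *ᵥ vec v ∈ fixSpace (ρ (sRep k)) := fun v hv => by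
    simp only [fixL, List.mem_filter, List.mem_range, beq_iff_eq] at hv
    exact mem_fixSpace.2 ((rep_fix ha hT hv.1).2 hv.2)
  have hk3 : k ≠ 3 := by
    rintro rfl
    simp only [List.any_eq_true] at hns
    obtain ⟨v, hv, hq⟩ := hns
    have h := hs _ (hfix v hv)
    simp only [fixL, List.mem_filter, List.mem_range] at hv
    rw [mem_iso.1 (inv_mem ha), q_vec hv.1, hq] at h
    simp at h
  have hk2 : k ≠ 2 := by
    rintro rfl
    classical
    have hsub : (((fixL 2).map fun v => (a⁻¹ : GL I8 (ZMod 2)).val *ᵥ vec v).toFinset : Set V8) ⊆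
        (fixSpace (ρ (sRep 2)) : Set V8) := by
      intro x hx
      simp only [List.coe_toFinset, List.mem_map, Set.mem_setOf_eq] at hx
      obtain ⟨v, hv, rfl⟩ := hx
      exact hfix v hv
    have hle := Set.ncard_le_ncard hsub
    rw [Set.ncard_coe_finset, List.toFinset_card_of_nodup, List.length_map, h64] at hle
    · have hc : Nat.card ↥(fixSpace (ρ (sRep 2))) = 16 := by
        rw [Module.natCard_eq_pow_finrank (K := ZMod 2), Nat.card_zmod, hd]; norm_num
      rw [← SetLike.coe_sort_coe, Nat.card_coe_set_eq] at hc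
      omega
    · refine (List.nodup_range.filter _).map_on fun u hu w hw e => ?_
      simp only [fixL, List.mem_filter, List.mem_range] at hu hw
      exact vec_inj hu.1 hw.1 (act_injective _ e)
  exact (by decide : ∀ j : Fin 4, j ≠ 3 → j ≠ 2 → j = 0 ∨ j = 1) k hk3 hk2

/-- A linear function on the fixed space invariant under the centraliser of a representative vanishes. -/
theorem invariant_zero (k : Fin 2) (χ : V8 → ZMod 2)
    (hadd : ∀ u ∈ fixSpace (ρ (sRep k.castSucc.castSucc)), ∀ v ∈ fixSpace (ρ (sRep k.castSucc.castSucc)),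
      χ (u + v) = χ u + χ v)
    (hinv : ∀ y, Commute y (sRep k.castSucc.castSucc) → ∀ u ∈ fixSpace (ρ (sRep k.castSucc.castSucc)),
      χ ((ρ y).val *ᵥ u) = χ u) :
    ∀ u ∈ fixSpace (ρ (sRep k.castSucc.castSucc)), χ u = 0 := by
  intro u hu
  have hai : ∀ x, a.val *ᵥ ((a⁻¹ : GL I8 (ZMod 2)).val *ᵥ x) = x := fun x => by
    rw [← mul_act, mul_inv_cancel, Units.val_one, Matrix.one_mulVec]
  have hsums : ∀ l : List (Fin 7), (∀ i ∈ l, i ∈ centW k) → ∀ s ∈ l.foldr (fun i acc => acc.flatMap fun s =>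
      ((fixL k.castSucc.castSucc).map fun b => s ^^^ b ^^^ app (spinC i) b).dedup) [0],
      s < 256 ∧ (a⁻¹ : GL I8 (ZMod 2)).val *ᵥ vec s ∈ fixSpace (ρ (sRep k.castSucc.castSucc)) ∧
        χ ((a⁻¹ : GL I8 (ZMod 2)).val *ᵥ vec s) = 0 := by
    intro l
    induction l with
    | nil =>
      intro _ s hs
      simp only [List.foldr_nil, List.mem_singleton] at hs
      subst hs
      refine ⟨by norm_num, by rw [vec_zero, Matrix.mulVec_zero]; exact zero_mem _, ?_⟩
      rw [vec_zero, Matrix.mulVec_zero]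
      have h := hadd 0 (zero_mem _) 0 (zero_mem _)
      rw [add_zero] at h
      exact left_eq_add.1 h
    | cons i l ih =>
      intro hl s hs
      simp only [List.foldr_cons, List.mem_flatMap, List.mem_dedup, List.mem_map] at hs
      obtain ⟨t, ht, b, hb, rfl⟩ := hs
      obtain ⟨ht1, ht2, ht3⟩ := ih (fun j hj => hl j (List.mem_cons_of_mem _ hj)) t ht
      simp only [fixL, List.mem_filter, List.mem_range, beq_iff_eq] at hb
      have hbm := mem_fixSpace.2 ((rep_fix ha hT hb.1).2 hb.2)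
      obtain ⟨hlt, hval⟩ := hT i b hb.1
      rw [mul_act, mul_act] at hval
      have hmove : (ρ (sGen i)).val *ᵥ ((a⁻¹ : GL I8 (ZMod 2)).val *ᵥ vec b) =
          (a⁻¹ : GL I8 (ZMod 2)).val *ᵥ vec (app (spinC i) b) :=
        act_injective a (hval.trans (hai _).symm)
      have hc := cent_comm k (hl i (List.mem_cons_self ..))
      have hm2 : (a⁻¹ : GL I8 (ZMod 2)).val *ᵥ vec (app (spinC i) b) ∈ fixSpace (ρ (sRep k.castSucc.castSucc)) := by
        rw [← hmove, mem_fixSpace, ← mul_act, ← map_mul, ← hc.eq, map_mul, mul_act, mem_fixSpace.1 hbm]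
      have h3 : χ ((a⁻¹ : GL I8 (ZMod 2)).val *ᵥ vec (app (spinC i) b)) = χ ((a⁻¹ : GL I8 (ZMod 2)).val *ᵥ vec b) :=
        hmove ▸ hinv _ hc _ hbm
      refine ⟨Nat.xor_lt_two_pow (n := 8) (Nat.xor_lt_two_pow (n := 8) ht1 hb.1) hlt, ?_, ?_⟩
      · rw [vec_xor, vec_xor, Matrix.mulVec_add, Matrix.mulVec_add]
        exact add_mem (add_mem ht2 hbm) hm2
      · rw [vec_xor, vec_xor, Matrix.mulVec_add, Matrix.mulVec_add, hadd _ (add_mem ht2 hbm) _ hm2,
          hadd _ ht2 _ hbm, ht3, zero_add, h3]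
        exact Cfsg.Lib.Extra.Wide.bit_self _
  obtain ⟨e, hlt⟩ := vec_cod (a.val *ᵥ u)
  have hu' : u = (a⁻¹ : GL I8 (ZMod 2)).val *ᵥ vec (cod (a.val *ᵥ u)) := by
    rw [e, ← mul_act, inv_mul_cancel, Units.val_one, Matrix.one_mulVec]
  rw [hu']
  have hfx : spinW (repW k.castSucc.castSucc) (cod (a.val *ᵥ u)) = cod (a.val *ᵥ u) :=
    (rep_fix ha hT hlt).1 (mem_fixSpace.1 (hu' ▸ hu))
  have h := (spin_facts.2.2 k).2
  simp only [List.all_eq_true, List.elem_eq_mem, decide_eq_true_eq] at h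
  exact (hsums (centW k) (fun i hi => hi) _ (h _ (by simp [fixL, hlt, hfx]))).2.2

end Cfsg.Lib.CoTwoType
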