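import Cfsg.Agent.Lib.CoTwoType.QIso
import Cfsg.Agent.Lib.CoTwoType.SpInvol

/-!
# The centralizer is determined by the involution over a class with singular fixed space
-/

set_option autoImplicit false
set_option linter.style.haveILetI false
set_option linter.unusedSectionVars false

namespace Cfsg.Lib.CoTwoType

open Cfsg Module Cfsg.Lib.SpSix Cfsg.Lib.Linear.Orth Cfsg.Lib.Extra.Wide Cfsg.Lib.CoOneLocal
open scoped Matrix

variable {G H : Type*} [Group G] [Group H]

/-- No nonzero vector is fixed by the whole image. -/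
def Act.NoFixed (D : Act G) : Prop := ∀ v : V8, (∀ r ∈ D.R, r.val *ᵥ v = v) → v = 0

/-- The representation of `Sp6(2)` given by an identification of the image. -/
noncomputable def Act.rho (D : Act G) (σ : ↥D.R ≃* SpGrp) : SpGrp →* GL I8 (ZMod 2) :=
  D.R.subtype.comp σ.symm.toMonoidHom

theorem Act.rho_act (D : Act G) (σ : ↥D.R ≃* SpGrp) {c : G} (hc : Commute c D.z) :
    D.rho σ (σ ⟨D.act c, D.act_memR c hc⟩) = D.act c :=
  congrArg Subtype.val (σ.symm_apply_apply _)

theorem Act.rho_gens (D : Act G) (hfix : D.NoFixed) (σ : ↥D.R ≃* SpGrp) :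
    ∃ a ∈ Iso8, ∀ i, Tab (app (spinC i)) (a * D.rho σ (sGen i) * a⁻¹) :=
  spin_gens (D.rho σ) (D.R.subtype_injective.comp σ.symm.injective) (fun x => D.R_le (σ.symm x).2)
    fun v hv => hfix v fun r hr => by
      have := hv (σ ⟨r, hr⟩)
      rwa [show D.rho σ (σ ⟨r, hr⟩) = r from congrArg Subtype.val (σ.symm_apply_apply _)] at this

/-- An involution over a class with singular fixed space centralizes the preimage of the fixed space. -/
theorem Act.singular_comm (D : Act G) (hfix : D.NoFixed) (σ : ↥D.R ≃* SpGrp) {w : G} (hw : Commute w D.z)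
    (h2 : w * w = 1) (h4 : finrank (ZMod 2) (D.fix w) = 4) (hs : ∀ v ∈ D.fix w, qp v = 0) :
    (∃ (k : Fin 2) (y : SpGrp), y * sRep k.castSucc.castSucc * y⁻¹ = σ ⟨D.act w, D.act_memR w hw⟩) ∧
    ∀ a ∈ D.Q, D.cls a ∈ D.fix w → Commute w a := by
  classical
  obtain ⟨a₀, ha₀, hT₀⟩ := D.rho_gens hfix σ
  set x := σ ⟨D.act w, D.act_memR w hw⟩ with hx
  have hx2 : x * x = 1 := by
    rw [hx, ← map_mul, show (⟨D.act w, D.act_memR w hw⟩ : ↥D.R) * ⟨D.act w, D.act_memR w hw⟩ = 1 from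
      Subtype.ext (D.act_sq hw h2), map_one]
  have hx1 : x ≠ 1 := fun e => by
    have hρ : D.act w = 1 := by rw [← D.rho_act σ hw, ← hx, e, map_one]
    have htop : D.fix w = ⊤ := eq_top_iff.2 fun v _ => mem_fixSpace.2 (by rw [hρ]; simp)
    rw [htop, finrank_top, finrank_fintype_fun_eq_card] at h4
    simp at h4
  obtain ⟨k, y, hy⟩ := exists_rep hx2 hx1
  let ρ' : SpGrp →* GL I8 (ZMod 2) := (D.rho σ).comp (MulAut.conj y).toMonoidHom
  have hρ' : ∀ z, ρ' z = D.rho σ y * D.rho σ z * (D.rho σ y)⁻¹ := fun z => by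
    show D.rho σ (y * z * y⁻¹) = _
    rw [map_mul, map_mul, map_inv]
  set a := a₀ * (D.rho σ y)⁻¹ with hadef
  have ha : a ∈ Iso8 := mul_mem ha₀ (inv_mem (omegaGL_le_iso (D.R_le (σ.symm y).2)))
  have hT : ∀ i, Tab (app (spinC i)) (a * ρ' (sGen i) * a⁻¹) := fun i => by
    have e : a * ρ' (sGen i) * a⁻¹ = a₀ * D.rho σ (sGen i) * a₀⁻¹ := by rw [hρ', hadef]; group
    rw [e]; exact hT₀ i
  have hrep : ρ' (sRep k) = D.act w := by
    show D.rho σ (y * sRep k * y⁻¹) = _
    rw [hy, hx, D.rho_act σ hw]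
  obtain ⟨k', hk'⟩ : ∃ k' : Fin 2, k'.castSucc.castSucc = k := by
    rcases rep_singular ha hT (k := k) (by rw [hrep]; exact h4) (by rw [hrep]; exact hs) with e | e
    · exact ⟨0, e.symm⟩
    · exact ⟨1, e.symm⟩
  refine ⟨⟨k', y, by rw [hk', hy]⟩, ?_⟩
  choose L hLQ hLc using D.cls_surj
  let χ : V8 → ZMod 2 := fun u => if Commute w (L u) then 0 else 1
  have hχ : ∀ b ∈ D.Q, (χ (D.cls b) = 0 ↔ Commute w b) := by
    intro b hb
    have key : ∀ d : G, Commute w (D.z * d) ↔ Commute w d := fun d =>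
      ⟨fun h => by have := hw.mul_right h; rwa [← mul_assoc, D.ctx.sq_z, one_mul] at this, fun h => hw.mul_right h⟩
    have e0 : Commute w b ↔ Commute w (L (D.cls b)) := by
      rcases D.cls_eq (hLQ _) hb (hLc (D.cls b)) with e | e
      · conv_lhs => rw [e]
      · conv_lhs => rw [e]
        exact key _
    rw [e0]
    by_cases h : Commute w (L (D.cls b))
    · simp [χ, h]
    · simp [χ, h]
  have hanti : ∀ b ∈ D.Q, D.cls b ∈ D.fix w → ¬ Commute w b → w * b * w⁻¹ = D.z * b := fun b hb hf hn =>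
    ((D.n_eq_zero hw hb).1 (D.mem_fix.1 hf)).resolve_left fun e => hn (mul_inv_eq_iff_eq_mul.1 e)
  have hz0 := invariant_zero ha hT k' χ (fun u hu v hv => ?_) (fun z hz u hu => ?_)
  · intro b hb hf
    exact (hχ b hb).1 (hz0 _ (by rw [hk', hrep]; exact hf))
  · rw [hk', hrep] at hu hv
    have huv : D.cls (L u * L v) = u + v := by rw [D.cls_mul _ (hLQ u) _ (hLQ v), hLc, hLc]
    have hP : χ (u + v) = 0 ↔ Commute w (L u * L v) := huv ▸ hχ _ (mul_mem (hLQ u) (hLQ v))
    by_cases h1 : Commute w (L u) <;> by_cases h2' : Commute w (L v)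
    · rw [show χ u = 0 from if_pos h1, show χ v = 0 from if_pos h2', add_zero]
      exact hP.2 (h1.mul_right h2')
    · rw [show χ u = 0 from if_pos h1, show χ v = 1 from if_neg h2', zero_add]
      refine (bit _).resolve_left fun h0 => h2' ?_
      simpa using h1.inv_right.mul_right (hP.1 h0)
    · rw [show χ u = 1 from if_neg h1, show χ v = 0 from if_pos h2', add_zero]
      refine (bit _).resolve_left fun h0 => h1 ?_
      simpa using (hP.1 h0).mul_right h2'.inv_right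
    · rw [show χ u = 1 from if_neg h1, show χ v = 1 from if_neg h2', Cfsg.Lib.Extra.Wide.bit_self]
      refine hP.2 (mul_inv_eq_iff_eq_mul.1 ?_)
      have e1 := hanti _ (hLQ u) (by rwa [hLc]) h1
      have e2 := hanti _ (hLQ v) (by rwa [hLc]) h2'
      calc w * (L u * L v) * w⁻¹ = (w * L u * w⁻¹) * (w * L v * w⁻¹) := by group
        _ = D.z * (L u * D.z) * L v := by rw [e1, e2]; simp only [mul_assoc]
        _ = L u * L v := by rw [← (D.ctx.central _ (hLQ u)).eq, ← mul_assoc, D.ctx.sq_z, one_mul]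
  · rw [hk', hrep] at hu
    rw [hk'] at hz
    obtain ⟨c, hc, hce⟩ := D.act_surj (ρ' z) (σ.symm (y * z * y⁻¹)).2
    have hcomm : Commute (D.act c) (D.act w) := by
      rw [hce, ← hrep]; exact hz.map ρ'
    have hcwz : Commute (c * w * c⁻¹) D.z := (hc.mul_left hw).mul_left hc.inv_left
    have hacti : D.act c⁻¹ = (D.act c)⁻¹ := by
      refine eq_inv_of_mul_eq_one_left ?_
      rw [← D.act_mul _ _ hc.inv_left hc, inv_mul_cancel, D.act_one]
    have hwi : D.act w⁻¹ = (D.act w)⁻¹ := by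
      refine eq_inv_of_mul_eq_one_left ?_
      rw [← D.act_mul _ _ hw.inv_left hw, inv_mul_cancel, D.act_one]
    have hq : c * w * c⁻¹ * w⁻¹ ∈ D.Q := by
      refine (D.act_ker _ (hcwz.mul_left hw.inv_left)).1 ?_
      rw [D.act_mul _ _ hcwz hw.inv_left, D.act_mul _ _ (hc.mul_left hw) hc.inv_left, D.act_mul _ _ hc hw, hacti, hwi,
        hcomm.eq, mul_inv_cancel_right, mul_inv_cancel]
    set q := c * w * c⁻¹ * w⁻¹ with hqdef
    have hqw : c * w * c⁻¹ = q * w := by rw [hqdef]; group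
    have hqfix : D.cls q ∈ D.fix w := by
      refine D.mem_fix.2 ?_
      rw [← (D.n_cls hw hq).2]
      have h1 : q * w * (q * w) = 1 := by
        rw [← hqw, show c * w * c⁻¹ * (c * w * c⁻¹) = c * (w * w) * c⁻¹ by group, h2, mul_one, mul_inv_cancel]
      have h3 : w * q * w⁻¹ = q⁻¹ := by
        rw [inv_eq_of_mul_eq_one_right h2]
        refine eq_inv_of_mul_eq_one_right ?_
        simpa [mul_assoc] using h1
      rw [h3]
      rcases D.sq_mem hq with e | e
      · exact (D.cls_ker _ (mul_mem (inv_mem hq) (inv_mem hq))).2 (Or.inl (by rw [← mul_inv_rev, e, inv_one]))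
      · exact (D.cls_ker _ (mul_mem (inv_mem hq) (inv_mem hq))).2
          (Or.inr (by rw [← mul_inv_rev, e, inv_eq_of_mul_eq_one_right D.ctx.sq_z]))
    have hact : D.cls (c * L u * c⁻¹) = (ρ' z).val *ᵥ u := by
      rw [D.act_cls c hc _ (hLQ u), hce, hLc]
    have hu' : (ρ' z).val *ᵥ u ∈ D.fix w := by
      refine mem_fixSpace.2 ?_
      rw [← mul_act, ← hrep, ← map_mul, ← hz.eq, map_mul, mul_act, hrep, mem_fixSpace.1 hu]
    have hqc : Commute q (c * L u * c⁻¹) := by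
      refine (D.cls_comm _ hq _ (D.conj_mem_Q hc (hLQ u))).2 ?_
      rw [hact]
      have h := D.space.add (D.cls q) ((ρ' z).val *ᵥ u)
      rw [hs _ (add_mem hqfix hu'), hs _ hqfix, hs _ hu', zero_add, zero_add] at h
      exact h.symm
    have hiff : Commute w (c * L u * c⁻¹) ↔ Commute w (L u) := by
      constructor
      · intro h
        have h' := hqc.mul_left h
        rw [← hqw] at h'
        exact (Commute.conj_iff c).1 h'
      · intro h
        have h' : Commute (c * w * c⁻¹) (c * L u * c⁻¹) := (Commute.conj_iff c).2 h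
        rw [hqw] at h'
        simpa using hqc.inv_left.mul_left h'
    have h1 : χ ((ρ' z).val *ᵥ u) = 0 ↔ χ u = 0 := by
      have := hχ _ (D.conj_mem_Q hc (hLQ u))
      rw [hact, hiff] at this
      have h' := hχ _ (hLQ u)
      rw [hLc] at h'
      exact this.trans h'.symm
    rcases bit (χ u) with e | e
    · rw [e]; exact h1.2 e
    · rw [e]; exact (bit _).resolve_left fun e0 => one_ne_zero (e.symm.trans (h1.1 e0))

variable [Finite G] [Finite H]

/-- The centralizers are isomorphic. -/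
theorem exists_cent_iso (D : Act G) (E : Act H) (hD : D.NoFixed) (hE : E.NoFixed) (σE : ↥E.R ≃* SpGrp)
    (hEinv : ∀ k : Fin 2, ∃ (v : H) (hv : Commute v E.z), v * v = 1 ∧
      IsConj (σE ⟨E.act v, E.act_memR v hv⟩) (sRep k.castSucc.castSucc))
    {w : G} (hw : Commute w D.z) (h2 : w * w = 1) (h4 : finrank (ZMod 2) (D.fix w) = 4)
    (hs : ∀ v ∈ D.fix w, qp v = 0) :
    ∃ ψ : ↥(Subgroup.centralizer ({D.z} : Set G)) ≃* ↥(Subgroup.centralizer ({E.z} : Set H)),
      (ψ ⟨D.z, Subgroup.mem_centralizer_singleton_iff.2 rfl⟩ : H) = E.z := by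
  classical
  obtain ⟨σD⟩ := D.R_iso
  obtain ⟨⟨k, y, hy⟩, hcommW⟩ := D.singular_comm hD σD hw h2 h4 hs
  obtain ⟨aD, haD, hTD⟩ := D.rho_gens hD σD
  obtain ⟨aE, haE, hTE⟩ := E.rho_gens hE σE
  set g := aE⁻¹ * aD with hgdef
  have hg : g ∈ isometryGroup (ZMod 2) qp := mul_mem (inv_mem haE) haD
  have hgρ : ∀ x, g * D.rho σD x * g⁻¹ = E.rho σE x := by
    have e : (MulAut.conj g).toMonoidHom.comp (D.rho σD) = E.rho σE := spHom_ext fun i => by
      have h := (hTD i).eq_of (hTE i) fun _ _ => rfl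
      show g * D.rho σD (sGen i) * g⁻¹ = _
      rw [hgdef, show aE⁻¹ * aD * D.rho σD (sGen i) * (aE⁻¹ * aD)⁻¹ =
        aE⁻¹ * (aD * D.rho σD (sGen i) * aD⁻¹) * aE by group, h]
      group
    exact fun x => DFunLike.congr_fun e x
  obtain ⟨f, hfinj, hfQ, hfz, hfc⟩ := exists_qiso D E hg
  set C := Subgroup.centralizer ({D.z} : Set G) with hC
  set C' := Subgroup.centralizer ({E.z} : Set H) with hC'
  have hCz : ∀ c : ↥C, Commute (c : G) D.z := fun c => Subgroup.mem_centralizer_singleton_iff.1 c.2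
  have hCz' : ∀ c : ↥C', Commute (c : H) E.z := fun c => Subgroup.mem_centralizer_singleton_iff.1 c.2
  let F : Subgroup (↥C × ↥C') :=
    { carrier := {p | E.act (p.2 : H) = g * D.act (p.1 : G) * g⁻¹ ∧ ∀ a : ↥D.Q,
        f ⟨(p.1 : G) * a * (p.1 : G)⁻¹, D.conj_mem_Q (hCz p.1) a.2⟩ = (p.2 : H) * f a * (p.2 : H)⁻¹}
      one_mem' := ⟨by simp [D.act_one, E.act_one], fun a => by simp⟩
      mul_mem' := fun {p p'} hp hp' => ⟨by
        show E.act ((p.2 : H) * p'.2) = g * D.act ((p.1 : G) * p'.1) * g⁻¹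
        rw [E.act_mul _ _ (hCz' _) (hCz' _), D.act_mul _ _ (hCz _) (hCz _), hp.1, hp'.1]
        group, fun a => by
        refine Eq.trans ?_ ((hp.2 ⟨_, D.conj_mem_Q (hCz p'.1) a.2⟩).trans ?_)
        · exact congrArg f (Subtype.ext (by simp [mul_assoc]))
        · rw [hp'.2 a]; simp [mul_assoc]⟩
      inv_mem' := fun {p} hp => ⟨by
        show E.act (p.2 : H)⁻¹ = g * D.act (p.1 : G)⁻¹ * g⁻¹
        have e1 : E.act (p.2 : H)⁻¹ = (E.act (p.2 : H))⁻¹ := eq_inv_of_mul_eq_one_left (by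
          rw [← E.act_mul _ _ (hCz' _).inv_left (hCz' _), inv_mul_cancel, E.act_one])
        have e2 : D.act (p.1 : G)⁻¹ = (D.act (p.1 : G))⁻¹ := eq_inv_of_mul_eq_one_left (by
          rw [← D.act_mul _ _ (hCz _).inv_left (hCz _), inv_mul_cancel, D.act_one])
        rw [e1, e2, hp.1]; group, fun a => by
        have h := hp.2 ⟨(p.1 : G)⁻¹ * a * (p.1 : G), by simpa using D.conj_mem_Q (hCz p.1).inv_left a.2⟩
        have e : (⟨(p.1 : G) * ((p.1 : G)⁻¹ * a * (p.1 : G)) * (p.1 : G)⁻¹,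
            D.conj_mem_Q (hCz p.1) (by simpa using D.conj_mem_Q (hCz p.1).inv_left a.2)⟩ : ↥D.Q) = a :=
          Subtype.ext (by simp [mul_assoc])
        rw [e] at h
        rw [h]
        simp [mul_assoc]⟩ }
  have hzC' : E.z ∈ C' := Subgroup.mem_centralizer_singleton_iff.2 rfl
  have hkF : ((1 : ↥C), (⟨E.z, hzC'⟩ : ↥C')) ∈ F := ⟨by
    show E.act E.z = g * D.act 1 * g⁻¹
    rw [(E.act_ker _ (Commute.refl _)).2 E.ctx.mem, D.act_one]; group, fun a => by
    show f _ = E.z * f a * E.z⁻¹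
    rw [(E.ctx.central _ (hfQ ▸ ⟨a, rfl⟩ : f a ∈ E.Q)).eq, mul_inv_cancel_right]
    exact congrArg f (Subtype.ext (by simp))⟩
  let kF : ↥F := ⟨_, hkF⟩
  have hpartner : ∀ c : ↥C, ∃ c' : ↥C', (c, c') ∈ F := by
    intro c
    have hmem : g * D.act (c : G) * g⁻¹ ∈ E.R := by
      rw [← D.rho_act σD (hCz c), hgρ]
      exact (σE.symm _).2
    obtain ⟨d, hd, hde⟩ := E.act_surj _ hmem
    obtain ⟨c', hc', h1, h3⟩ := exists_partner D E hfinj hfQ hfz hfc (hCz c) hd hde
    exact ⟨⟨c', Subgroup.mem_centralizer_singleton_iff.2 hc'⟩, h1, h3⟩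
  have hQC : ∀ a : ↥D.Q, (a : G) ∈ C := fun a =>
    Subgroup.mem_centralizer_singleton_iff.2 (D.ctx.central _ a.2).symm
  have hQC' : ∀ a : ↥D.Q, f a ∈ C' := fun a =>
    Subgroup.mem_centralizer_singleton_iff.2 (E.ctx.central _ (hfQ ▸ ⟨a, rfl⟩ : f a ∈ E.Q)).symm
  have hγmem : ∀ a : ↥D.Q, ((⟨(a : G), hQC a⟩ : ↥C), (⟨f a, hQC' a⟩ : ↥C')) ∈ F := fun a => ⟨by
    show E.act (f a) = g * D.act (a : G) * g⁻¹
    rw [(E.act_ker _ (hCz' ⟨_, hQC' a⟩)).2 (hfQ ▸ ⟨a, rfl⟩), (D.act_ker _ (hCz ⟨_, hQC a⟩)).2 a.2]; group,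
    fun b => by
    show f _ = f a * f b * (f a)⁻¹
    rw [← map_inv, ← map_mul, ← map_mul]
    rfl⟩
  let γ : ↥D.Q →* ↥F := MonoidHom.mk' (fun a => ⟨_, hγmem a⟩) fun a b =>
    Subtype.ext (Prod.ext (Subtype.ext rfl) (Subtype.ext (map_mul f a b)))
  set N := γ.range with hN
  haveI : N.Normal := ⟨by
    rintro _ ⟨a, rfl⟩ x
    refine ⟨⟨_, D.conj_mem_Q (hCz x.1.1) a.2⟩, Subtype.ext (Prod.ext (Subtype.ext rfl) (Subtype.ext ?_))⟩
    exact x.2.2 a⟩
  have hker1 : ∀ x : ↥F, (x.1.1 : G) = 1 → x = 1 ∨ x = kF := by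
    intro x hx
    have hcomm : ∀ b ∈ E.Q, Commute (x.1.2 : H) b := by
      intro b hb
      rw [← hfQ] at hb
      obtain ⟨a, rfl⟩ := hb
      refine mul_inv_eq_iff_eq_mul.1 ?_
      rw [← x.2.2 a]
      exact congrArg f (Subtype.ext (by simp [hx]))
    rcases E.ctx.cent _ hcomm with e | e
    · exact Or.inl (Subtype.ext (Prod.ext (Subtype.ext hx) (Subtype.ext e)))
    · exact Or.inr (Subtype.ext (Prod.ext (Subtype.ext hx) (Subtype.ext e)))
  let φ : ↥F →* SpGrp := σD.toMonoidHom.comp (MonoidHom.mk' (fun x => ⟨D.act (x.1.1 : G), D.act_memR _ (hCz _)⟩)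
    fun x x' => Subtype.ext (D.act_mul _ _ (hCz _) (hCz _)))
  have hNφ : N ≤ φ.ker := by
    rintro _ ⟨a, rfl⟩
    rw [MonoidHom.mem_ker]
    show σD _ = 1
    rw [MulEquiv.map_eq_one_iff]
    exact Subtype.ext ((D.act_ker _ (hCz ⟨_, hQC a⟩)).2 a.2)
  have hφker : ∀ x : ↥F, φ x = 1 → x ∈ N ∨ kF * x ∈ N := by
    intro x hx
    have h1 : (x.1.1 : G) ∈ D.Q := by
      refine (D.act_ker _ (hCz _)).1 ?_
      have : (⟨D.act (x.1.1 : G), D.act_memR _ (hCz _)⟩ : ↥D.R) = 1 := σD.map_eq_one_iff.1 hx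
      exact congrArg Subtype.val this
    rcases hker1 (x * (γ ⟨_, h1⟩)⁻¹) (by
      show (x.1.1 : G) * (x.1.1 : G)⁻¹ = 1
      exact mul_inv_cancel _) with e | e
    · exact Or.inl ⟨⟨_, h1⟩, (mul_inv_eq_one.1 e).symm⟩
    · refine Or.inr ⟨⟨_, h1⟩, ?_⟩
      have e3 := mul_inv_eq_iff_eq_mul.1 e
      generalize γ ⟨_, h1⟩ = t at e3 ⊢
      rw [e3, ← mul_assoc,
        show kF * kF = 1 from Subtype.ext (Prod.ext (one_mul _) (Subtype.ext E.ctx.sq_z)), one_mul]
  set mk := QuotientGroup.mk' N with hmk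
  let σb : ↥F ⧸ N →* SpGrp := QuotientGroup.lift N φ hNφ
  have hσsurj : Function.Surjective σb := by
    intro x
    obtain ⟨c, hc, hce⟩ := D.act_surj _ (σD.symm x).2
    obtain ⟨c', hc'⟩ := hpartner ⟨c, Subgroup.mem_centralizer_singleton_iff.2 hc⟩
    refine ⟨mk ⟨_, hc'⟩, ?_⟩
    show σD ⟨D.act c, D.act_memR _ hc⟩ = x
    rw [show (⟨D.act c, D.act_memR _ hc⟩ : ↥D.R) = σD.symm x from Subtype.ext hce, σD.apply_symm_apply]
  have hσker : ∀ x, σb x = 1 → x = 1 ∨ x = mk kF := by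
    intro x hx
    obtain ⟨x, rfl⟩ := QuotientGroup.mk'_surjective N x
    rcases hφker x hx with h | h
    · exact Or.inl ((QuotientGroup.eq_one_iff _).2 h)
    · refine Or.inr ?_
      have h1 : mk kF * mk x = 1 := by rw [← map_mul]; exact (QuotientGroup.eq_one_iff _).2 h
      have h3 : mk kF * mk kF = 1 := by
        rw [← map_mul, show kF * kF = 1 from Subtype.ext (Prod.ext (one_mul _) (Subtype.ext E.ctx.sq_z)), map_one]
      exact mul_left_cancel (h1.trans h3.symm)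
  have hk1 : mk kF ≠ 1 := by
    intro e
    obtain ⟨a, ha⟩ := (QuotientGroup.eq_one_iff _).1 e
    have h1 : (a : G) = 1 := congrArg (fun x : ↥F => (x.1.1 : G)) ha
    have h3 : f a = E.z := congrArg (fun x : ↥F => (x.1.2 : H)) ha
    rw [show a = 1 from Subtype.ext h1, map_one] at h3
    exact E.ctx.ne_one h3.symm
  by_cases hstem : mk kF ∈ commutator (↥F ⧸ N)
  · exfalso
    have hker_eq : (σb.ker : Set (↥F ⧸ N)) = {1, mk kF} := by
      ext x
      constructor
      · exact fun hx => hσker x hx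
      · rintro (rfl | rfl)
        · exact one_mem _
        · show φ kF = 1
          show σD _ = 1
          rw [MulEquiv.map_eq_one_iff]
          exact Subtype.ext D.act_one
    have hkc : mk kF ∈ Subgroup.center (↥F ⧸ N) := Subgroup.mem_center_iff.2 fun x => by
      obtain ⟨x, rfl⟩ := QuotientGroup.mk'_surjective N x
      rw [← map_mul, ← map_mul]
      refine congrArg mk (Subtype.ext (Prod.ext ?_ (Subtype.ext ?_)))
      · show x.1.1 * 1 = 1 * x.1.1
        rw [mul_one, one_mul]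
      · exact (hCz' x.1.2).eq
    have hc : σb.ker ≤ Subgroup.center _ := fun x hx => by
      rcases hσker x hx with rfl | rfl
      exacts [one_mem _, hkc]
    have hk : σb.ker ≤ commutator _ := fun x hx => by
      rcases hσker x hx with rfl | rfl
      exacts [one_mem _, hstem]
    have hcard : Nat.card σb.ker = 2 := by
      rw [← SetLike.coe_sort_coe, Nat.card_coe_set_eq, hker_eq, Set.ncard_pair hk1.symm]
    have hnoinv : ∀ h : ↥F ⧸ N, σb h = y * sRep k.castSucc.castSucc * y⁻¹ → h * h ≠ 1 := by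
      intro h hh e
      obtain ⟨u, hu⟩ := hσsurj y
      have hu2 : σb (u⁻¹ * h * u) = sRep k.castSucc.castSucc := by
        rw [map_mul, map_mul, map_inv, hu, hh]; group
      have e2 : (u⁻¹ * h * u) * (u⁻¹ * h * u) = 1 := by
        rw [show (u⁻¹ * h * u) * (u⁻¹ * h * u) = u⁻¹ * (h * h) * u by group, e]; group
      have hk01 : k = 0 ∨ k = 1 := (by decide : ∀ j : Fin 2, j = 0 ∨ j = 1) k
      rcases hk01 with rfl | rfl
      · exact stem_sq_word tWord0_sq σb hσsurj hc hk hcard (hu2.trans (by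
          rw [toSp_tWord0]; simp [sRep, repW])) e2
      · exact stem_sq_word tWord1_sq σb hσsurj hc hk hcard (hu2.trans (by
          rw [toSp_tWord1]; simp [sRep, repW])) e2
    set wc : ↥C := ⟨w, Subgroup.mem_centralizer_singleton_iff.2 hw⟩ with hwc
    obtain ⟨w', hw'⟩ := hpartner wc
    set W : ↥F := ⟨_, hw'⟩ with hW
    rcases hker1 (W * W) h2 with e | e
    · refine hnoinv (mk W) ?_ (by rw [← map_mul, e, map_one])
      rw [hy]
      rfl
    · obtain ⟨v, hv, hv2, hvc⟩ := hEinv k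
      obtain ⟨r, hr⟩ := isConj_iff.1 hvc
      obtain ⟨c, hc', hce⟩ := E.act_surj _ (σE.symm (y * r)).2
      set v' := c * v * c⁻¹ with hv'
      have hv'z : Commute v' E.z := (hc'.mul_left hv).mul_left hc'.inv_left
      have hv'2 : v' * v' = 1 := by
        rw [hv', show c * v * c⁻¹ * (c * v * c⁻¹) = c * (v * v) * c⁻¹ by group, hv2]; group
      have hci : E.act c⁻¹ = (E.act c)⁻¹ := eq_inv_of_mul_eq_one_left (by
        rw [← E.act_mul _ _ hc'.inv_left hc', inv_mul_cancel, E.act_one])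
      have hv'act : E.act v' = g * D.act w * g⁻¹ := by
        rw [hv', E.act_mul _ _ (hc'.mul_left hv) hc'.inv_left, E.act_mul _ _ hc' hv, hci, hce,
          ← E.rho_act σE hv, ← D.rho_act σD hw, hgρ, ← hy, ← hr,
          show ((σE.symm (y * r) : ↥E.R) : GL I8 (ZMod 2)) = E.rho σE (y * r) from rfl,
          show y * (r * σE ⟨E.act v, E.act_memR v hv⟩ * r⁻¹) * y⁻¹ =
            (y * r) * σE ⟨E.act v, E.act_memR v hv⟩ * (y * r)⁻¹ by group]
        rw [map_mul (E.rho σE) (y * r * σE ⟨E.act v, E.act_memR v hv⟩), map_mul (E.rho σE) (y * r), map_inv]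
      have hw'act : E.act (w' : H) = g * D.act w * g⁻¹ := hw'.1
      have hq : (w' : H)⁻¹ * v' ∈ E.Q := by
        refine (E.act_ker _ ((hCz' w').inv_left.mul_left hv'z)).1 ?_
        have hwi : E.act (w' : H)⁻¹ = (E.act (w' : H))⁻¹ := eq_inv_of_mul_eq_one_left (by
          rw [← E.act_mul _ _ (hCz' w').inv_left (hCz' w'), inv_mul_cancel, E.act_one])
        rw [E.act_mul _ _ (hCz' w').inv_left hv'z, hwi, hv'act, hw'act, inv_mul_cancel]
      obtain ⟨a, ha⟩ : ∃ a, f a = (w' : H)⁻¹ * v' := by rw [← hfQ] at hq; exact hq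
      have hw'2 : (w' : H) * w' = E.z := congrArg (fun x : ↥F => (x.1.2 : H)) e
      have hva : v' = (w' : H) * f a := by rw [ha, mul_inv_cancel_left]
      rw [hva] at hv'2
      have hfzi : f a ∈ E.Q := hfQ ▸ ⟨a, rfl⟩
      have h1 : E.z * ((w' : H) * f a * (w' : H)⁻¹) * f a = 1 := by
        have hz' : E.z * (w' : H) = w' * E.z := (hCz' w').eq.symm
        calc E.z * ((w' : H) * f a * (w' : H)⁻¹) * f a = (w' : H) * f a * ((w' : H)⁻¹ * E.z) * f a := by
              rw [← mul_assoc, ← mul_assoc, hz', mul_assoc (w' : H) E.z, (E.ctx.central _ hfzi).eq, ← mul_assoc,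
                mul_assoc ((w' : H) * f a) E.z, ((hCz' w').symm.inv_right).eq]
          _ = (w' : H) * f a * ((w' : H) * f a) := by rw [← hw'2]; group
          _ = 1 := hv'2
      have h3 : f (⟨D.z, D.ctx.mem⟩ * ⟨w * a * w⁻¹, D.conj_mem_Q hw a.2⟩ * a) = 1 := by
        rw [map_mul, map_mul, hfz, hw'.2 a]
        exact h1
      have h5 : D.z * (w * a * w⁻¹) * (a : G) = 1 := congrArg Subtype.val (hfinj (h3.trans (map_one f).symm))
      have hfix : D.cls (a : G) ∈ D.fix w := by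
        refine mem_fixSpace.2 ?_
        rw [← D.act_cls w hw _ a.2]
        have := D.cls_mul _ (mul_mem D.ctx.mem (D.conj_mem_Q hw a.2)) _ a.2
        rw [h5, D.cls_one, D.cls_mul _ D.ctx.mem _ (D.conj_mem_Q hw a.2), D.cls_z, zero_add] at this
        exact vadd_eq_zero this.symm
      have hcw := hcommW _ a.2 hfix
      rw [hcw.eq, mul_inv_cancel_right, mul_assoc] at h5
      rw [(D.cls_sq _ a.2).2 (hs _ hfix), mul_one] at h5
      exact D.ctx.ne_one h5
  · -- the graph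
    set Γ : Subgroup ↥F := (commutator (↥F ⧸ N)).comap mk with hΓ
    have hNΓ : N ≤ Γ := fun x hx => Subgroup.mem_comap.2 (by
      rw [show mk x = 1 from (QuotientGroup.eq_one_iff x).2 hx]; exact one_mem _)
    let p1 : ↥Γ →* ↥C := (MonoidHom.fst ↥C ↥C').comp (F.subtype.comp Γ.subtype)
    let p2 : ↥Γ →* ↥C' := (MonoidHom.snd ↥C ↥C').comp (F.subtype.comp Γ.subtype)
    have hp1 : Function.Bijective p1 := by
      refine ⟨(injective_iff_map_eq_one p1).2 fun x hx => ?_, fun c => ?_⟩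
      · rcases hker1 x.1 (congrArg Subtype.val hx) with e | e
        · exact Subtype.ext e
        · exact absurd (e ▸ Subgroup.mem_comap.1 x.2) hstem
      · obtain ⟨c', hc'⟩ := hpartner c
        have hs' : σb (mk ⟨_, hc'⟩) ∈ (commutator (↥F ⧸ N)).map σb := by
          rw [commutator_def, Subgroup.map_commutator, Subgroup.map_top_of_surjective _ hσsurj, ← commutator_def,
            perfect_Sp]
          trivial
        obtain ⟨m, hm, hme⟩ := hs'
        rcases hσker ((mk ⟨_, hc'⟩)⁻¹ * m) (by rw [map_mul, map_inv, hme, inv_mul_cancel]) with e | e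
        · exact ⟨⟨⟨_, hc'⟩, Subgroup.mem_comap.2 ((inv_mul_eq_one.1 e) ▸ hm)⟩, rfl⟩
        · refine ⟨⟨⟨_, hc'⟩ * kF, Subgroup.mem_comap.2 ?_⟩, Subtype.ext (mul_one _)⟩
          rw [map_mul, ← e, mul_inv_cancel_left]
          exact hm
    let e1 := MulEquiv.ofBijective p1 hp1
    let θ : ↥C →* ↥C' := p2.comp e1.symm.toMonoidHom
    have hθ : ∀ x : ↥Γ, θ (p1 x) = p2 x := fun x => by
      show p2 (e1.symm (e1 x)) = _
      rw [e1.symm_apply_apply]
    have hθF : ∀ c, ∃ x : ↥Γ, p1 x = c := fun c => hp1.2 c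
    have hθQ : ∀ a : ↥D.Q, (θ ⟨(a : G), hQC a⟩ : H) = f a := fun a =>
      congrArg Subtype.val (hθ ⟨γ a, hNΓ ⟨a, rfl⟩⟩)
    have hinj : Function.Injective θ := by
      refine (injective_iff_map_eq_one θ).2 fun c hc => ?_
      obtain ⟨x, rfl⟩ := hθF c
      rw [hθ] at hc
      have hc2 : (x.1.1.2 : H) = 1 := congrArg Subtype.val hc
      have hcomm : ∀ a ∈ D.Q, Commute (x.1.1.1 : G) a := by
        intro a ha
        have h := x.1.2.2 ⟨a, ha⟩
        simp only [hc2, one_mul, inv_one, mul_one] at h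
        exact mul_inv_eq_iff_eq_mul.1 (congrArg Subtype.val (hfinj h))
      rcases D.ctx.cent _ hcomm with e | e
      · exact Subtype.ext e
      · exfalso
        have h := hθQ ⟨D.z, D.ctx.mem⟩
        rw [show (⟨D.z, hQC ⟨D.z, D.ctx.mem⟩⟩ : ↥C) = p1 x from Subtype.ext e.symm, hθ, hfz] at h
        exact E.ctx.ne_one (h.symm.trans hc2)
    have hsurj : Function.Surjective θ := by
      intro c'
      have hmem : g⁻¹ * E.act (c' : H) * g ∈ D.R := by
        obtain ⟨r, hr⟩ : ∃ r, E.rho σE r = E.act (c' : H) := ⟨_, E.rho_act σE (hCz' c')⟩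
        rw [← hr, ← hgρ, show g⁻¹ * (g * D.rho σD r * g⁻¹) * g = D.rho σD r by group]
        exact (σD.symm r).2
      obtain ⟨c, hc, hce⟩ := D.act_surj _ hmem
      obtain ⟨x, hx⟩ := hθF ⟨c, Subgroup.mem_centralizer_singleton_iff.2 hc⟩
      have hact : E.act (x.1.1.2 : H) = E.act (c' : H) := by
        rw [x.1.2.1, show (x.1.1.1 : G) = c from congrArg Subtype.val hx, hce]; group
      have hq : (x.1.1.2 : H)⁻¹ * c' ∈ E.Q := by
        refine (E.act_ker _ ((hCz' _).inv_left.mul_left (hCz' c'))).1 ?_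
        have hi : E.act (x.1.1.2 : H)⁻¹ = (E.act (x.1.1.2 : H))⁻¹ := eq_inv_of_mul_eq_one_left (by
          rw [← E.act_mul _ _ (hCz' _).inv_left (hCz' _), inv_mul_cancel, E.act_one])
        rw [E.act_mul _ _ (hCz' _).inv_left (hCz' c'), hi, hact, inv_mul_cancel]
      obtain ⟨a, ha⟩ : ∃ a, f a = (x.1.1.2 : H)⁻¹ * c' := by rw [← hfQ] at hq; exact hq
      refine ⟨p1 x * ⟨(a : G), hQC a⟩, Subtype.ext ?_⟩
      rw [map_mul, hθ, Subgroup.coe_mul, hθQ, ha]
      exact mul_inv_cancel_left _ _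
    exact ⟨MulEquiv.ofBijective θ ⟨hinj, hsurj⟩, (hθQ ⟨D.z, D.ctx.mem⟩).trans hfz⟩

end Cfsg.Lib.CoTwoType
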