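import Cfsg.Agent.Lib.CoTwoType.FixedVector
import Cfsg.Agent.Lib.CoTwoType.ExistsAct
import Cfsg.Agent.Lib.CoTwoType.NoFixed
import Cfsg.Agent.Lib.CoTwoType.Untwist

/-!
# The extraspecial subgroup is of plus type and no class is fixed
-/

set_option autoImplicit false
set_option linter.style.haveILetI false
set_option linter.unusedSectionVars false
set_option maxRecDepth 10000

namespace Cfsg.Lib.CoTwoType

open Cfsg Module Cfsg.Lib.Linear.Orth Cfsg.Lib.Extra Cfsg.Lib.Extra.Wide Cfsg.Lib.CoOneLocal Cfsg.Lib.SpSix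
open scoped Matrix

variable {G : Type*} [Group G] [Finite G]

/-- A totally singular subspace of the minus space of dimension eight has dimension below four. -/
theorem minus_ts (W : Submodule (ZMod 2) ((Fin 3 ⊕ Fin 3) ⊕ Fin 2 → ZMod 2))
    (hW : ∀ v ∈ W, Cfsg.quadFormMinus 3 (ZMod 2) 1 1 v = 0) : finrank (ZMod 2) W < 4 := by
  set W' := W.map (minusCoords 3).toLinearMap with hW'
  have hW0 : ∀ u ∈ W', pairForm (minusMark 3) u u = 0 := by
    rintro _ ⟨v, hv, rfl⟩
    show pairForm (minusMark 3) (minusCoords 3 v) (minusCoords 3 v) = 0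
    rw [← minus_form]
    exact hW v hv
  have hr : finrank (ZMod 2) W' = finrank (ZMod 2) W := by rw [hW', LinearEquiv.finrank_map_eq]
  obtain ⟨h2, h3⟩ := ts_bound _ W' hW0
  rw [← hr]
  refine lt_of_le_of_ne h2 fun h => ?_
  have h4 := h3 h
  rw [signSum, Fin.prod_univ_succ] at h4
  have e : ∀ i : Fin 3, (if minusMark 3 i.succ = 0 then (2 : ℤ) else -2) = 2 :=
    fun i => by simp [minusMark, Fin.succ_ne_zero]
  rw [Finset.prod_congr rfl fun i _ => e i, Finset.prod_const, Finset.card_univ, Fintype.card_fin, minusMark,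
    if_pos rfl, if_neg one_ne_zero] at h4
  norm_num at h4

theorem minus_aniso : ∀ z₁ z₂ : ZMod 2, z₁ ^ 2 + 1 * z₁ * z₂ + 1 * z₂ ^ 2 = 0 → z₁ = 0 ∧ z₂ = 0 := by decide

/-- In minus type the centralizer fixes an element of order four modulo the centre. -/
theorem exists_fixed_of_minus (z : G) (hz : orderOf z = 2)
    (Q : Subgroup (Subgroup.centralizer ({z} : Set G))) [Q.Normal]
    (hF : Cfsg.generalizedFittingSubgroup (Subgroup.centralizer ({z} : Set G)) = Q)
    (hQ : Cfsg.IsExtraspecial 2 Q) (hcard : Nat.card Q = 2 ^ 9) (hbig : ¬ Cfsg.Lib.Extra.HasBig ↥Q 4)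
    (e : (Subgroup.centralizer ({z} : Set G)) ⧸ Q ≃* SpGrp) :
    ∃ (x : G) (π : G → SpGrp), Fixed (Q.map (Subgroup.centralizer ({z} : Set G)).subtype) z x π := by
  classical
  haveI : Fact (Nat.Prime 2) := ⟨Nat.prime_two⟩
  obtain ⟨Bm, Sm⟩ := exists_space_minus (F := ZMod 2) 3 1 1 minus_aniso
  have hctx := ctx_of_hyp z hz Q hF hQ
  set π : ↥(Subgroup.centralizer ({z} : Set G)) →* SpGrp := e.toMonoidHom.comp (QuotientGroup.mk' Q) with hπdef
  have hπ : ∀ c : ↥(Subgroup.centralizer ({z} : Set G)), π c = 1 ↔ (c : G) ∈ Q.map (Subgroup.centralizer ({z} : Set G)).subtype := fun c => by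
    simp only [hπdef, MonoidHom.coe_comp, Function.comp_apply, MulEquiv.coe_toMonoidHom,
      MulEquiv.map_eq_one_iff, QuotientGroup.mk'_apply, QuotientGroup.eq_one_iff]
    exact ⟨fun h => ⟨c, h, rfl⟩, fun ⟨y, hy, e'⟩ => Subtype.ext e' ▸ hy⟩
  have hsurj : Function.Surjective π := e.surjective.comp (QuotientGroup.mk'_surjective Q)
  rcases Cfsg.Lib.Extra.model_cases hQ 3 (by rw [hcard]) with ⟨⟨f⟩⟩ | ⟨⟨f⟩⟩
  · exact absurd (hasBig_congr f.symm (plus_hasBig 4)) hbig
  obtain ⟨cls, act, R, -, hRle, h1, h2, h3, h4, h5, h7, h8, h9, h10, h11⟩ :=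
    exists_action hctx (Cfsg.Lib.Extra.pairForm_nondeg _) (Cfsg.Lib.Extra.minusCoords 3)
      (Cfsg.Lib.Extra.minus_form 3) Sm ((Q.equivMapOfInjective _ (Subgroup.centralizer ({z} : Set G)).subtype_injective).symm.trans f) π hsurj hπ
  have hC : ∀ c : ↥(Subgroup.centralizer ({z} : Set G)), Commute (c : G) z := fun c => Subgroup.mem_centralizer_singleton_iff.1 c.2
  let a : ↥(Subgroup.centralizer ({z} : Set G)) →* ↥R := MonoidHom.mk' (fun c => ⟨act c, h8 _ (hC c)⟩) fun c d => Subtype.ext (h7 _ _ (hC c) (hC d))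
  have hker : π.ker = a.ker := by
    ext c
    rw [MonoidHom.mem_ker, MonoidHom.mem_ker, hπ, ← h10 _ (hC c)]
    exact ⟨fun h => Subtype.ext h, fun h => congrArg Subtype.val h⟩
  let ρ : SpGrp →* GL _ (ZMod 2) := R.subtype.comp
    ((QuotientGroup.lift π.ker a hker.le).comp (QuotientGroup.quotientKerEquivOfSurjective π hsurj).symm.toMonoidHom)
  have hρ : ∀ c : ↥(Subgroup.centralizer ({z} : Set G)), ρ (π c) = act c := fun c => by
    show (QuotientGroup.lift π.ker a hker.le ((QuotientGroup.quotientKerEquivOfSurjective π hsurj).symm (π c))).1 = _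
    rw [show (QuotientGroup.quotientKerEquivOfSurjective π hsurj).symm (π c) = QuotientGroup.mk c from
      (QuotientGroup.quotientKerEquivOfSurjective π hsurj).symm_apply_eq.2 rfl]
    rfl
  have hinj : Function.Injective ρ := by
    rw [injective_iff_map_eq_one]
    intro g hg
    obtain ⟨c, rfl⟩ := hsurj g
    rw [hρ] at hg
    exact (hπ c).2 ((h10 _ (hC c)).1 hg)
  obtain ⟨v, hv, hfix⟩ := exists_fixed_vector Sm (by simp) minus_ts ρ hinj fun g => by
    obtain ⟨c, rfl⟩ := hsurj g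
    rw [hρ]; exact hRle (h8 _ (hC c))
  obtain ⟨x, hx, hxv⟩ := h2 v
  have hxx : x * x = z := (hctx.sq x hx).resolve_left fun h => by
    rw [← hxv, (h4 x hx).1 h] at hv
    exact zero_ne_one hv
  refine ⟨x, fun c => if h : Commute c z then π ⟨c, Subgroup.mem_centralizer_singleton_iff.2 h⟩ else 1,
    hctx, by rw [Subgroup.card_map_of_injective (Subgroup.centralizer ({z} : Set G)).subtype_injective, hcard], fun c d hc hd => ?_, fun g => ?_,
    fun c hc => ?_, hx, hxx, fun c hc => ?_⟩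
  · rw [dif_pos hc, dif_pos hd, dif_pos (hc.mul_left hd), ← map_mul]; rfl
  · obtain ⟨c, rfl⟩ := hsurj g
    exact ⟨c, hC c, dif_pos (hC c)⟩
  · rw [dif_pos hc]; exact hπ _
  · have hc' : (⟨c, Subgroup.mem_centralizer_singleton_iff.2 hc⟩ : ↥(Subgroup.centralizer ({z} : Set G))) = ⟨c, _⟩ := rfl
    have hm : c * x * c⁻¹ ∈ Q.map (Subgroup.centralizer ({z} : Set G)).subtype := (Subgroup.mem_normalizer_iff.1 (hctx.norm _ hc) _).1 hx
    have hcx : cls (c * x * c⁻¹) = cls x := by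
      rw [h11 c hc x hx, ← hρ ⟨c, Subgroup.mem_centralizer_singleton_iff.2 hc⟩, hxv, hfix]
    have h0 : cls (c * x * c⁻¹ * x⁻¹) = 0 := by
      have h := h1 _ (mul_mem hm (inv_mem hx)) _ hx
      rw [inv_mul_cancel_right, hcx] at h
      exact right_eq_add.1 h
    rcases (h3 _ (mul_mem hm (inv_mem hx))).1 h0 with h | h
    · exact Or.inl (mul_inv_eq_one.1 h)
    · exact Or.inr (mul_inv_eq_iff_eq_mul.1 h)

/-- The data of the centralizer from the hypotheses, without fixed classes. -/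
theorem exists_act (z : G) (hz : orderOf z = 2)
    (Q : Subgroup (Subgroup.centralizer ({z} : Set G))) [Q.Normal]
    (hF : Cfsg.generalizedFittingSubgroup (Subgroup.centralizer ({z} : Set G)) = Q)
    (hQ : Cfsg.IsExtraspecial 2 Q) (hcard : Nat.card Q = 2 ^ 9)
    (e : (Subgroup.centralizer ({z} : Set G)) ⧸ Q ≃* SpGrp)
    (hO : Cfsg.oddCore G = ⊥) (hZ : Subgroup.center G = ⊥) :
    ∃ (D : Act G) (_ : D.z = z), D.Q = Q.map (Subgroup.centralizer ({z} : Set G)).subtype ∧ D.NoFixed := by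
  by_cases hbig : Cfsg.Lib.Extra.HasBig ↥Q 4
  swap
  · obtain ⟨x, π, F⟩ := exists_fixed_of_minus z hz Q hF hQ hcard hbig e
    exact (no_fixed F hO hZ).elim
  obtain ⟨D, hDz, hDQ⟩ := exists_act_plus z hz Q hF hQ hcard hbig e
  refine ⟨D, hDz, hDQ, ?_⟩
  obtain ⟨σ⟩ := D.R_iso
  let ρ : SpGrp →* GL I8 (ZMod 2) := D.R.subtype.comp σ.symm.toMonoidHom
  have hinj : Function.Injective ρ := D.R.subtype_injective.comp σ.symm.injective
  have hfix : ∀ {v : V8}, (∀ g : SpGrp, (ρ g).val *ᵥ v = v) → ∀ c, Commute c D.z → (D.act c).val *ᵥ v = v :=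
    fun {v} h c hc => by
      have := h (σ ⟨D.act c, D.act_memR c hc⟩)
      simpa [ρ] using this
  have hns : ¬ ∃ v : V8, q8 v = 1 ∧ ∀ g, (ρ g).val *ᵥ v = v := by
    rintro ⟨v, hv, hall⟩
    obtain ⟨x, hx, hxv⟩ := D.cls_surj v
    have hxx : x * x = D.z := (D.sq_mem hx).resolve_left fun h => by
      rw [← hxv, (show q8 (D.cls x) = 0 from (D.cls_sq x hx).1 h)] at hv
      exact zero_ne_one hv
    classical
    refine no_fixed (x := x) (π := fun c => if h : Commute c D.z then σ ⟨D.act c, D.act_memR c h⟩ else 1)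
      ⟨D.ctx, by rw [hDQ, Subgroup.card_map_of_injective (Subgroup.subtype_injective _), hcard],
        fun c d hc hd => ?_, fun g => ?_, fun c hc => ?_, hx, hxx, fun c hc => ?_⟩ hO hZ
    · rw [dif_pos hc, dif_pos hd, dif_pos (hc.mul_left hd), ← map_mul]
      exact congrArg σ (Subtype.ext (D.act_mul c d hc hd))
    · obtain ⟨c, hc, hce⟩ := D.act_surj _ (σ.symm g).2
      refine ⟨c, hc, ?_⟩
      rw [dif_pos hc, show (⟨D.act c, D.act_memR c hc⟩ : ↥D.R) = σ.symm g from Subtype.ext hce,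
        σ.apply_symm_apply]
    · rw [dif_pos hc, MulEquiv.map_eq_one_iff, ← D.act_ker c hc]
      exact ⟨fun h => congrArg Subtype.val h, fun h => Subtype.ext h⟩
    · exact D.cls_eq hx (D.conj_mem_Q hc hx) (by rw [D.act_cls c hc x hx, hxv, hfix hall c hc])
  intro v hv
  exact fixed_eq_zero ρ hinj (fun g => D.R_le (σ.symm g).2) hns fun g => hv _ (σ.symm g).2

end Cfsg.Lib.CoTwoType
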