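import Cfsg.Agent.Lib.Extra.LargeUnfused

/-!
# Two commuting conjugates with an element of order four between them

If an element of `Q` squaring to `z` centralizes the conjugate `w`, then `Q` has four cosets of the
centralizer of `w`, and it is transitive on the conjugates of `z` in the coset of `w`.
-/

set_option autoImplicit false
set_option linter.style.haveILetI false
set_option linter.unusedSectionVars false

namespace Cfsg.Lib.CoTwoType

open Cfsg Cfsg.Lib.Extra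

variable {G : Type*} [Group G] [Finite G]

theorem conj_mul_two (k a b : G) : k * (a * b) * k⁻¹ = k * a * k⁻¹ * (k * b * k⁻¹) := by group

theorem pigeon {p₁ q₁ p₂ q₂ p₃ q₃ a b : Prop} (i12 : (p₁ ↔ p₂) → ¬ (q₁ ↔ q₂))
    (i13 : (p₁ ↔ p₃) → ¬ (q₁ ↔ q₃)) (i23 : (p₂ ↔ p₃) → ¬ (q₂ ↔ q₃)) (z₁ : ¬ (p₁ ∧ q₁))
    (z₂ : ¬ (p₂ ∧ q₂)) (z₃ : ¬ (p₃ ∧ q₃)) (hab : ¬ (a ∧ b)) :
    (p₁ ↔ a) ∧ (q₁ ↔ b) ∨ (p₂ ↔ a) ∧ (q₂ ↔ b) ∨ (p₃ ↔ a) ∧ (q₃ ↔ b) := by
  have key : ∀ x₁ y₁ x₂ y₂ x₃ y₃ u v : Bool,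
      ((x₁ == x₂ && y₁ == y₂) || (x₁ == x₃ && y₁ == y₃) || (x₂ == x₃ && y₂ == y₃) || (x₁ && y₁) ||
        (x₂ && y₂) || (x₃ && y₃) || (u && v) || (x₁ == u && y₁ == v) || (x₂ == u && y₂ == v) ||
        (x₃ == u && y₃ == v)) = true := by decide
  classical
  have := key (decide p₁) (decide q₁) (decide p₂) (decide q₂) (decide p₃) (decide q₃) (decide a) (decide b)
  simp only [Bool.or_eq_true, Bool.and_eq_true, beq_iff_eq, decide_eq_decide, decide_eq_true_eq] at this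
  rcases this with ((((((((h | h) | h) | h) | h) | h) | h) | h) | h) | h
  · exact absurd h.2 (i12 h.1)
  · exact absurd h.2 (i13 h.1)
  · exact absurd h.2 (i23 h.1)
  · exact absurd h z₁
  · exact absurd h z₂
  · exact absurd h z₃
  · exact absurd h hab
  · exact Or.inl h
  · exact Or.inr (Or.inl h)
  · exact Or.inr (Or.inr h)

theorem mem_R_conj {Q : Subgroup G} {k a : G} :
    a ∈ Q.map (MulAut.conj k).toMonoidHom ↔ ∃ b ∈ Q, k * b * k⁻¹ = a := Iff.rfl

/-- Two commutation patterns can be told apart only by the two-element centre. -/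
theorem card_le_of_patterns {Q : Subgroup G} {z : G} (hQ : Ctx Q z) {n : ℕ} (q : Fin n → G)
    {A : Subgroup G} (hAQ : A ≤ Q) (hq : ∀ i, q i ∈ Q)
    (hcov : ∀ a ∈ A, (∀ i, Commute a (q i)) → ∀ p ∈ Q, Commute a p) :
    Nat.card A ≤ 2 * 2 ^ n := by
  classical
  let f : A → (Fin n → Bool) := fun a i => decide (Commute (a : G) (q i))
  have hfib : ∀ a b : A, f a = f b → (b : G) = a ∨ (b : G) = z * a := by
    intro a b e
    have hc : ∀ i, Commute ((b : G) * (a : G)⁻¹) (q i) := fun i => by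
      have hi := congrFun e i
      simp only [f, decide_eq_decide] at hi
      by_cases h : Commute (a : G) (q i)
      · exact (hi.1 h).mul_left h.inv_left
      · refine hQ.commute_mul_of_not (hAQ b.2) (inv_mem (hAQ a.2)) (hq i) (fun h' => h (hi.2 h'))
          fun h' => h (by simpa using h'.inv_left)
    rcases hQ.cent _ (fun p hp => hcov _ (mul_mem b.2 (inv_mem a.2)) hc p hp) with e' | e'
    · exact Or.inl (mul_inv_eq_one.1 e')
    · exact Or.inr (mul_inv_eq_iff_eq_mul.1 e')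
  haveI := Fintype.ofFinite A
  have hle : Fintype.card A ≤ 2 * Fintype.card (Fin n → Bool) := by
    refine Finset.card_le_mul_card_image_of_maps_to (f := f) (fun _ _ => Finset.mem_univ _) 2 fun v _ => ?_
    rcases (Finset.univ.filter fun a => f a = v).eq_empty_or_nonempty with e | ⟨a, ha⟩
    · simp [e]
    rw [Finset.mem_filter] at ha
    have hsub : (Finset.univ.filter fun b => f b = v).map ⟨Subtype.val, Subtype.val_injective⟩ ⊆
        ({(a : G), z * a} : Finset G) := by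
      intro b hb
      obtain ⟨b', hb', rfl⟩ := Finset.mem_map.1 hb
      rw [Finset.mem_filter] at hb'
      rcases hfib a b' (ha.2.trans hb'.2.symm) with e | e <;> simp [e]
    exact (Finset.card_map _).symm.le.trans ((Finset.card_le_card hsub).trans Finset.card_le_two)
  simpa [Nat.card_eq_fintype_card] using hle

section

variable {Q R : Subgroup G} {z w : G} (hc : Cross Q z R w) {y : G} (hy : y ∈ Q) (hy2 : y * y = z)
  (hyw : Commute y w)
include hc hy hy2 hyw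

theorem exists_moved' : ∃ a ∈ R, ¬ Commute a z := by
  by_contra hcon
  push Not at hcon
  rcases hc.snd.ctx.cent z fun c h => (hcon c h).symm with e | e
  · exact hc.fst.ctx.ne_one e
  · exact hc.not_fst (e ▸ hc.fst.ctx.mem)

theorem four_symm : ∃ y' ∈ R, y' * y' = w ∧ Commute y' z := by
  obtain ⟨a, ha, haz⟩ := exists_moved' hc hy hy2 hyw
  exact ⟨_, hc.comm_mem hyw ha, (hc.shape hy hy2 hyw ha haz).1, hc.rho_commute hy hy2 hyw ha⟩

theorem moved_aux {q : G} (hq : q ∈ Q) (hnc : ¬ Commute q w) :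
    ∃ d ∈ Q, d ∈ R ∧ q⁻¹ * w * q = w * (z * d) ∧ q⁻¹ * (w * q * w) = z * d := by
  obtain ⟨y', hy', hy'2, hy'z⟩ := four_symm hc hy hy2 hyw
  obtain ⟨-, d, hdR, hdQ, e⟩ := hc.symm.shape hy' hy'2 hy'z hq hnc
  refine ⟨d, hdQ, hdR, ?_, e⟩
  calc q⁻¹ * w * q = q⁻¹ * (w * q * w) * w := by simp only [mul_assoc, hc.snd.ctx.sq_z, mul_one]
    _ = z * d * w := by rw [e]
    _ = w * (z * d) := ((hc.comm.symm.mul_right (hc.snd.ctx.central d hdR)).eq).symm

/-- The product with the central involution is not a conjugate of it. -/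
theorem no_wz (hconj : IsConj z w) : ¬ IsConj z (w * z) := by
  intro hwz
  obtain ⟨g, hg⟩ := isConj_iff.1 hconj
  obtain ⟨s, hs, hsw⟩ : ∃ s ∈ Q, ¬ Commute s w := by
    by_contra hcon
    push Not at hcon
    rcases hc.fst.ctx.cent w fun c h => (hcon c h).symm with e | e
    · exact hc.snd.ctx.ne_one e
    · exact hc.not_snd (e ▸ hc.snd.ctx.mem)
  obtain ⟨p, hp, hp1, hp2⟩ : ∃ p ∈ Q, ¬ Commute p w ∧ ¬ Commute (s * p) w := by
    by_contra hcon
    push Not at hcon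
    exact hc.not_fst (hc.fst.ctx.mem_of_hyperplane hc.comm.symm hc.snd.ctx.sq_z hs hsw
      fun p hp => (Classical.em (Commute p w)).imp_right (hcon p hp))
  -- one of `s`, `p` is moved out of `{1, z}`
  have key : ∀ {q d : G}, q ∈ Q → d ∈ Q → d ∈ R → q⁻¹ * w * q = w * (z * d) → d = 1 := by
    intro q d hq hdQ hdR e
    have e2 : q⁻¹ * (w * z) * q = w * d := by
      calc q⁻¹ * (w * z) * q = q⁻¹ * w * (z * q) := by simp only [mul_assoc]
        _ = q⁻¹ * w * q * z := by rw [(hc.fst.ctx.central q hq).eq]; simp only [mul_assoc]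
        _ = w * (d * z * z) := by rw [e, (hc.fst.ctx.central d hdQ).eq]; simp only [mul_assoc]
        _ = w * d := by rw [mul_assoc, hc.fst.ctx.sq_z, mul_one]
    obtain ⟨k, hk⟩ := isConj_iff.1 (((hconj.symm.trans hwz).trans (isConj_iff.2 ⟨q⁻¹, by rw [inv_inv, e2]⟩)))
    have h1 : w * d = w := hk.symm.trans (hc.snd.uniq k (by rw [hk]; exact mul_mem hc.snd.ctx.mem hdR))
    exact mul_eq_left.1 h1
  obtain ⟨d, hdQ, hdR, e, -⟩ := moved_aux hc hy hy2 hyw hs hsw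
  obtain ⟨d', hd'Q, hd'R, e', -⟩ := moved_aux hc hy hy2 hyw hp hp1
  rw [key hs hdQ hdR e, mul_one] at e
  rw [key hp hd'Q hd'R e', mul_one] at e'
  refine hp2 (?_ : s * p * w = w * (s * p))
  have hpz : Commute p z := (hc.fst.ctx.central p hp).symm
  have hz : Commute w z := hc.comm.symm
  have h2 : (s * p)⁻¹ * w * (s * p) = w := by
    calc (s * p)⁻¹ * w * (s * p) = p⁻¹ * (s⁻¹ * w * s) * p := by group
      _ = p⁻¹ * w * p * (p⁻¹ * z * p) := by rw [e]; group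
      _ = w * z * z := by rw [e', mul_assoc p⁻¹, ← hpz.eq, inv_mul_cancel_left]
      _ = w := by rw [mul_assoc, hc.fst.ctx.sq_z, mul_one]
  calc s * p * w = s * p * ((s * p)⁻¹ * w * (s * p)) := by rw [h2]
    _ = _ := by group

variable (hconj : IsConj z w)
include hconj

theorem moved {q : G} (hq : q ∈ Q) (hnc : ¬ Commute q w) :
    ∃ d ∈ Q, d ∈ R ∧ d ≠ 1 ∧ q⁻¹ * w * q = w * (z * d) ∧ q⁻¹ * (w * q * w) = z * d := by
  obtain ⟨d, hdQ, hdR, e, e'⟩ := moved_aux hc hy hy2 hyw hq hnc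
  refine ⟨d, hdQ, hdR, fun hd => no_wz hc hy hy2 hyw hconj ?_, e, e'⟩
  rw [hd, mul_one] at e
  exact hconj.trans (isConj_iff.2 ⟨q⁻¹, by rw [inv_inv, e]⟩)

/-- The elements moved by at most the central involution are fixed. -/
theorem full {q : G} (hq : q ∈ Q) (hfix : w * q * w⁻¹ = q ∨ w * q * w⁻¹ = z * q) : Commute q w := by
  by_contra hnc
  obtain ⟨d, hdQ, hdR, hd1, -, e⟩ := moved hc hy hy2 hyw hconj hq hnc
  rw [← hc.snd.ctx.inv_z] at e
  nth_rewrite 1 [hc.snd.ctx.inv_z] at e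
  rcases hfix with h | h
  · exact hnc (mul_inv_eq_iff_eq_mul.1 h).symm
  · rw [h, (hc.fst.ctx.central q hq).eq, inv_mul_cancel_left] at e
    exact hd1 (mul_eq_left.1 e.symm)

/-- Four cosets. -/
theorem covering : ∃ a ∈ Q, ∃ b ∈ Q, ¬ Commute a w ∧ ¬ Commute b w ∧ ¬ Commute (a * b) w ∧
    ∀ p ∈ Q, Commute p w ∨ Commute (a * p) w ∨ Commute (b * p) w ∨ Commute (a * b * p) w := by
  obtain ⟨y', hy', hy'2, hy'z⟩ := four_symm hc hy hy2 hyw
  have h := hc.symm
  obtain ⟨a, ha, b, hb, haw, hbw, habw, -⟩ := h.orbit hy' hy'2 hy'z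
  refine ⟨a, ha, b, hb, haw, hbw, habw, ?_⟩
  set ρ : G → G := fun x => x⁻¹ * (y'⁻¹ * x * y') with hρ
  have hmul : ∀ p q : G, ρ (p * q) = (q⁻¹ * ρ p * q) * ρ q := fun p q => by simp only [hρ]; group
  have hρQ : ∀ p ∈ Q, ρ p ∈ Q := fun p hp => h.comm_mem hy'z hp
  have hnc : ∀ p ∈ Q, ∀ q ∈ Q, ¬ Commute p w → ¬ Commute q w → ¬ Commute (p * q) w →
      ¬ Commute (ρ p) (ρ q) := by
    intro p hp q hq h1 h2 h3 hcm
    have e1 : ρ p * ρ p = z := (h.shape hy' hy'2 hy'z hp h1).1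
    have e2 : ρ q * ρ q = z := (h.shape hy' hy'2 hy'z hq h2).1
    have e3 : ρ (p * q) * ρ (p * q) = z := (h.shape hy' hy'2 hy'z (mul_mem hp hq) h3).1
    have key : ρ p * ρ q * (ρ p * ρ q) = 1 := by
      calc ρ p * ρ q * (ρ p * ρ q) = ρ p * (ρ q * ρ p) * ρ q := by simp only [mul_assoc]
        _ = ρ p * ρ p * (ρ q * ρ q) := by rw [← hcm.eq]; simp only [mul_assoc]
        _ = 1 := by rw [e1, e2, hc.fst.ctx.sq_z]
    rw [hmul] at e3
    rcases hc.fst.ctx.conj_cases' hq (hρQ p hp) with e | e <;> rw [e] at e3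
    · exact hc.fst.ctx.ne_one (e3.symm.trans key)
    · refine hc.fst.ctx.ne_one (e3.symm.trans ?_)
      have hc' := hc.fst.ctx.central _ (mul_mem (hρQ p hp) (hρQ q hq))
      calc z * ρ p * ρ q * (z * ρ p * ρ q) = z * (ρ p * ρ q * z) * (ρ p * ρ q) := by simp only [mul_assoc]
        _ = z * z * (ρ p * ρ q * (ρ p * ρ q)) := by rw [← hc'.eq]; simp only [mul_assoc]
        _ = 1 := by rw [key, hc.fst.ctx.sq_z, one_mul]
  intro p hp
  by_contra hcon
  push Not at hcon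
  obtain ⟨h1, h2, h3, h4⟩ := hcon
  have n1 := hnc a ha p hp haw h1 h2
  have n2 := hnc b hb p hp hbw h1 h3
  refine hnc (a * b) (mul_mem ha hb) p hp habw h1 h4 ?_
  have hab' : Commute (ρ a * ρ b) (ρ p) :=
    hc.fst.ctx.commute_mul_of_not (hρQ a ha) (hρQ b hb) (hρQ p hp) n1 n2
  rw [hmul]
  rcases hc.fst.ctx.conj_cases' hb (hρQ a ha) with e | e <;> rw [e]
  · exact hab'
  · rw [mul_assoc]
    exact (hc.fst.ctx.central _ (hρQ p hp)).mul_left hab'

/-- The conjugates of `z` in the coset of `w` are conjugate under `Q`. -/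
theorem coset (hcard : 128 < Nat.card Q) {a : G} (ha : a ∈ Q) (hwa : IsConj z (w * a)) :
    ∃ q ∈ Q, q * w * q⁻¹ = w * a := by
  classical
  obtain ⟨q₁, hq₁, q₂, hq₂, hn₁, hn₂, hn₃, hcov⟩ := covering hc hy hy2 hyw hconj
  have hQ := hc.fst.ctx
  have haz : Commute a z := (hQ.central a ha).symm
  obtain ⟨g, hg⟩ := isConj_iff.1 hwa
  have hne : w * a ≠ z := fun e => hc.not_fst (by
    rw [← mul_inv_cancel_right w a, e]; exact mul_mem hQ.mem (inv_mem ha))
  have hwaz : Commute (w * a) z := hc.comm.symm.mul_left haz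
  have hc' : Cross Q z (Q.map (MulAut.conj g).toMonoidHom) (w * a) := by
    refine ⟨hc.fst, hg ▸ hc.fst.conj g, hwaz.symm, fun h => hne ?_, fun h => hne ?_⟩
    · have := hc.fst.uniq g (hg ▸ h)
      rwa [hg] at this
    · obtain ⟨b, hb, e⟩ := h
      have e' : g * b * g⁻¹ = z := e
      have hb' : g⁻¹ * z * g⁻¹⁻¹ = b := by rw [← e']; group
      have h2 := hc.fst.uniq g⁻¹ (hb' ▸ hb)
      rw [hb'] at h2
      rw [← hg]; rw [h2] at e'; exact e'
  -- an element of order four centralizing both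
  obtain ⟨y₁, hy₁, hy₁2, hy₁w, hy₁a⟩ : ∃ y₁ ∈ Q, y₁ * y₁ = z ∧ Commute y₁ w ∧ Commute y₁ a := by
    by_contra hcon
    push Not at hcon
    let A : Subgroup G := Q ⊓ Subgroup.centralizer {w} ⊓ Subgroup.centralizer {a}
    have hA : ∀ {p : G}, p ∈ A ↔ p ∈ Q ∧ Commute p w ∧ Commute p a := fun {p} => by
      simp only [A, Subgroup.mem_inf, Subgroup.mem_centralizer_singleton_iff, and_assoc]; rfl
    have hsq : ∀ p ∈ A, p * p = 1 := fun p hp => by
      obtain ⟨h1, h2, h3⟩ := hA.1 hp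
      exact (hQ.sq p h1).resolve_right fun e => hcon p h1 e h2 h3
    have hab : ∀ p ∈ A, ∀ p' ∈ A, Commute p p' := fun p hp p' hp' => by
      have h1 := hsq _ (mul_mem hp hp')
      show p * p' = p' * p
      calc p * p' = p * (p * p' * (p * p')) * p' := by rw [h1, mul_one]
        _ = (p * p) * p' * p * (p' * p') := by simp only [mul_assoc]
        _ = _ := by rw [hsq p hp, hsq p' hp', one_mul, mul_one]
    obtain ⟨q₃, hq₃, hq₃'⟩ : ∃ q₃ ∈ Q, ∀ p ∈ Q, Commute p w → p ∈ A ∨ q₃ * p ∈ A := by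
      by_cases hall : ∀ p ∈ Q, Commute p w → Commute p a
      · exact ⟨1, one_mem _, fun p hp hpw => Or.inl (hA.2 ⟨hp, hpw, hall p hp hpw⟩)⟩
      push Not at hall
      obtain ⟨q₃, h1, h2, h3⟩ := hall
      refine ⟨q₃, h1, fun p hp hpw => ?_⟩
      by_cases h : Commute p a
      · exact Or.inl (hA.2 ⟨hp, hpw, h⟩)
      · exact Or.inr (hA.2 ⟨mul_mem h1 hp, h2.mul_left hpw, hQ.commute_mul_of_not h1 hp ha h3 h⟩)
    have hdec : ∀ p ∈ Q, p ∈ A ∨ q₁ * p ∈ A ∨ q₂ * p ∈ A ∨ q₁ * q₂ * p ∈ A ∨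
        q₃ * p ∈ A ∨ q₃ * (q₁ * p) ∈ A ∨ q₃ * (q₂ * p) ∈ A ∨ q₃ * (q₁ * q₂ * p) ∈ A := by
      intro p hp
      rcases hcov p hp with h | h | h | h
      · rcases hq₃' _ hp h with e | e <;> simp [e]
      · rcases hq₃' _ (mul_mem hq₁ hp) h with e | e <;> simp [e]
      · rcases hq₃' _ (mul_mem hq₂ hp) h with e | e <;> simp [e]
      · rcases hq₃' _ (mul_mem (mul_mem hq₁ hq₂) hp) h with e | e <;> simp [e]
    have hAQ : A ≤ Q := fun p hp => (hA.1 hp).1
    have hle := card_le_of_patterns hQ (n := 3) ![q₁, q₂, q₃] hAQ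
      (by intro i; fin_cases i <;> assumption) (fun b hb hb' p hp => by
        have b1 : Commute b q₁ := hb' 0
        have b2 : Commute b q₂ := hb' 1
        have b3 : Commute b q₃ := hb' 2
        have back : ∀ {s r : G}, Commute b s → Commute b (s * r) → Commute b r := fun {s r} h h' => by
          simpa using h.inv_right.mul_right h'
        rcases hdec p hp with e | e | e | e | e | e | e | e
        · exact hab b hb _ e
        · exact back b1 (hab b hb _ e)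
        · exact back b2 (hab b hb _ e)
        · exact back (b1.mul_right b2) (hab b hb _ e)
        · exact back b3 (hab b hb _ e)
        · exact back b1 (back b3 (hab b hb _ e))
        · exact back b2 (back b3 (hab b hb _ e))
        · exact back (b1.mul_right b2) (back b3 (hab b hb _ e)))
    haveI : Finite A := inferInstance
    let f : Fin 8 × A → Q := fun x =>
      ⟨![1, q₁⁻¹, q₂⁻¹, (q₁ * q₂)⁻¹, q₃⁻¹, q₁⁻¹ * q₃⁻¹, q₂⁻¹ * q₃⁻¹, (q₁ * q₂)⁻¹ * q₃⁻¹] x.1 * (x.2 : G), by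
        refine mul_mem ?_ (hAQ x.2.2)
        rcases x with ⟨i, x⟩
        fin_cases i <;> simp [hq₁, hq₂, hq₃, mul_mem, one_mem]⟩
    have hsurj : Function.Surjective f := by
      rintro ⟨p, hp⟩
      rcases hdec p hp with e | e | e | e | e | e | e | e
      · exact ⟨(0, ⟨_, e⟩), Subtype.ext (by simp [f])⟩
      · exact ⟨(1, ⟨_, e⟩), Subtype.ext (by simp [f])⟩
      · exact ⟨(2, ⟨_, e⟩), Subtype.ext (by simp [f])⟩
      · exact ⟨(3, ⟨_, e⟩), Subtype.ext (by simp [f, mul_assoc])⟩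
      · exact ⟨(4, ⟨_, e⟩), Subtype.ext (by simp [f])⟩
      · exact ⟨(5, ⟨_, e⟩), Subtype.ext (by simp [f, mul_assoc])⟩
      · exact ⟨(6, ⟨_, e⟩), Subtype.ext (by simp [f, mul_assoc])⟩
      · exact ⟨(7, ⟨_, e⟩), Subtype.ext (by simp [f, mul_assoc])⟩
    have := Nat.card_le_card_of_surjective f hsurj
    rw [Nat.card_prod, Nat.card_fin] at this
    omega
  have hy₁wa : Commute y₁ (w * a) := hy₁w.mul_right hy₁a
  -- `a` centralizes the centralizer of `w`
  have hperp : ∀ p ∈ Q, Commute p w → Commute p a := by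
    intro p hp hpw
    have h1 : Commute p (w * a) := by
      refine full hc' hy₁ hy₁2 hy₁wa hwa hp ?_
      have e : w * a * p * (w * a)⁻¹ = w * (a * p * a⁻¹) * w⁻¹ := by group
      rw [e]
      rcases hQ.conj_cases ha hp with h | h <;> rw [h]
      · exact Or.inl (by rw [← hpw.eq, mul_inv_cancel_right])
      · refine Or.inr ?_
        rw [conj_mul_two, ← hpw.eq, mul_inv_cancel_right, hc.comm.symm.eq, mul_inv_cancel_right]
    simpa using hpw.inv_right.mul_right h1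
  have hext : ∀ e ∈ Q, (∀ p ∈ Q, Commute p w → Commute p e) → Commute e q₁ → Commute e q₂ →
      e = 1 ∨ e = z := by
    intro e _ he h1 h2
    refine hQ.cent e fun p hp => ?_
    rcases hcov p hp with h | h | h | h
    · exact (he p hp h).symm
    · simpa using h1.inv_right.mul_right (he _ (mul_mem hq₁ hp) h).symm
    · simpa using h2.inv_right.mul_right (he _ (mul_mem hq₂ hp) h).symm
    · simpa [mul_assoc] using (h1.mul_right h2).inv_right.mul_right (he _ (mul_mem (mul_mem hq₁ hq₂) hp) h).symm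
  obtain ⟨d₁, hd₁Q, hd₁R, hd₁1, e₁, -⟩ := moved hc hy hy2 hyw hconj hq₁ hn₁
  obtain ⟨d₂, hd₂Q, hd₂R, hd₂1, e₂, -⟩ := moved hc hy hy2 hyw hconj hq₂ hn₂
  obtain ⟨d₃, hd₃Q, hd₃R, hd₃1, e₃, -⟩ := moved hc hy hy2 hyw hconj (mul_mem hq₁ hq₂) hn₃
  have hdperp : ∀ {d : G}, d ∈ Q → d ∈ R → ∀ p ∈ Q, Commute p w → Commute p d :=
    fun hdQ hdR p hp hpw => (hc.symm.inter_commute hdR hdQ hp hpw).symm
  -- the pattern of a common element determines it
  have hinj : ∀ {d d' : G}, d ∈ Q → d ∈ R → d' ∈ Q → d' ∈ R → (Commute d q₁ ↔ Commute d' q₁) →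
      (Commute d q₂ ↔ Commute d' q₂) → d = d' := by
    intro d d' hd hd' he he' h1 h2
    have hc1 : ∀ {q : G}, q ∈ Q → (Commute d q ↔ Commute d' q) → Commute (d' * d⁻¹) q := by
      intro q hq hiff
      by_cases h : Commute d q
      · exact (hiff.1 h).mul_left h.inv_left
      · exact hQ.commute_mul_of_not he (inv_mem hd) hq (fun h' => h (hiff.2 h'))
          fun h' => h (by simpa using h'.inv_left)
    rcases hext (d' * d⁻¹) (mul_mem he (inv_mem hd)) (fun p hp hpw =>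
      (hdperp he he' p hp hpw).mul_right (hdperp hd hd' p hp hpw).inv_right) (hc1 hq₁ h1) (hc1 hq₂ h2) with e | e
    · exact (mul_inv_eq_one.1 e).symm
    · exact absurd (e ▸ mul_mem he' (inv_mem hd')) hc.not_snd
  have h1mem : (1 : G) ∈ Q ∧ (1 : G) ∈ R := ⟨one_mem _, one_mem _⟩
  have hne12 : d₁ ≠ d₂ := fun e => by
    refine hn₃ ?_
    have e' : q₁⁻¹ * w * q₁ = q₂⁻¹ * w * q₂ := by rw [e₁, e₂, e]
    have h2 : Commute (q₁ * q₂⁻¹) w := by
      show q₁ * q₂⁻¹ * w = w * (q₁ * q₂⁻¹)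
      calc q₁ * q₂⁻¹ * w = q₁ * (q₂⁻¹ * w * q₂) * q₂⁻¹ := by group
        _ = _ := by rw [← e']; group
    rcases hQ.inv_mul_self hq₂ with e4 | e4 <;> rw [e4] at h2
    · exact h2
    · rw [← mul_assoc, ← (hQ.central q₁ hq₁).eq, mul_assoc] at h2
      simpa [← mul_assoc, hQ.sq_z] using hc.comm.mul_left h2
  have hd3' : ∀ {d : G}, q₁⁻¹ * w * q₁ = w * (z * d) ∨ q₂⁻¹ * w * q₂ = w * (z * d) ∨
      (q₁ * q₂)⁻¹ * w * (q₁ * q₂) = w * (z * d) →
      ∃ q ∈ Q, q * w * q⁻¹ = w * (z * d) := by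
    rintro d (e | e | e)
    · exact ⟨q₁⁻¹, inv_mem hq₁, by rw [inv_inv]; exact e⟩
    · exact ⟨q₂⁻¹, inv_mem hq₂, by rw [inv_inv]; exact e⟩
    · exact ⟨(q₁ * q₂)⁻¹, inv_mem (mul_mem hq₁ hq₂), by rw [inv_inv]; exact e⟩
  have hne13 : d₁ ≠ d₃ := fun e => by
    refine hn₂ ?_
    have e' : q₁⁻¹ * w * q₁ = (q₁ * q₂)⁻¹ * w * (q₁ * q₂) := by rw [e₁, e₃, e]
    set v := q₁⁻¹ * w * q₁ with hv
    have hv2 : q₂⁻¹ * v * q₂ = v := by
      calc q₂⁻¹ * v * q₂ = (q₁ * q₂)⁻¹ * w * (q₁ * q₂) := by rw [hv]; group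
        _ = v := e'.symm
    have hd1q : Commute (z * d₁) q₂ ∨ q₂⁻¹ * (z * d₁) * q₂ = z * (z * d₁) :=
      (hQ.conj_cases' hq₂ (mul_mem hQ.mem hd₁Q)).imp_left fun h => by
        show z * d₁ * q₂ = q₂ * (z * d₁)
        calc z * d₁ * q₂ = q₂ * (q₂⁻¹ * (z * d₁) * q₂) := by group
          _ = _ := by rw [h]
    rw [e₁] at hv2
    rcases hd1q with h | h
    · have h2 : q₂⁻¹ * w * q₂ * (q₂⁻¹ * (z * d₁) * q₂) = w * (z * d₁) := by rw [← hv2]; group
      rw [show q₂⁻¹ * (z * d₁) * q₂ = z * d₁ by rw [mul_assoc, h.eq, inv_mul_cancel_left]] at h2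
      have := mul_right_cancel h2
      show q₂ * w = w * q₂
      calc q₂ * w = q₂ * (q₂⁻¹ * w * q₂) := by rw [this]
        _ = _ := by group
    · exfalso
      have h2 : q₂⁻¹ * w * q₂ * (q₂⁻¹ * (z * d₁) * q₂) = w * (z * d₁) := by rw [← hv2]; group
      rw [h, ← mul_assoc] at h2
      have h3 := mul_right_cancel h2
      refine no_wz hc hy hy2 hyw hconj (hconj.trans (isConj_iff.2 ⟨q₂⁻¹, ?_⟩))
      rw [inv_inv]
      calc q₂⁻¹ * w * q₂ = q₂⁻¹ * w * q₂ * z * z := by rw [mul_assoc _ z z, hQ.sq_z, mul_one]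
        _ = w * z := by rw [h3]
  have hne23 : d₂ ≠ d₃ := fun e => by
    refine hn₁ ?_
    have e' : q₂⁻¹ * w * q₂ = (q₁ * q₂)⁻¹ * w * (q₁ * q₂) := by rw [e₂, e₃, e]
    have : q₁⁻¹ * w * q₁ = w := by
      calc q₁⁻¹ * w * q₁ = q₂ * ((q₁ * q₂)⁻¹ * w * (q₁ * q₂)) * q₂⁻¹ := by group
        _ = w := by rw [← e']; group
    show q₁ * w = w * q₁
    calc q₁ * w = q₁ * (q₁⁻¹ * w * q₁) := by rw [this]
      _ = _ := by group
  by_cases hb : Commute a q₁ ∧ Commute a q₂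
  · rcases hext a ha hperp hb.1 hb.2 with e | e
    · exact ⟨1, one_mem _, by rw [e]; simp⟩
    · exact absurd (e ▸ hwa) (no_wz hc hy hy2 hyw hconj)
  -- the three patterns are taken by the three common elements
  have hpat : ∃ d, (d = d₁ ∨ d = d₂ ∨ d = d₃) ∧ (Commute d q₁ ↔ Commute a q₁) ∧
      (Commute d q₂ ↔ Commute a q₂) := by
    have nz : ∀ {d : G}, d ∈ Q → d ∈ R → d ≠ 1 → ¬ (Commute d q₁ ∧ Commute d q₂) := fun hd hd' hd1 h =>
      hd1 (hinj h1mem.1 h1mem.2 hd hd' ⟨fun _ => h.1, fun _ => Commute.one_left _⟩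
        ⟨fun _ => h.2, fun _ => Commute.one_left _⟩).symm
    have i12 := fun h h' => hne12 (hinj hd₁Q hd₁R hd₂Q hd₂R h h')
    have i13 := fun h h' => hne13 (hinj hd₁Q hd₁R hd₃Q hd₃R h h')
    have i23 := fun h h' => hne23 (hinj hd₂Q hd₂R hd₃Q hd₃R h h')
    have z1 := nz hd₁Q hd₁R hd₁1
    have z2 := nz hd₂Q hd₂R hd₂1
    have z3 := nz hd₃Q hd₃R hd₃1
    rcases pigeon i12 i13 i23 z1 z2 z3 hb with h | h | h
    · exact ⟨d₁, Or.inl rfl, h⟩
    · exact ⟨d₂, Or.inr (Or.inl rfl), h⟩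
    · exact ⟨d₃, Or.inr (Or.inr rfl), h⟩
  obtain ⟨d, hd, h1, h2⟩ := hpat
  have hdQ : d ∈ Q := by rcases hd with rfl | rfl | rfl <;> assumption
  have hdR : d ∈ R := by rcases hd with rfl | rfl | rfl <;> assumption
  have hd1 : d ≠ 1 := by rcases hd with rfl | rfl | rfl <;> assumption
  have hc1 : ∀ {q : G}, q ∈ Q → (Commute d q ↔ Commute a q) → Commute (a * d⁻¹) q := by
    intro q hq hiff
    by_cases h : Commute d q
    · exact (hiff.1 h).mul_left h.inv_left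
    · exact hQ.commute_mul_of_not ha (inv_mem hdQ) hq (fun h' => h (hiff.2 h'))
        fun h' => h (by simpa using h'.inv_left)
  rcases hext (a * d⁻¹) (mul_mem ha (inv_mem hdQ)) (fun p hp hpw =>
    (hperp p hp hpw).mul_right (hdperp hdQ hdR p hp hpw).inv_right) (hc1 hq₁ h1) (hc1 hq₂ h2) with e | e
  · exfalso
    rw [mul_inv_eq_one] at e
    obtain ⟨k, hk⟩ := isConj_iff.1 (hconj.symm.trans (e ▸ hwa))
    have := hc.snd.uniq k (by rw [hk]; exact mul_mem hc.snd.ctx.mem hdR)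
    rw [hk] at this
    exact hd1 (mul_eq_left.1 this)
  · rw [mul_inv_eq_iff_eq_mul] at e
    rw [e]
    refine hd3' ?_
    rcases hd with rfl | rfl | rfl
    · exact Or.inl e₁
    · exact Or.inr (Or.inl e₂)
    · exact Or.inr (Or.inr e₃)

/-- An element whose commutator with `w` lies in `Q` can be corrected to centralize it. -/
theorem exists_lift (hcard : 128 < Nat.card Q) {c : G}
    (hcw : w⁻¹ * (c * w * c⁻¹) ∈ Q) : ∃ q ∈ Q, Commute (q * c) w := by
  obtain ⟨q, hq, e⟩ := coset hc hy hy2 hyw hconj hcard hcw (hconj.trans (isConj_iff.2 ⟨c, by group⟩))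
  refine ⟨q⁻¹, inv_mem hq, mul_inv_eq_iff_eq_mul.1 ?_⟩
  calc q⁻¹ * c * w * (q⁻¹ * c)⁻¹ = q⁻¹ * (w * (w⁻¹ * (c * w * c⁻¹))) * q := by group
    _ = w := by rw [← e]; group

end

end Cfsg.Lib.CoTwoType
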