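import Cfsg.Agent.Lib.CoTwoType.SpFacts
import Cfsg.Agent.Lib.Co2Invol.Main
import Cfsg.Agent.Lib.Concrete.MonsterCentral
import Cfsg.Agent.Lib.CoTwoType.Six
import Cfsg.Agent.Lib.Extra.LargeFused

/-!
# A central involution with a fixed element of order four is not fused into its extraspecial subgroup
-/

set_option autoImplicit false
set_option linter.style.haveILetI false
set_option linter.unusedSectionVars false

namespace Cfsg.Lib.CoTwoType

open Cfsg Cfsg.Lib.Extra Cfsg.Lib.SpSix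

/-- The centralizer is an extension of `Q` by `Sp6(2)` and fixes an element of order four modulo the centre. -/
structure Fixed {G : Type*} [Group G] (Q : Subgroup G) (z x : G) (π : G → SpGrp) : Prop where
  ctx : Ctx Q z
  card : Nat.card Q = 2 ^ 9
  mul : ∀ c d, Commute c z → Commute d z → π (c * d) = π c * π d
  surj : ∀ g, ∃ c, Commute c z ∧ π c = g
  ker : ∀ c, Commute c z → (π c = 1 ↔ c ∈ Q)
  mem : x ∈ Q
  sq : x * x = z
  fix : ∀ c, Commute c z → c * x * c⁻¹ = x ∨ c * x * c⁻¹ = z * x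

theorem comm_central_mul {H : Type*} [Group H] {a b c d : H} (ca : Commute c a) (cb : Commute c b)
    (da : Commute d a) (db : Commute d b) (cd : Commute c d) :
    c * a * (d * b) * (c * a)⁻¹ * (d * b)⁻¹ = a * b * a⁻¹ * b⁻¹ := by
  calc c * a * (d * b) * (c * a)⁻¹ * (d * b)⁻¹ = c * (a * d) * b * a⁻¹ * c⁻¹ * b⁻¹ * d⁻¹ := by group
    _ = c * (d * a) * b * a⁻¹ * c⁻¹ * b⁻¹ * d⁻¹ := by rw [da.eq]
    _ = c * d * (a * b * a⁻¹) * (c⁻¹ * b⁻¹) * d⁻¹ := by group
    _ = c * d * (a * b * a⁻¹) * (b⁻¹ * c⁻¹) * d⁻¹ := by rw [cb.inv_inv.eq]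
    _ = c * d * (a * b * a⁻¹ * b⁻¹) * (c * d)⁻¹ * ((c * d) * c⁻¹ * d⁻¹) := by group
    _ = (a * b * a⁻¹ * b⁻¹) * ((c * d) * c⁻¹ * d⁻¹) := by
      rw [((((ca.mul_left da).mul_right (cb.mul_left db)).mul_right (ca.mul_left da).inv_right).mul_right
        (cb.mul_left db).inv_right).eq, mul_inv_cancel_right]
    _ = _ := by rw [cd.eq]; group

variable {G : Type*} [Group G] [Finite G] {Q : Subgroup G} {z x : G} {π : G → SpGrp}

namespace Fixed

variable (F : Fixed Q z x π)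
include F

theorem pi_Q {a : G} (ha : a ∈ Q) : π a = 1 := (F.ker a (F.ctx.central a ha).symm).2 ha

theorem pi_one : π 1 = 1 := F.pi_Q (one_mem _)

theorem pi_inv {c : G} (hc : Commute c z) : π c⁻¹ = (π c)⁻¹ := by
  refine eq_inv_of_mul_eq_one_left ?_
  rw [← F.mul _ _ hc.inv_left hc, inv_mul_cancel, F.pi_one]

theorem pi_conj {c d : G} (hc : Commute c z) (hd : Commute d z) : π (c * d * c⁻¹) = π c * π d * (π c)⁻¹ := by
  rw [F.mul _ _ (hc.mul_left hd) hc.inv_left, F.mul _ _ hc hd, F.pi_inv hc]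

theorem conj (k : G) : Fixed (Q.map (MulAut.conj k).toMonoidHom) (k * z * k⁻¹) (k * x * k⁻¹)
    fun c => π (k⁻¹ * c * k) := by
  have hb : ∀ {c : G}, Commute c (k * z * k⁻¹) → Commute (k⁻¹ * c * k) z := fun {c} hc => by
    have h := (Commute.conj_iff k⁻¹).2 hc
    rwa [inv_inv, show k⁻¹ * (k * z * k⁻¹) * k = z by group] at h
  refine ⟨F.ctx.conj k, ?_, fun c d hc hd => ?_, fun g => ?_, fun c hc => ?_, ⟨x, F.mem, rfl⟩, ?_, fun c hc => ?_⟩
  · rw [Subgroup.card_map_of_injective (MulAut.conj k).injective, F.card]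
  · show π (k⁻¹ * (c * d) * k) = π (k⁻¹ * c * k) * π (k⁻¹ * d * k)
    rw [← F.mul _ _ (hb hc) (hb hd)]
    congr 1
    group
  · obtain ⟨c, hc, rfl⟩ := F.surj g
    refine ⟨k * c * k⁻¹, (Commute.conj_iff k).2 hc, ?_⟩
    show π (k⁻¹ * (k * c * k⁻¹) * k) = π c
    congr 1
    group
  · show π (k⁻¹ * c * k) = 1 ↔ _
    rw [F.ker _ (hb hc)]
    constructor
    · intro h
      exact ⟨_, h, show k * (k⁻¹ * c * k) * k⁻¹ = c by group⟩
    · rintro ⟨b, hb', e⟩
      rw [← show k * b * k⁻¹ = c from e, show k⁻¹ * (k * b * k⁻¹) * k = b by group]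
      exact hb'
  · rw [conj_mul, F.sq]
  · rcases F.fix _ (hb hc) with h | h
    · left
      calc c * (k * x * k⁻¹) * c⁻¹ = k * (k⁻¹ * c * k * x * (k⁻¹ * c * k)⁻¹) * k⁻¹ := by group
        _ = _ := by rw [h]
    · right
      calc c * (k * x * k⁻¹) * c⁻¹ = k * (k⁻¹ * c * k * x * (k⁻¹ * c * k)⁻¹) * k⁻¹ := by group
        _ = _ := by rw [h, conj_mul]

/-- The elements acting on `Q` modulo the centre trivially. -/
theorem mem_of_trivial {c : G} (hc : Commute c z) (h : ∀ a ∈ Q, c * a * c⁻¹ = a ∨ c * a * c⁻¹ = z * a) :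
    c ∈ Q := by
  classical
  let N : Subgroup SpGrp :=
    { carrier := {g | ∃ d, Commute d z ∧ π d = g ∧ ∀ a ∈ Q, d * a * d⁻¹ = a ∨ d * a * d⁻¹ = z * a}
      one_mem' := ⟨1, Commute.one_left z, F.pi_one, fun a _ => Or.inl (by simp)⟩
      mul_mem' := by
        rintro _ _ ⟨d, hd, rfl, h1⟩ ⟨e, he, rfl, h2⟩
        refine ⟨d * e, hd.mul_left he, F.mul d e hd he, fun a ha => ?_⟩
        have e0 : d * e * a * (d * e)⁻¹ = d * (e * a * e⁻¹) * d⁻¹ := by group
        have e1 : d * z * d⁻¹ = z := mul_inv_eq_iff_eq_mul.2 hd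
        rw [e0]
        rcases h2 a ha with q | q <;> rw [q]
        · exact h1 a ha
        · rw [← conj_mul, e1]
          rcases h1 a ha with r | r <;> rw [r]
          · exact Or.inr rfl
          · exact Or.inl (by rw [← mul_assoc, F.ctx.sq_z, one_mul])
      inv_mem' := by
        rintro _ ⟨d, hd, rfl, h1⟩
        refine ⟨d⁻¹, hd.inv_left, F.pi_inv hd, fun a ha => ?_⟩
        have hm : d⁻¹ * a * d⁻¹⁻¹ ∈ Q :=
          (Subgroup.mem_normalizer_iff.1 (F.ctx.norm _ hd.inv_left) a).1 ha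
        have e1 : d * (d⁻¹ * a * d⁻¹⁻¹) * d⁻¹ = a := by group
        rcases h1 _ hm with q | q <;> rw [e1] at q
        · exact Or.inl q.symm
        · right
          calc d⁻¹ * a * d⁻¹⁻¹ = z * (z * (d⁻¹ * a * d⁻¹⁻¹)) := by rw [← mul_assoc z z, F.ctx.sq_z, one_mul]
            _ = _ := by rw [← q] }
  have hNn : N.Normal := ⟨by
    rintro _ ⟨d, hd, rfl, h1⟩ g
    obtain ⟨e, he, rfl⟩ := F.surj g
    refine ⟨e * d * e⁻¹, (he.mul_left hd).mul_left he.inv_left, F.pi_conj he hd, fun a ha => ?_⟩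
    have hm : e⁻¹ * a * e⁻¹⁻¹ ∈ Q := (Subgroup.mem_normalizer_iff.1 (F.ctx.norm _ he.inv_left) a).1 ha
    have e0 : e * d * e⁻¹ * a * (e * d * e⁻¹)⁻¹ = e * (d * (e⁻¹ * a * e⁻¹⁻¹) * d⁻¹) * e⁻¹ := by group
    rw [e0]
    rcases h1 _ hm with q | q <;> rw [q]
    · exact Or.inl (by group)
    · right
      rw [← conj_mul, mul_inv_eq_iff_eq_mul.2 he]
      group⟩
  have h2 : IsPGroup 2 N := by
    rintro ⟨g, d, hd, rfl, h1⟩
    refine ⟨1, Subtype.ext ?_⟩
    rw [SubmonoidClass.coe_pow, Subgroup.coe_one, pow_one, pow_two, ← F.mul d d hd hd, F.ker _ (hd.mul_left hd)]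
    rcases F.ctx.cent (d * d) fun a ha => by
      show d * d * a = a * (d * d)
      refine mul_inv_eq_iff_eq_mul.1 ?_
      have e0 : d * d * a * (d * d)⁻¹ = d * (d * a * d⁻¹) * d⁻¹ := by group
      rw [e0]
      rcases h1 a ha with q | q <;> rw [q]
      · exact q
      · rw [← conj_mul, mul_inv_eq_iff_eq_mul.2 hd, q, ← mul_assoc, F.ctx.sq_z, one_mul] with e | e <;> rw [e]
    exacts [one_mem _, F.ctx.mem]
  have hmem : π c ∈ N := ⟨c, hc, rfl, h⟩
  rw [Cfsg.Lib.Co2Invol.normal_two_trivial N hNn h2, Subgroup.mem_bot] at hmem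
  exact (F.ker c hc).1 hmem

/-- An abelian subgroup of `Q` has at most 32 elements. -/
theorem abelian_le {A : Subgroup G} (hA : A ≤ Q) (hab : ∀ a ∈ A, ∀ b ∈ A, Commute a b) : Nat.card A ≤ 32 := by
  classical
  have hcen : ∀ c : Q, c ∈ Subgroup.center Q ↔ c = 1 ∨ c = ⟨z, F.ctx.mem⟩ := fun c => by
    rw [Subgroup.mem_center_iff]
    constructor
    · intro hc
      rcases F.ctx.cent c fun a ha => (congrArg Subtype.val (hc ⟨a, ha⟩)).symm with e | e
      · exact Or.inl (Subtype.ext e)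
      · exact Or.inr (Subtype.ext e)
    · rintro (rfl | rfl) g
      · simp
      · exact Subtype.ext (F.ctx.central g g.2).symm.eq
  have hZ : Nat.card (Subgroup.center Q) = 2 := by
    refine Nat.card_eq_two_iff.2 ⟨1, ⟨⟨z, F.ctx.mem⟩, (hcen _).2 (Or.inr rfl)⟩, fun e => ?_, ?_⟩
    · exact F.ctx.ne_one (congrArg (fun c : Subgroup.center Q => ((c : Q) : G)) e).symm
    · refine Set.eq_univ_of_forall fun c => ?_
      rcases (hcen c).1 c.2 with e | e
      · exact Or.inl (Subtype.ext e)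
      · exact Or.inr (Subtype.ext e)
  have hq : ∀ a b : Q ⧸ Subgroup.center Q, a * b = b * a := by
    intro a b
    obtain ⟨a, rfl⟩ := QuotientGroup.mk_surjective a
    obtain ⟨b, rfl⟩ := QuotientGroup.mk_surjective b
    rw [← QuotientGroup.mk_mul, ← QuotientGroup.mk_mul, QuotientGroup.eq_iff_div_mem, div_eq_mul_inv, mul_inv_rev,
      ← mul_assoc, hcen]
    exact (F.ctx.comm a a.2 b b.2).imp (fun e => Subtype.ext e) fun e => Subtype.ext e
  have h := Cfsg.Lib.Concrete.card_abelian_sq_le hZ hq (A.subgroupOf Q) fun a ha b hb =>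
    Subtype.ext (hab a ha b hb).eq
  rw [Nat.card_congr (Subgroup.subgroupOfEquivOfLe hA).toEquiv, F.card] at h
  nlinarith

theorem commute_fix {u : G} (hu : u ∈ Q) : x * u * x⁻¹ = u ∨ x * u * x⁻¹ = z * u := F.ctx.conj_cases F.mem hu

/-- A conjugate in `Q` commutes with the fixed element. -/
theorem commute_of_fused {k : G} (hu : k * z * k⁻¹ ∈ Q) (hne : k * z * k⁻¹ ≠ z) :
    Commute x (k * z * k⁻¹) := by
  classical
  set u := k * z * k⁻¹ with hudef
  refine mul_inv_eq_iff_eq_mul.1 ((F.commute_fix hu).resolve_right fun hxu => ?_)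
  set R := Q.map (MulAut.conj k).toMonoidHom with hRdef
  have hR : Ctx R u := F.ctx.conj k
  have hzR : z ∈ R := F.ctx.mem_symm hu
  have hrx : ∀ r ∈ R, Commute r z → ∃ e, (e = 1 ∨ e = z) ∧ x * r * x⁻¹ = e * r := by
    intro r hr hrz
    rcases F.fix r hrz with e | e
    · refine ⟨1, Or.inl rfl, ?_⟩
      rw [one_mul]
      refine mul_inv_eq_iff_eq_mul.2 ?_
      exact (mul_inv_eq_iff_eq_mul.1 e).symm
    · refine ⟨z, Or.inr rfl, ?_⟩
      have e' : r * x = z * x * r := mul_inv_eq_iff_eq_mul.1 e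
      refine mul_inv_eq_iff_eq_mul.2 ?_
      rw [mul_assoc z, e', ← mul_assoc, ← mul_assoc z z, F.ctx.sq_z, one_mul]
  let S : Subgroup G := R ⊓ Subgroup.centralizer ({z} : Set G)
  have hS : ∀ {r : G}, r ∈ S ↔ r ∈ R ∧ Commute r z := fun {r} => by
    simp only [S, Subgroup.mem_inf, Subgroup.mem_centralizer_singleton_iff]; rfl
  have hab : ∀ a ∈ S, ∀ b ∈ S, Commute a b := by
    intro a ha b hb
    obtain ⟨haR, haz⟩ := hS.1 ha
    obtain ⟨hbR, hbz⟩ := hS.1 hb
    rcases hR.comm a haR b hbR with e | e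
    · exact mul_inv_eq_iff_eq_mul.1 (mul_inv_eq_one.1 e)
    · exfalso
      obtain ⟨ea, hea, h1⟩ := hrx a haR haz
      obtain ⟨eb, heb, h2⟩ := hrx b hbR hbz
      have hz' : ∀ {e}, (e = 1 ∨ e = z) → ∀ {r}, Commute r z → Commute e r := by
        rintro e (rfl | rfl) r hr
        exacts [Commute.one_left r, hr.symm]
      have h3 : x * u * x⁻¹ = u := by
        calc x * u * x⁻¹ = x * (a * b * a⁻¹ * b⁻¹) * x⁻¹ := by rw [e]
          _ = (x * a * x⁻¹) * (x * b * x⁻¹) * (x * a * x⁻¹)⁻¹ * (x * b * x⁻¹)⁻¹ := by group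
          _ = u := by
            have hee : Commute ea eb := hz' hea (by
              rcases heb with h | h <;> rw [h]
              exact Commute.one_left _)
            rw [h1, h2, comm_central_mul (hz' hea haz) (hz' hea hbz) (hz' heb haz) (hz' heb hbz) hee, e]
      exact F.ctx.ne_one (mul_eq_right.1 (hxu.symm.trans h3))
  have hz1 : z ≠ u := fun e => hne e.symm
  obtain ⟨s, hs, hsz⟩ := hR.exists_move hzR F.ctx.ne_one hz1
  have hcov : ∀ p ∈ R, Commute p z ∨ Commute (s * p) z := fun p hp => hR.commute_or hs hsz hp hzR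
  have hnsz : ¬ Commute s z := fun h => by
    rw [h.eq, mul_inv_cancel_right] at hsz
    exact hR.ne_one (mul_eq_right.1 hsz.symm)
  have hle := card_le_of_patterns hR (n := 1) ![s] (A := S) inf_le_left (fun i => by fin_cases i; exact hs)
    (fun b hb hb' p hp => by
      have h1 : Commute b s := hb' 0
      rcases hcov p hp with h | h
      · exact hab b hb p (hS.2 ⟨hp, h⟩)
      · have h2 := hab b hb (s * p) (hS.2 ⟨mul_mem hs hp, h⟩)
        simpa using h1.inv_right.mul_right h2)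
  have hRS : Nat.card R ≤ 2 * Nat.card S := card_le_double inf_le_left hs fun p hp => (hcov p hp).imp
    (fun h => hS.2 ⟨hp, h⟩) fun h => hS.2 ⟨mul_mem hs hp, h⟩
  rw [hRdef, (F.conj k).card] at hRS
  omega

end Fixed

end Cfsg.Lib.CoTwoType
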