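import Cfsg.Agent.Lib.CoTwoType.FixedPair

/-!
# A fixed element of order four forbids fusion into the extraspecial subgroup
-/

set_option autoImplicit false
set_option linter.style.haveILetI false
set_option linter.unusedSectionVars false

namespace Cfsg.Lib.CoTwoType

open Cfsg Cfsg.Lib.Extra Cfsg.Lib.SpSix

variable {G : Type*} [Group G] [Finite G] {Q R : Subgroup G} {z x u x' : G} {π π' : G → SpGrp}

namespace FixedPair

variable (h : FixedPair Q z x π R u x' π')
include h

theorem four_mem {e : G} (he : e = 1 ∨ e = z ∨ e = u ∨ e = z * u) : e ∈ Q ∧ e ∈ R := by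
  rcases he with rfl | rfl | rfl | rfl
  exacts [⟨one_mem _, one_mem _⟩, ⟨h.fst.ctx.mem, h.mem_snd⟩, ⟨h.mem_fst, h.snd.ctx.mem⟩,
    ⟨mul_mem h.fst.ctx.mem h.mem_fst, mul_mem h.mem_snd h.snd.ctx.mem⟩]

theorem four_swap {e : G} (he : e = 1 ∨ e = u ∨ e = z ∨ e = u * z) : e = 1 ∨ e = z ∨ e = u ∨ e = z * u := by
  rw [h.uz.eq] at he; tauto

theorem inter_sq {a : G} (ha : a ∈ Q) (ha' : a ∈ R) : a * a = 1 := by
  rcases h.fst.ctx.sq a ha with e | e
  · exact e
  rcases h.snd.ctx.sq a ha' with e' | e'
  · exact e'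
  · exact absurd (e'.symm.trans e) h.ne

theorem inter_commute {a b : G} (ha : a ∈ Q) (ha' : a ∈ R) (hb : b ∈ Q) (hb' : b ∈ R) : Commute a b := by
  rcases h.fst.ctx.comm a ha b hb with e | e
  · exact mul_inv_eq_iff_eq_mul.1 (mul_inv_eq_one.1 e)
  rcases h.snd.ctx.comm a ha' b hb' with e' | e'
  · exact absurd (e'.symm.trans e).symm h.fst.ctx.ne_one
  · exact absurd (e'.symm.trans e) h.ne

/-- A common element commuting with `x` lies in the four group. -/
theorem inter_small {a : G} (ha : a ∈ Q) (ha' : a ∈ R) (hax : Commute a x) :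
    a = 1 ∨ a = z ∨ a = u ∨ a = z * u := by
  classical
  by_contra hcon
  push Not at hcon
  obtain ⟨h1, h2, h3, h4⟩ := hcon
  obtain ⟨hR2, hall, hstab⟩ := h.class_facts
  obtain ⟨c, hc, rfl⟩ := hall a ⟨ha, hax, h.inter_sq ha ha', h1, h2⟩
  have hne : π c * π x' * (π c)⁻¹ ≠ π x' := fun e =>
    (hstab c hc (mul_inv_eq_iff_eq_mul.1 e)).elim h3 h4
  obtain ⟨f, hf, hfg⟩ := suborbit_big hR2 (hR2.trans (isConj_iff.2 ⟨π c, rfl⟩)) hne
  choose g hg hge using hfg
  choose d hdz hdu hdg using fun j => h.exists_lift_cent (hg j)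
  let A : Subgroup G := Q ⊓ R
  let φ : Fin 16 × Bool → A := fun p => ⟨(bif p.2 then z else 1) * (d p.1 * (c * u * c⁻¹) * (d p.1)⁻¹), by
    refine mul_mem ?_ ⟨(Subgroup.mem_normalizer_iff.1 (h.fst.ctx.norm _ (hdz p.1)) _).1 ha,
      (Subgroup.mem_normalizer_iff.1 (h.snd.ctx.norm _ (hdu p.1)) _).1 ha'⟩
    cases p.2
    · exact one_mem _
    · exact ⟨h.fst.ctx.mem, h.mem_snd⟩⟩
  have hφ : Function.Injective φ := by
    rintro ⟨j, b⟩ ⟨j', b'⟩ e
    have e' : (bif b then z else 1) * (d j * (c * u * c⁻¹) * (d j)⁻¹) =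
        (bif b' then z else 1) * (d j' * (c * u * c⁻¹) * (d j')⁻¹) := congrArg Subtype.val e
    have hr : ∀ j, d j * (c * u * c⁻¹) * (d j)⁻¹ = d j * c * u * (d j * c)⁻¹ := fun j => by group
    rw [hr, hr] at e'
    have hjj : j = j' := by
      refine hf ?_
      rw [← hge j, ← hge j', ← hdg j, ← hdg j']
      have hp := h.pi_unique ((hdz j).mul_left hc) ((hdz j').mul_left hc) (by
        cases b <;> cases b' <;> simp only [cond_true, cond_false, one_mul] at e'
        · exact Or.inl e'
        · exact Or.inr e'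
        · exact Or.inr (by rw [← e', ← mul_assoc, h.fst.ctx.sq_z, one_mul])
        · exact Or.inl (mul_left_cancel e'))
      rw [h.fst.mul _ _ (hdz j) hc, h.fst.mul _ _ (hdz j') hc] at hp
      calc π (d j) * (π c * π x' * (π c)⁻¹) * (π (d j))⁻¹ = π (d j) * π c * π x' * (π (d j) * π c)⁻¹ := by group
        _ = _ := hp
        _ = _ := by group
    subst hjj
    refine Prod.ext rfl ?_
    cases b <;> cases b' <;> first | rfl | (exfalso; simp only [cond_true, cond_false, one_mul] at e')
    · exact h.fst.ctx.ne_one (mul_eq_right.1 e'.symm)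
    · exact h.fst.ctx.ne_one (mul_eq_right.1 e')
  have h32 : Nat.card A ≤ 32 := h.fst.abelian_le inf_le_left fun p hp q hq => h.inter_commute hp.1 hp.2 hq.1 hq.2
  have hu : (⟨u, h.mem_fst, h.snd.ctx.mem⟩ : A) ∉ Set.range φ := by
    rintro ⟨⟨j, b⟩, e⟩
    have e' : (bif b then z else 1) * (d j * (c * u * c⁻¹) * (d j)⁻¹) = u := congrArg Subtype.val e
    have hz : d j * z * (d j)⁻¹ = z := mul_inv_eq_iff_eq_mul.2 (hdz j)
    have hu' : d j * u * (d j)⁻¹ = u := mul_inv_eq_iff_eq_mul.2 (hdu j)
    have e2 : (bif b then z else 1) * (c * u * c⁻¹) = u := by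
      have hw : Commute (d j) (bif b then z else 1) := by
        cases b
        exacts [Commute.one_right _, hdz j]
      calc (bif b then z else 1) * (c * u * c⁻¹) =
          (d j)⁻¹ * (d j * (bif b then z else 1)) * (c * u * c⁻¹) := by group
        _ = (d j)⁻¹ * ((bif b then z else 1) * (d j * (c * u * c⁻¹) * (d j)⁻¹)) * d j := by rw [hw.eq]; group
        _ = (d j)⁻¹ * u * d j := by rw [e']
        _ = u := by rw [mul_assoc, ← (hdu j).eq, inv_mul_cancel_left]
    cases b <;> simp only [cond_true, cond_false, one_mul] at e2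
    · exact h3 e2
    · refine h4 ?_
      conv_rhs => rw [← e2]
      rw [← mul_assoc, h.fst.ctx.sq_z, one_mul]
  have hle : 32 < Nat.card A := by
    refine lt_of_lt_of_le ?_ le_rfl
    haveI : Fintype A := Fintype.ofFinite A
    rw [Nat.card_eq_fintype_card, show 32 = Fintype.card (Fin 16 × Bool) by simp]
    exact Fintype.card_lt_of_injective_of_notMem φ hφ hu
  omega

/-- A common element outside the four group is moved by both fixed elements. -/
theorem inter_moved {a : G} (ha : a ∈ Q) (ha' : a ∈ R) (hn : ¬ (a = 1 ∨ a = z ∨ a = u ∨ a = z * u)) :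
    x * a * x⁻¹ = z * a ∧ x' * a * x'⁻¹ = u * a := by
  refine ⟨(h.fst.ctx.conj_cases h.fst.mem ha).resolve_left fun e =>
      hn (h.inter_small ha ha' (Commute.symm (mul_inv_eq_iff_eq_mul.1 e))),
    (h.snd.ctx.conj_cases h.snd.mem ha').resolve_left fun e => hn (h.four_swap ?_)⟩
  exact h.symm.inter_small ha' ha (Commute.symm (mul_inv_eq_iff_eq_mul.1 e))

theorem inter_four {a : G} (ha : a ∈ Q) (ha' : a ∈ R) : a = 1 ∨ a = z ∨ a = u ∨ a = z * u := by
  by_contra hn
  obtain ⟨hxa, hx'a⟩ := h.inter_moved ha ha' hn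
  -- the part of `u` in the image of `a`
  let P : G → G → Prop := fun c e => (e = 1 ∨ e = z ∨ e = u ∨ e = z * u) ∧ c * a * c⁻¹ = e * a
  have hex : ∀ c, Commute c z → Commute c u → ∃ e, P c e := by
    intro c hcz hcu
    have h1 : c * a * c⁻¹ ∈ Q := (Subgroup.mem_normalizer_iff.1 (h.fst.ctx.norm _ hcz) a).1 ha
    have h2 : c * a * c⁻¹ ∈ R := (Subgroup.mem_normalizer_iff.1 (h.snd.ctx.norm _ hcu) a).1 ha'
    refine ⟨c * a * c⁻¹ * a⁻¹, h.inter_small (mul_mem h1 (inv_mem ha)) (mul_mem h2 (inv_mem ha'))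
      (Commute.symm (mul_inv_eq_iff_eq_mul.1 ?_)), by group⟩
    have hn' : ¬ (c * a * c⁻¹ = 1 ∨ c * a * c⁻¹ = z ∨ c * a * c⁻¹ = u ∨ c * a * c⁻¹ = z * u) := by
      have back : ∀ v, c * v * c⁻¹ = v → c * a * c⁻¹ = v → a = v := fun v hv e =>
        mul_left_cancel (mul_right_cancel (e.trans hv.symm))
      have hz := mul_inv_eq_iff_eq_mul.2 hcz
      have hu := mul_inv_eq_iff_eq_mul.2 hcu
      rintro (e | e | e | e)
      · exact hn (Or.inl (back 1 (by group) e))
      · exact hn (Or.inr (Or.inl (back z hz e)))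
      · exact hn (Or.inr (Or.inr (Or.inl (back u hu e))))
      · exact hn (Or.inr (Or.inr (Or.inr (back _ (by rw [← conj_mul, hz, hu]) e))))
    have hca := (h.inter_moved h1 h2 hn').1
    calc x * (c * a * c⁻¹ * a⁻¹) * x⁻¹ = x * (c * a * c⁻¹) * x⁻¹ * (x * a * x⁻¹)⁻¹ := by group
      _ = z * (c * a * c⁻¹) * (a⁻¹ * z⁻¹) := by rw [hca, hxa, mul_inv_rev]
      _ = _ := by
        rw [h.fst.ctx.inv_z, mul_assoc z, ← mul_assoc (c * a * c⁻¹) a⁻¹ z,
          ← (h.fst.ctx.central _ (mul_mem h1 (inv_mem ha))).eq, ← mul_assoc z z, h.fst.ctx.sq_z, one_mul]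
  obtain ⟨hR2, -, -⟩ := h.class_facts
  obtain ⟨g1, g2, hg1, hg2, hgg⟩ := prod_squares hR2
  obtain ⟨c1, hc1z, hc1u, e1⟩ := h.exists_lift_cent hg1
  obtain ⟨c2, hc2z, hc2u, e2⟩ := h.exists_lift_cent hg2
  have hsq : ∀ {c}, Commute c z → Commute c u → c * c * a * (c * c)⁻¹ = a := by
    intro c hcz hcu
    obtain ⟨e, hef, hce⟩ := hex c hcz hcu
    have he : Commute c e := by
      rcases hef with q | q | q | q <;> rw [q]
      exacts [Commute.one_right c, hcz, hcu, hcz.mul_right hcu]
    calc c * c * a * (c * c)⁻¹ = c * (c * a * c⁻¹) * c⁻¹ := by group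
      _ = c * (e * a) * c⁻¹ := by rw [hce]
      _ = c * e * c⁻¹ * (c * a * c⁻¹) := by group
      _ = e * e * a := by rw [he.eq, mul_inv_cancel_right, hce, mul_assoc]
      _ = a := by rw [h.inter_sq (h.four_mem hef).1 (h.four_mem hef).2, one_mul]
  set p := c1 * c1 * (c2 * c2) with hp
  have hpz : Commute p z := (hc1z.mul_left hc1z).mul_left (hc2z.mul_left hc2z)
  have hfixp : p * a * p⁻¹ = a := by
    calc p * a * p⁻¹ = c1 * c1 * (c2 * c2 * a * (c2 * c2)⁻¹) * (c1 * c1)⁻¹ := by rw [hp]; group
      _ = a := by rw [hsq hc2z hc2u, hsq hc1z hc1u]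
  have hπp : π p = π x' := by
    rw [hp, h.fst.mul _ _ (hc1z.mul_left hc1z) (hc2z.mul_left hc2z), h.fst.mul _ _ hc1z hc1z,
      h.fst.mul _ _ hc2z hc2z, e1, e2, hgg]
  have hq : p⁻¹ * x' ∈ Q := (h.fst.ker _ (hpz.inv_left.mul_left h.comm_snd)).1 (by
    rw [h.fst.mul _ _ hpz.inv_left h.comm_snd, h.fst.pi_inv hpz, hπp, inv_mul_cancel])
  have hfinal : x' * a * x'⁻¹ = a ∨ x' * a * x'⁻¹ = z * a := by
    have e : x' * a * x'⁻¹ = p * (p⁻¹ * x' * a * (p⁻¹ * x')⁻¹) * p⁻¹ := by group
    rcases h.fst.ctx.conj_cases hq ha with q | q <;> rw [q] at e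
    · exact Or.inl (e.trans hfixp)
    · right
      rw [e, ← conj_mul, mul_inv_eq_iff_eq_mul.2 hpz, hfixp]
  rw [hx'a] at hfinal
  rcases hfinal with e | e
  · exact h.snd.ctx.ne_one (mul_eq_right.1 e)
  · exact h.ne (mul_right_cancel e)

theorem false : False := by
  classical
  obtain ⟨y, hy, hyu⟩ := h.exists_move
  obtain ⟨m, hm, hmu, hmx⟩ : ∃ m ∈ Q, Commute m u ∧ ¬ Commute m x := by
    by_contra hcon
    push Not at hcon
    rcases h.fst.ctx.double_centralizer h.mem_fst h.snd.ctx.ne_one h.ne h.fst.mem h.comm_fst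
      fun p hp hpu => (hcon p hp hpu).symm with e | e | e | e
    · have := h.fst.sq; rw [e, mul_one] at this; exact h.fst.ctx.ne_one this.symm
    · have := h.fst.sq; rw [e, h.fst.ctx.sq_z] at this; exact h.fst.ctx.ne_one this.symm
    · have := h.fst.sq; rw [e, h.snd.ctx.sq_z] at this; exact h.fst.ctx.ne_one this.symm
    · have := h.fst.sq
      rw [e, mul_assoc z, ← mul_assoc u z, h.uz.eq, mul_assoc z u u, h.snd.ctx.sq_z, mul_one, h.fst.ctx.sq_z] at this
      exact h.fst.ctx.ne_one this.symm
  -- the images of `y`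
  let Y : Set G := {y' | y' ∈ Q ∧ y' * u * y'⁻¹ = z * u ∧ y' * y' = y * y ∧ (Commute y' x ↔ Commute y x)}
  have hnu : ∀ {v : G}, v * u * v⁻¹ = z * u → ¬ Commute v u := fun {v} e hv => by
    rw [hv.eq, mul_inv_cancel_right] at e
    exact h.fst.ctx.ne_one (mul_eq_right.1 e.symm)
  have hY : Y.ncard ≤ 64 := by
    let f : Y × (Bool × Bool × Bool) → Q := fun p => ⟨p.1.1 * (bif p.2.1 then u else 1) * (bif p.2.2.1 then m else 1) *
      (bif p.2.2.2 then y else 1), mul_mem (mul_mem (mul_mem p.1.2.1 (by cases p.2.1 <;> simp [h.mem_fst, one_mem]))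
        (by cases p.2.2.1 <;> simp [hm, one_mem])) (by cases p.2.2.2 <;> simp [hy, one_mem])⟩
    have hf : Function.Injective f := by
      rintro ⟨⟨v, hv⟩, b1, b2, b3⟩ ⟨⟨v', hv'⟩, c1, c2, c3⟩ e
      have e' : v * (bif b1 then u else 1) * (bif b2 then m else 1) * (bif b3 then y else 1) =
          v' * (bif c1 then u else 1) * (bif c2 then m else 1) * (bif c3 then y else 1) := congrArg Subtype.val e
      have hwu : ∀ {v : G} (a b : Bool), v * u * v⁻¹ = z * u →
          ¬ Commute (v * (bif a then u else 1) * (bif b then m else 1)) u := fun {v} a b hv hc => hnu hv (by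
        have h1 : Commute (bif b then m else 1) u := by
          cases b
          exacts [Commute.one_left u, hmu]
        have h2 : Commute (bif a then u else 1) u := by
          cases a
          exacts [Commute.one_left u, Commute.refl u]
        have := (hc.mul_left h1.inv_left).mul_left h2.inv_left
        simpa using this)
      have hin : ∀ {v : G} (a b : Bool), v ∈ Q → v * (bif a then u else 1) * (bif b then m else 1) ∈ Q :=
        fun {v} a b hv => mul_mem (mul_mem hv (by cases a <;> simp [h.mem_fst, one_mem]))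
          (by cases b <;> simp [hm, one_mem])
      have h3 : b3 = c3 := by
        cases b3 <;> cases c3 <;> first | rfl | (exfalso; simp only [cond_true, cond_false, mul_one] at e')
        · exact hwu b1 b2 hv.2.1 (e' ▸ h.fst.ctx.commute_mul_of_not (hin c1 c2 hv'.1) hy h.mem_fst
            (hwu c1 c2 hv'.2.1) (hnu hyu))
        · exact hwu c1 c2 hv'.2.1 (e'.symm ▸ h.fst.ctx.commute_mul_of_not (hin b1 b2 hv.1) hy h.mem_fst
            (hwu b1 b2 hv.2.1) (hnu hyu))
      subst h3
      replace e' := mul_right_cancel e'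
      have hxs : ∀ {v : G} (a : Bool), v ∈ Y → (Commute (v * (bif a then u else 1)) x ↔ Commute y x) :=
        fun {v} a hv => by
        cases a
        · rw [cond_false, mul_one]; exact hv.2.2.2
        · rw [cond_true, ← hv.2.2.2]
          exact ⟨fun hc => by simpa using hc.mul_left h.comm_fst.symm.inv_left, fun hc => hc.mul_left h.comm_fst.symm⟩
      have h2 : b2 = c2 := by
        have flip : ∀ {v v' : G} (a a' : Bool), v ∈ Y → v' ∈ Y →
            v * (bif a then u else 1) = v' * (bif a' then u else 1) * m → False := by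
          intro v v' a a' hv hv' e
          by_cases hyx : Commute y x
          · have h1 := (hxs a hv).2 hyx
            have h2 := (hxs a' hv').2 hyx
            rw [e] at h1
            exact hmx (by have := h2.inv_left.mul_left h1; rwa [inv_mul_cancel_left] at this)
          · have h1 := mt (hxs a hv).1 hyx
            have h2 := mt (hxs a' hv').1 hyx
            exact h1 (e ▸ h.fst.ctx.commute_mul_of_not (mul_mem hv'.1
              (by cases a' <;> simp [h.mem_fst, one_mem])) hm h.fst.mem h2 hmx)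
        cases b2 <;> cases c2 <;> first | rfl | (exfalso; simp only [cond_true, cond_false, mul_one] at e')
        · exact flip b1 c1 hv hv' e'
        · exact flip c1 b1 hv' hv e'.symm
      subst h2
      replace e' := mul_right_cancel e'
      have hsq : ∀ {v : G}, v ∈ Y → v * u * (v * u) = z * (y * y) := fun {v} hv => by
        have hvu : u * v = z * (v * u) := by
          have e1 : v * u = z * u * v := mul_inv_eq_iff_eq_mul.1 hv.2.1
          rw [e1, ← mul_assoc z, ← mul_assoc z z, h.fst.ctx.sq_z, one_mul]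
        calc v * u * (v * u) = v * (u * v) * u := by group
          _ = v * z * (v * u) * u := by rw [hvu]; group
          _ = z * (v * v) * (u * u) := by rw [(h.fst.ctx.central v hv.1).symm.eq]; group
          _ = _ := by rw [hv.2.2.1, h.snd.ctx.sq_z, mul_one]
      have h1 : b1 = c1 := by
        cases b1 <;> cases c1 <;> first | rfl | (exfalso; simp only [cond_true, cond_false, mul_one] at e')
        · have := hsq hv'
          rw [← e', hv.2.2.1] at this
          exact h.fst.ctx.ne_one (mul_eq_right.1 this.symm)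
        · have := hsq hv
          rw [e', hv'.2.2.1] at this
          exact h.fst.ctx.ne_one (mul_eq_right.1 this.symm)
      subst h1
      exact Prod.ext (Subtype.ext (mul_right_cancel e')) rfl
    have := Nat.card_le_card_of_injective f hf
    have hB : Nat.card (Bool × Bool × Bool) = 8 := by simp
    rw [Nat.card_prod, Nat.card_coe_set_eq, hB, h.fst.card] at this
    omega
  -- the part of `R` centralizing `z`
  let S : Subgroup G := R ⊓ Subgroup.centralizer ({z} : Set G)
  have hS : ∀ {r : G}, r ∈ S ↔ r ∈ R ∧ Commute r z := fun {r} => by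
    simp only [S, Subgroup.mem_inf, Subgroup.mem_centralizer_singleton_iff]; rfl
  have hSu : ∀ {s : G}, s ∈ S → Commute s u := fun hs => (h.snd.ctx.central _ (hS.1 hs).1).symm
  have hmap : ∀ s : S, (s : G) * y * (s : G)⁻¹ ∈ Y := fun s => by
    have hsz := (hS.1 s.2).2
    refine ⟨(Subgroup.mem_normalizer_iff.1 (h.fst.ctx.norm _ hsz) y).1 hy, ?_, ?_, ?_⟩
    · have hsu : (s : G) * u * (s : G)⁻¹ = u := mul_inv_eq_iff_eq_mul.2 (hSu s.2)
      calc (s : G) * y * (s : G)⁻¹ * u * ((s : G) * y * (s : G)⁻¹)⁻¹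
          = (s : G) * y * ((s : G)⁻¹ * u * (s : G)) * y⁻¹ * (s : G)⁻¹ := by group
        _ = (s : G) * (y * u * y⁻¹) * (s : G)⁻¹ := by
            rw [mul_assoc (s : G)⁻¹, ← (hSu s.2).eq, inv_mul_cancel_left]; group
        _ = _ := by rw [hyu, ← conj_mul, hsu, mul_inv_eq_iff_eq_mul.2 hsz]
    · rw [conj_mul]
      refine mul_inv_eq_iff_eq_mul.2 ?_
      rcases h.fst.ctx.sq y hy with e | e <;> rw [e]
      · simp
      · exact hsz.eq
    · have hsx : ∀ v ∈ Q, Commute v ((s : G) * x * (s : G)⁻¹) ↔ Commute v x := fun v hv => by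
        rcases h.fst.fix s hsz with e | e <;> rw [e]
        have hvz : Commute v z := (h.fst.ctx.central v hv).symm
        exact ⟨fun hc => by simpa using hvz.inv_right.mul_right hc, fun hc => hvz.mul_right hc⟩
      rw [← hsx _ ((Subgroup.mem_normalizer_iff.1 (h.fst.ctx.norm _ hsz) y).1 hy), Commute.conj_iff]
  have hS64 : Nat.card S ≤ 2 * 64 := by
    let F : S → Y := fun s => ⟨_, hmap s⟩
    haveI : Fintype S := Fintype.ofFinite S
    haveI : Fintype Y := Fintype.ofFinite Y
    have hle : Fintype.card S ≤ 2 * Fintype.card Y := by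
      refine Finset.card_le_mul_card_image_of_maps_to (f := F) (fun _ _ => Finset.mem_univ _) 2 fun v _ => ?_
      rcases (Finset.univ.filter fun a => F a = v).eq_empty_or_nonempty with e | ⟨s, hs⟩
      · simp [e]
      rw [Finset.mem_filter] at hs
      have hsub : (Finset.univ.filter fun b => F b = v).map ⟨Subtype.val, Subtype.val_injective⟩ ⊆
          ({(s : G), (s : G) * z} : Finset G) := by
        intro b hb
        obtain ⟨b', hb', rfl⟩ := Finset.mem_map.1 hb
        rw [Finset.mem_filter] at hb'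
        have he : (s : G) * y * (s : G)⁻¹ = (b' : G) * y * (b' : G)⁻¹ :=
          congrArg Subtype.val (hs.2.trans hb'.2.symm)
        set g := (s : G)⁻¹ * (b' : G) with hg
        have hgS : g ∈ S := mul_mem (inv_mem s.2) b'.2
        obtain ⟨hgR, hgz⟩ := hS.1 hgS
        have hgy : g * y * g⁻¹ = y := by
          calc g * y * g⁻¹ = (s : G)⁻¹ * ((b' : G) * y * (b' : G)⁻¹) * (s : G) := by rw [hg]; group
            _ = y := by rw [← he]; group
        have hgp : ∀ p ∈ Q, Commute p u → g * p * g⁻¹ = p ∨ g * p * g⁻¹ = z * p := by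
          intro p hp hpu
          have hgp' : g * p * g⁻¹ ∈ Q := (Subgroup.mem_normalizer_iff.1 (h.fst.ctx.norm g hgz) p).1 hp
          have hR' : g * p * g⁻¹ * p⁻¹ ∈ R := by
            rw [show g * p * g⁻¹ * p⁻¹ = g * (p * g⁻¹ * p⁻¹) by group]
            exact mul_mem hgR ((Subgroup.mem_normalizer_iff.1 (h.snd.ctx.norm p hpu) _).1 (inv_mem hgR))
          have hiff : Commute (g * p * g⁻¹) y ↔ Commute p y := by
            conv_lhs => rw [← hgy]
            exact Commute.conj_iff g
          have hbad : ∀ {e : G}, e = u ∨ e = z * u → g * p * g⁻¹ * p⁻¹ ≠ e := by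
            intro e he' hcon
            rw [mul_inv_eq_iff_eq_mul] at hcon
            rw [hcon] at hiff
            have hey : ¬ Commute e y := by
              rcases he' with rfl | rfl
              · exact fun hc => hnu hyu hc.symm
              · exact fun hc => hnu hyu (by
                  have := (h.fst.ctx.central y hy).symm.inv_right.mul_right hc.symm
                  rwa [inv_mul_cancel_left] at this)
            have heQ : e ∈ Q := by
              rcases he' with rfl | rfl
              exacts [h.mem_fst, mul_mem h.fst.ctx.mem h.mem_fst]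
            by_cases hpy : Commute p y
            · exact hey (by simpa using (hiff.2 hpy).mul_left hpy.inv_left)
            · exact hpy (hiff.1 (h.fst.ctx.commute_mul_of_not heQ hp hy hey hpy))
          rcases h.inter_four (mul_mem hgp' (inv_mem hp)) hR' with e | e | e | e
          · exact Or.inl (mul_inv_eq_one.1 e)
          · exact Or.inr (mul_inv_eq_iff_eq_mul.1 e)
          · exact absurd e (hbad (Or.inl rfl))
          · exact absurd e (hbad (Or.inr rfl))
        have hgQ : g ∈ Q := h.fst.mem_of_trivial hgz fun a ha => by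
          by_cases hau : Commute a u
          · exact hgp a ha hau
          · have h1 := hgp (a * y) (mul_mem ha hy) (h.fst.ctx.commute_mul_of_not ha hy h.mem_fst hau (hnu hyu))
            have e0 : g * (a * y) * g⁻¹ = g * a * g⁻¹ * y := by rw [← conj_mul, hgy]
            rw [e0, ← mul_assoc z] at h1
            exact h1.imp mul_right_cancel mul_right_cancel
        have hg4 := h.inter_four hgQ hgR
        have hb' : (b' : G) = (s : G) * g := by rw [hg]; group
        rw [Finset.mem_insert, Finset.mem_singleton]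
        show (b' : G) = s ∨ (b' : G) = (s : G) * z
        rcases hg4 with e | e | e | e
        · left; rw [hb', e, mul_one]
        · right; rw [hb', e]
        · exact absurd hgy (fun hh => hnu hyu (Commute.symm (by rw [e] at hh; exact mul_inv_eq_iff_eq_mul.1 hh)))
        · refine absurd hgy fun hh => hnu hyu (Commute.symm ?_)
          rw [e] at hh
          have := Commute.mul_left (h.fst.ctx.central y hy).inv_left (mul_inv_eq_iff_eq_mul.1 hh : Commute (z * u) y)
          simpa using this
      exact (Finset.card_map _).symm.le.trans ((Finset.card_le_card hsub).trans Finset.card_le_two)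
    have e1 : Fintype.card Y = Y.ncard := by rw [← Nat.card_eq_fintype_card, Nat.card_coe_set_eq]
    rw [Nat.card_eq_fintype_card]
    omega
  obtain ⟨r, hr, hrz⟩ := h.snd.ctx.exists_move h.mem_snd h.fst.ctx.ne_one h.ne.symm
  have hRS : Nat.card R ≤ 2 * Nat.card S := card_le_double inf_le_left hr fun p hp =>
    (h.snd.ctx.commute_or hr hrz hp h.mem_snd).imp (fun h' => hS.2 ⟨hp, h'⟩) fun h' => hS.2 ⟨mul_mem hr hp, h'⟩
  rw [h.snd.card] at hRS
  omega

end FixedPair

/-- The involution is not fused into `Q`. -/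
theorem Fixed.unf {π : G → SpGrp} (F : Fixed Q z x π) : Unf Q z := by
  refine ⟨F.ctx, fun k hk => ?_⟩
  by_contra hne
  have hx := F.commute_of_fused hk hne
  have hz : z ∈ Q.map (MulAut.conj k).toMonoidHom := F.ctx.mem_symm hk
  refine (FixedPair.false ⟨F, F.conj k, isConj_iff.2 ⟨k, rfl⟩, hk, hz, hne, hx, ?_⟩ : False)
  have hb : k⁻¹ * z * k⁻¹⁻¹ ∈ Q := by
    obtain ⟨b, hb, e⟩ := hz
    rw [← show k * b * k⁻¹ = z from e, show k⁻¹ * (k * b * k⁻¹) * k⁻¹⁻¹ = b by group]
    exact hb
  have hne' : k⁻¹ * z * k⁻¹⁻¹ ≠ z := fun e => hne (by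
    nth_rewrite 1 [← e]
    group)
  have := (Commute.conj_iff k).2 (F.commute_of_fused hb hne')
  rwa [show k * (k⁻¹ * z * k⁻¹⁻¹) * k⁻¹ = z by group] at this

end Cfsg.Lib.CoTwoType
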