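import Cfsg.Agent.Lib.CoTwoType.Fixed

/-!
# Two commuting fixed elements of order four

If the central involution had a conjugate in `Q`, the centralizer of that conjugate would map onto the
centralizer of a transvection, and the common part of the two extraspecial subgroups would be too small.
-/

set_option autoImplicit false
set_option linter.style.haveILetI false
set_option linter.unusedSectionVars false

namespace Cfsg.Lib.CoTwoType

open Cfsg Cfsg.Lib.Extra Cfsg.Lib.SpSix

/-- Two centres, each in the subgroup of the other. -/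
structure FixedPair {G : Type*} [Group G] (Q : Subgroup G) (z x : G) (π : G → SpGrp) (R : Subgroup G)
    (u x' : G) (π' : G → SpGrp) : Prop where
  fst : Fixed Q z x π
  snd : Fixed R u x' π'
  conj : IsConj z u
  mem_fst : u ∈ Q
  mem_snd : z ∈ R
  ne : u ≠ z
  comm_fst : Commute x u
  comm_snd : Commute x' z

variable {G : Type*} [Group G] [Finite G] {Q R : Subgroup G} {z x u x' : G} {π π' : G → SpGrp}

namespace FixedPair

variable (h : FixedPair Q z x π R u x' π')
include h

theorem symm : FixedPair R u x' π' Q z x π :=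
  ⟨h.snd, h.fst, h.conj.symm, h.mem_snd, h.mem_fst, h.ne.symm, h.comm_snd, h.comm_fst⟩

theorem uz : Commute u z := (h.fst.ctx.central u h.mem_fst).symm

theorem x'_notMem : x' ∉ Q := fun hm => by
  rcases h.fst.ctx.sq x' hm with e | e <;> rw [h.snd.sq] at e
  exacts [h.snd.ctx.ne_one e, h.ne e]

theorem i_sq : π x' * π x' = 1 := by
  rw [← h.fst.mul _ _ h.comm_snd h.comm_snd, h.snd.sq, h.fst.pi_Q h.mem_fst]

theorem i_ne : π x' ≠ 1 := fun e => h.x'_notMem ((h.fst.ker x' h.comm_snd).1 e)

theorem pi_commute {c : G} (hcz : Commute c z) (hcu : Commute c u) : Commute (π c) (π x') := by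
  have e : π (c * x' * c⁻¹) = π x' := by
    rcases h.snd.fix c hcu with e | e <;> rw [e]
    rw [h.fst.mul u x' h.uz h.comm_snd, h.fst.pi_Q h.mem_fst, one_mul]
  rw [h.fst.pi_conj hcz h.comm_snd] at e
  exact mul_inv_eq_iff_eq_mul.1 e

theorem exists_move : ∃ y ∈ Q, y * u * y⁻¹ = z * u :=
  h.fst.ctx.exists_move h.mem_fst h.snd.ctx.ne_one h.ne

/-- The involutions of `Q` commuting with `x`, other than those of the centre. -/
def Inv (_h : FixedPair Q z x π R u x' π') : Set G :=
  {a | a ∈ Q ∧ Commute a x ∧ a * a = 1 ∧ a ≠ 1 ∧ a ≠ z}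

theorem ncard_inv : h.Inv.ncard ≤ 126 := by
  classical
  obtain ⟨m, hm, hmx⟩ := h.fst.ctx.exists_move h.fst.mem (fun e => by
    have := h.fst.sq; rw [e, mul_one] at this; exact h.fst.ctx.ne_one this.symm)
    (fun e => by
      have := h.fst.sq; rw [e, h.fst.ctx.sq_z] at this; exact h.fst.ctx.ne_one this.symm)
  have hmx' : ¬ Commute m x := fun hc => h.fst.ctx.ne_one (by
    rw [hc.eq, mul_inv_cancel_right] at hmx
    exact mul_eq_right.1 hmx.symm)
  let T : Set G := h.Inv ∪ {1, z}
  have hT : ∀ a ∈ T, a ∈ Q ∧ Commute a x ∧ a * a = 1 := by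
    rintro a (ha | rfl | rfl)
    · exact ⟨ha.1, ha.2.1, ha.2.2.1⟩
    · exact ⟨one_mem _, Commute.one_left x, one_mul 1⟩
    · exact ⟨h.fst.ctx.mem, h.fst.ctx.central x h.fst.mem, h.fst.ctx.sq_z⟩
  let f : T × Bool × Bool → Q := fun p =>
    ⟨(bif p.2.1 then m else 1) * ((bif p.2.2 then x else 1) * p.1.1), mul_mem
      (by cases p.2.1 <;> simp [hm, one_mem]) (mul_mem (by cases p.2.2 <;> simp [h.fst.mem, one_mem]) (hT _ p.1.2).1)⟩
  have hf : Function.Injective f := by
    rintro ⟨⟨a, ha⟩, b, c⟩ ⟨⟨a', ha'⟩, b', c'⟩ e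
    have e' : (bif b then m else 1) * ((bif c then x else 1) * a) =
        (bif b' then m else 1) * ((bif c' then x else 1) * a') := congrArg Subtype.val e
    obtain ⟨-, hax, ha2⟩ := hT a ha
    obtain ⟨-, hax', ha2'⟩ := hT a' ha'
    have hcx : ∀ (d : Bool) {v : G}, Commute v x → Commute ((bif d then x else 1) * v) x := fun d v hv => by
      cases d
      · simpa using hv
      · exact (Commute.refl x).mul_left hv
    have hb : b = b' := by
      cases b <;> cases b' <;> first | rfl | (exfalso; simp only [cond_true, cond_false, one_mul] at e')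
      · refine hmx' ?_
        rw [← mul_inv_eq_iff_eq_mul.2 e']
        exact (hcx c hax).mul_left (hcx c' hax').inv_left
      · refine hmx' ?_
        rw [← mul_inv_eq_iff_eq_mul.2 e'.symm]
        exact (hcx c' hax').mul_left (hcx c hax).inv_left
    subst hb
    have e2 := mul_left_cancel e'
    have hsq : ∀ (d : Bool) {v : G}, Commute v x → v * v = 1 →
        (bif d then x else 1) * v * ((bif d then x else 1) * v) = bif d then z else 1 := fun d v hv hv2 => by
      cases d
      · simpa using hv2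
      · simp only [cond_true]
        rw [mul_assoc, ← mul_assoc v x v, hv.eq, mul_assoc x v v, hv2, mul_one, h.fst.sq]
    have hc : c = c' := by
      have e3 := hsq c hax ha2
      rw [e2, hsq c' hax' ha2'] at e3
      cases c <;> cases c' <;> first | rfl | exact absurd e3 h.fst.ctx.ne_one | exact absurd e3.symm h.fst.ctx.ne_one
    subst hc
    simp only [Prod.mk.injEq, Subtype.mk.injEq, and_true]
    exact mul_left_cancel e2
  have := Nat.card_le_card_of_injective f hf
  simp only [Nat.card_prod, Nat.card_coe_set_eq, h.fst.card] at this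
  have hdis : Disjoint h.Inv {1, z} := Set.disjoint_left.2 fun a ha => by
    rintro (rfl | rfl)
    exacts [ha.2.2.2.1 rfl, ha.2.2.2.2 rfl]
  rw [show T.ncard = h.Inv.ncard + 2 by
    rw [Set.ncard_union_eq hdis (Set.toFinite _) (Set.toFinite _), Set.ncard_pair h.fst.ctx.ne_one.symm]] at this
  simp only [Nat.card_eq_fintype_card, Fintype.card_bool] at this
  omega

theorem conj_mem_inv {c : G} (hc : Commute c z) : c * u * c⁻¹ ∈ h.Inv := by
  have hcz : c * z * c⁻¹ = z := mul_inv_eq_iff_eq_mul.2 hc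
  refine ⟨(Subgroup.mem_normalizer_iff.1 (h.fst.ctx.norm c hc) u).1 h.mem_fst, ?_, ?_, ?_, fun e => ?_⟩
  · have h1 : Commute (c * u * c⁻¹) (c * x * c⁻¹) := (Commute.conj_iff c).2 h.comm_fst.symm
    rcases h.fst.fix c hc with e | e <;> rw [e] at h1
    · exact h1
    · have hz : Commute z (c * u * c⁻¹) := by
        have := (Commute.conj_iff c).2 h.uz.symm; rwa [hcz] at this
      have h2 := hz.symm.inv_right.mul_right h1
      simpa using h2
  · rw [conj_mul, h.snd.ctx.sq_z]; simp
  · exact fun e => h.snd.ctx.ne_one (conj_eq_one_iff.1 e)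
  · refine h.ne ?_
    calc u = c⁻¹ * (c * u * c⁻¹) * c := by group
      _ = z := by rw [e, mul_assoc, ← hc.eq, inv_mul_cancel_left]

/-- An element carrying `u` up to the centre to a place determines the image of `x'`. -/
theorem pi_unique {c d : G} (hc : Commute c z) (hd : Commute d z)
    (e : c * u * c⁻¹ = d * u * d⁻¹ ∨ c * u * c⁻¹ = z * (d * u * d⁻¹)) :
    π c * π x' * (π c)⁻¹ = π d * π x' * (π d)⁻¹ := by
  obtain ⟨y, hy, hyu⟩ := h.exists_move
  have hyz : Commute y z := (h.fst.ctx.central y hy).symm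
  have key : ∀ {c : G}, Commute c z → c * u * c⁻¹ = d * u * d⁻¹ →
      π c * π x' * (π c)⁻¹ = π d * π x' * (π d)⁻¹ := by
    intro c hc e
    have h1 : Commute (d⁻¹ * c) u := mul_inv_eq_iff_eq_mul.1 (by
      calc d⁻¹ * c * u * (d⁻¹ * c)⁻¹ = d⁻¹ * (c * u * c⁻¹) * d := by group
        _ = u := by rw [e]; group)
    have h2 := h.pi_commute (hd.inv_left.mul_left hc) h1
    rw [h.fst.mul _ _ hd.inv_left hc, h.fst.pi_inv hd] at h2
    calc π c * π x' * (π c)⁻¹ = π d * (((π d)⁻¹ * π c) * π x' * ((π d)⁻¹ * π c)⁻¹) * (π d)⁻¹ := by group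
      _ = _ := by rw [h2.eq, mul_inv_cancel_right]
  rcases e with e | e
  · exact key hc e
  · have h1 : c * y * u * (c * y)⁻¹ = d * u * d⁻¹ := by
      calc c * y * u * (c * y)⁻¹ = c * (y * u * y⁻¹) * c⁻¹ := by group
        _ = c * z * c⁻¹ * (c * u * c⁻¹) := by rw [hyu]; group
        _ = _ := by rw [mul_inv_eq_iff_eq_mul.2 hc, e, ← mul_assoc, h.fst.ctx.sq_z, one_mul]
    have h2 := key (hc.mul_left hyz) h1
    rwa [h.fst.mul _ _ hc hyz, h.fst.pi_Q hy, mul_one] at h2

theorem class_facts : IsConj (Cfsg.Lib.CoThreeM12.SpCtl.R 2) (π x') ∧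
    (∀ a ∈ h.Inv, ∃ c, Commute c z ∧ c * u * c⁻¹ = a) ∧
    ∀ c, Commute c z → Commute (π c) (π x') → c * u * c⁻¹ = u ∨ c * u * c⁻¹ = z * u := by
  classical
  haveI : Finite SpGrp := spGrp_finite
  have hch : ∀ w : {w : SpGrp // IsConj (π x') w}, ∃ c, Commute c z ∧ π c * π x' * (π c)⁻¹ = w.1 := fun w => by
    obtain ⟨g, hg⟩ := isConj_iff.1 w.2
    obtain ⟨c, hc, e⟩ := h.fst.surj g
    exact ⟨c, hc, by rw [e, hg]⟩
  choose c hc hcw using hch
  obtain ⟨y, hy, hyu⟩ := h.exists_move
  have hyz : Commute y z := (h.fst.ctx.central y hy).symm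
  let f : {w : SpGrp // IsConj (π x') w} × Bool → h.Inv := fun p =>
    ⟨c p.1 * (bif p.2 then y else 1) * u * (c p.1 * (bif p.2 then y else 1))⁻¹,
      h.conj_mem_inv ((hc p.1).mul_left (by cases p.2 <;> simp [hyz, Commute.one_left]))⟩
  have hzu : z * u ≠ u := fun e => h.fst.ctx.ne_one (mul_eq_right.1 e)
  have hflip : ∀ {d : G}, Commute d z → d * (z * u) * d⁻¹ = z * (d * u * d⁻¹) := fun {d} hd => by
    calc d * (z * u) * d⁻¹ = d * z * d⁻¹ * (d * u * d⁻¹) := by group
      _ = _ := by rw [mul_inv_eq_iff_eq_mul.2 hd]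
  have hval : ∀ p, (f p : G) = bif p.2 then z * (c p.1 * u * (c p.1)⁻¹) else c p.1 * u * (c p.1)⁻¹ := by
    rintro ⟨w, b⟩
    cases b
    · simp [f]
    · show c w * y * u * (c w * y)⁻¹ = _
      rw [cond_true, ← hflip (hc w), ← hyu]
      group
  have hf : Function.Injective f := by
    rintro ⟨w, b⟩ ⟨w', b'⟩ e
    have e' := congrArg Subtype.val e
    rw [hval, hval] at e'
    have hw : w = w' := by
      refine Subtype.ext ?_
      rw [← hcw w, ← hcw w']
      refine h.pi_unique (hc w) (hc w') ?_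
      cases b <;> cases b' <;> simp only [cond_true, cond_false] at e'
      · exact Or.inl e'
      · exact Or.inr e'
      · exact Or.inr (by rw [← e', ← mul_assoc, h.fst.ctx.sq_z, one_mul])
      · exact Or.inl (mul_left_cancel e')
    subst hw
    refine Prod.ext rfl ?_
    cases b <;> cases b' <;> first | rfl | (exfalso; simp only [cond_true, cond_false] at e')
    · exact hzu (by
        have := e'.symm
        rw [← hflip (hc w)] at this
        exact mul_left_cancel (mul_right_cancel this))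
    · exact hzu (by
        have := e'
        rw [← hflip (hc w)] at this
        exact mul_left_cancel (mul_right_cancel this))
  have hle := Nat.card_le_card_of_injective f hf
  have hI := h.ncard_inv
  have hB : Nat.card Bool = 2 := by simp
  rw [Nat.card_prod, Nat.card_coe_set_eq, hB] at hle
  obtain ⟨hR2, h63⟩ := conj_of_small h.i_sq h.i_ne (by omega)
  have hcard : Nat.card ({w : SpGrp // IsConj (π x') w} × Bool) = Nat.card h.Inv := by
    refine le_antisymm (Nat.card_le_card_of_injective f hf) ?_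
    rw [Nat.card_prod, Nat.card_coe_set_eq, h63, hB]
    omega
  have hsur := ((Nat.bijective_iff_injective_and_card f).2 ⟨hf, hcard⟩).2
  refine ⟨hR2, fun a ha => ?_, fun d hd hdi => ?_⟩
  · obtain ⟨p, hp⟩ := hsur ⟨a, ha⟩
    exact ⟨_, (hc p.1).mul_left (by cases p.2 <;> simp [hyz, Commute.one_left]), congrArg Subtype.val hp⟩
  set w₀ : {w : SpGrp // IsConj (π x') w} := ⟨π x', IsConj.refl _⟩
  have hplace : ∀ {d : G}, Commute d z → Commute (π d) (π x') →
      d * u * d⁻¹ = c w₀ * u * (c w₀)⁻¹ ∨ d * u * d⁻¹ = z * (c w₀ * u * (c w₀)⁻¹) := by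
    intro d hd hdi
    obtain ⟨⟨w, b⟩, hp⟩ := hsur ⟨_, h.conj_mem_inv hd⟩
    have e := congrArg Subtype.val hp
    rw [hval] at e
    replace e : (bif b then z * (c w * u * (c w)⁻¹) else c w * u * (c w)⁻¹) = d * u * d⁻¹ := e
    have hw : w = w₀ := by
      refine Subtype.ext ?_
      rw [← hcw w, ← h.pi_unique hd (hc w) (by cases b <;> simp only [cond_true, cond_false] at e <;> simp [e]),
        hdi.eq, mul_inv_cancel_right]
    subst hw
    cases b <;> simp only [cond_true, cond_false] at e <;> simp [e]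
  have h1 := hplace hd hdi
  have h2 := hplace (Commute.one_left z) (by rw [h.fst.pi_one]; exact Commute.one_left _)
  simp only [one_mul, inv_one, mul_one] at h2
  rcases h1 with e1 | e1 <;> rcases h2 with e2 | e2 <;> rw [e1]
  · exact Or.inl e2.symm
  · right
    nth_rewrite 2 [e2]
    rw [← mul_assoc, h.fst.ctx.sq_z, one_mul]
  · right; rw [← e2]
  · exact Or.inl e2.symm

/-- The centralizer of `u` maps onto that of the transvection. -/
theorem exists_lift_cent {g : SpGrp} (hg : Commute g (π x')) :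
    ∃ c, Commute c z ∧ Commute c u ∧ π c = g := by
  obtain ⟨c, hc, rfl⟩ := h.fst.surj g
  obtain ⟨y, hy, hyu⟩ := h.exists_move
  have hyz : Commute y z := (h.fst.ctx.central y hy).symm
  obtain ⟨-, -, hstab⟩ := h.class_facts
  rcases hstab c hc hg with h1 | h2
  · exact ⟨c, hc, mul_inv_eq_iff_eq_mul.1 h1, rfl⟩
  · refine ⟨c * y, hc.mul_left hyz, mul_inv_eq_iff_eq_mul.1 ?_, by rw [h.fst.mul c y hc hyz, h.fst.pi_Q hy, mul_one]⟩
    calc c * y * u * (c * y)⁻¹ = c * (y * u * y⁻¹) * c⁻¹ := by group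
      _ = c * z * c⁻¹ * (c * u * c⁻¹) := by rw [hyu]; group
      _ = u := by rw [mul_inv_eq_iff_eq_mul.2 hc, h2, ← mul_assoc, h.fst.ctx.sq_z, one_mul]

end FixedPair

end Cfsg.Lib.CoTwoType
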