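import Cfsg.Agent.Lib.CoTwoType.SpinMember
import Cfsg.Agent.Lib.Linear.OrthFixPoint
import Cfsg.Agent.Lib.Linear.OrthInvolutionClasses

/-!
# An involution with an element of order five in its centraliser is of three classes
-/

set_option autoImplicit false
set_option linter.style.haveILetI false
set_option maxRecDepth 100000

namespace Cfsg.Lib.CoTwoType

open Cfsg Module Cfsg.Lib.Linear Cfsg.Lib.Linear.Orth Cfsg.Lib.CoOneLocal Cfsg.Lib.Linear.OrthInvol
open Cfsg.Agent.S2166 (nil nil_apply nil_props)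
open scoped Matrix

/-- The range of `g - 1` on codes. -/
def movedSet (f : ℕ → ℕ) : List ℕ := ((List.range 256).map fun v => v ^^^ f v).dedup

theorem sub_eq_add8 (a b : V8) : a - b = a + b := funext fun i => CharTwo.sub_eq_add (a i) (b i)

theorem nil_vec {f : ℕ → ℕ} {g : ↥Iso8} (h : Tab f g.1) {v : ℕ} (hv : v < 256) :
    nil (toSp space8 g) (vec v) = vec (v ^^^ f v) := by
  rw [nil_apply, vec_xor]
  show g.1.val *ᵥ vec v - vec v = _
  rw [(h v hv).2, sub_eq_add8, add_comm]

theorem rk_eval {f : ℕ → ℕ} {g : ↥Iso8} (h : Tab f g.1) : 2 ^ rk space8 g = (movedSet f).length := by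
  classical
  have hr : Nat.card ↥(LinearMap.range (nil (toSp space8 g))) = 2 ^ rk space8 g := by
    rw [Module.natCard_eq_pow_finrank (K := ZMod 2), Nat.card_zmod]; rfl
  rw [← hr]
  have hbd : ∀ a ∈ movedSet f, a < 256 := by
    intro a ha
    simp only [movedSet, List.mem_dedup, List.mem_map, List.mem_range] at ha
    obtain ⟨v, hv, rfl⟩ := ha
    exact Nat.xor_lt_two_pow (n := 8) hv (h v hv).1
  have hset : (LinearMap.range (nil (toSp space8 g)) : Set V8) = ↑((movedSet f).map vec).toFinset := by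
    ext x
    simp only [SetLike.mem_coe, LinearMap.mem_range, List.coe_toFinset, Set.mem_setOf_eq, List.mem_map,
      movedSet, List.mem_dedup, List.mem_range]
    constructor
    · rintro ⟨w, rfl⟩
      obtain ⟨e, hlt⟩ := vec_cod w
      exact ⟨_, ⟨_, hlt, rfl⟩, by rw [← nil_vec h hlt, e]⟩
    · rintro ⟨_, ⟨v, hv, rfl⟩, rfl⟩
      exact ⟨_, nil_vec h hv⟩
  have hc : Nat.card ↥(LinearMap.range (nil (toSp space8 g))) = ((movedSet f).map vec).toFinset.card := by
    rw [← SetLike.coe_sort_coe, Nat.card_congr (Equiv.setCongr hset), Nat.card_coe_set_eq, Set.ncard_coe_finset]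
  rw [hc, List.toFinset_card_of_nodup, List.length_map]
  refine (List.nodup_dedup _).map_on fun a ha b hb e => vec_inj (hbd a ha) (hbd b hb) e

theorem alt_eval {f : ℕ → ℕ} {g : ↥Iso8} (h : Tab f g.1) :
    Alt space8 g ↔ ((List.range 256).all fun v => !bn v (v ^^^ f v)) = true := by
  simp only [List.all_eq_true, List.mem_range, Bool.not_eq_true']
  constructor
  · intro ha v hv
    have := ha (vec v)
    rw [nil_vec h hv, b_vec hv (Nat.xor_lt_two_pow (n := 8) hv (h v hv).1)] at this
    cases hb : bn v (v ^^^ f v)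
    · rfl
    · rw [hb] at this; simp at this
  · intro ha x
    obtain ⟨e, hlt⟩ := vec_cod x
    rw [← e, nil_vec h hlt, b_vec hlt (Nat.xor_lt_two_pow (n := 8) hlt (h _ hlt).1), ha _ hlt]
    rfl

theorem base_invariants :
    isoChk SpinCert.baseA = true ∧ isoChk SpinCert.baseC = true ∧ isoChk SpinCert.baseF = true ∧
    (movedSet (app SpinCert.baseA)).length = 2 ^ 2 ∧ (movedSet (app SpinCert.baseC)).length = 2 ^ 2 ∧
    (movedSet (app SpinCert.baseF)).length = 2 ^ 4 ∧
    ((List.range 256).all fun v => !bn v (v ^^^ app SpinCert.baseA v)) = true ∧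
    ((List.range 256).all fun v => !bn v (v ^^^ app SpinCert.baseC v)) = false ∧
    ((List.range 256).all fun v => !bn v (v ^^^ app SpinCert.baseF v)) = true := by decide +kernel

theorem base_invol :
    ([SpinCert.baseA, SpinCert.baseC, SpinCert.baseF].all fun c =>
      agree (fun v => app c (app c v)) id && !agree (app c) id) = true := by decide +kernel

theorem orderOf_two {G : Type*} [Group G] {g : G} (h : g * g = 1) (h' : g ≠ 1) : orderOf g = 2 :=
  orderOf_eq_prime (by rw [pow_two, h]) h'

theorem base_order {c : ℕ} (hc : c ∈ [SpinCert.baseA, SpinCert.baseC, SpinCert.baseF]) {g : ↥Iso8}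
    (h : Tab (app c) g.1) : orderOf g = 2 := by
  have h0 := base_invol
  rw [List.all_eq_true] at h0
  have h1 := h0 c hc
  simp only [Bool.and_eq_true, Bool.not_eq_true'] at h1
  refine orderOf_two (Subtype.ext ?_) fun e => ?_
  · exact (h.mul h).eq_of_agree Tab.one h1.1
  · have := h.agree_of_eq Tab.one (by rw [e]; rfl)
    rw [h1.2] at this
    simp at this

theorem five_mat : ∀ d : Fin 4, ∀ M : Matrix (Fin d.val) (Fin d.val) (ZMod 2), M * M * M * M * M = 1 → M = 1 := by
  decide +kernel

/-- A space of dimension at most three has no map of order five. -/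
theorem five_small {W : Type*} [AddCommGroup W] [Module (ZMod 2) W] [FiniteDimensional (ZMod 2) W]
    (hd : finrank (ZMod 2) W < 4) (T : W →ₗ[ZMod 2] W) (h : ∀ w, T (T (T (T (T w)))) = w) : ∀ w, T w = w := by
  let b := Module.finBasis (ZMod 2) W
  have h5 : T ∘ₗ T ∘ₗ T ∘ₗ T ∘ₗ T = LinearMap.id := LinearMap.ext h
  have := five_mat ⟨_, hd⟩ (LinearMap.toMatrix b b T) (by
    have h6 := congrArg (LinearMap.toMatrix b b) h5
    rw [LinearMap.toMatrix_comp b b b, LinearMap.toMatrix_comp b b b, LinearMap.toMatrix_comp b b b,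
      LinearMap.toMatrix_comp b b b, LinearMap.toMatrix_id] at h6
    simpa [mul_assoc] using h6)
  intro w
  rw [← LinearMap.toMatrix_id b] at this
  rw [(LinearMap.toMatrix b b).injective this, LinearMap.id_apply]

/-- A map of order five that moves a fixed difference moves nothing. -/
theorem five_step (c : GL I8 (ZMod 2)) (h5 : c ^ 5 = 1) {v d : V8} (hd : c.val *ᵥ d = d)
    (hv : c.val *ᵥ v = v + d) : d = 0 := by
  have e : (c ^ 5).val *ᵥ v = v := by rw [h5, Units.val_one, Matrix.one_mulVec]
  simp only [pow_succ, pow_zero, one_mul, mul_act, hv, Matrix.mulVec_add, hd] at e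
  funext i
  have h1 := congrFun e i
  simp only [Pi.add_apply] at h1
  show d i = 0
  linear_combination h1 - 2 * d i * two8

/-- The values of a symmetric map against the form give a linear function in characteristic two. -/
theorem exists_diag (n : V8 →ₗ[ZMod 2] V8) (hns : ∀ u v, B8 (n u) v = B8 u (n v)) :
    ∃ f : V8 →ₗ[ZMod 2] ZMod 2, ∀ v, f v = B8 v (n v) := by
  refine ⟨{ toFun := fun v => B8 v (n v), map_add' := fun a b => ?_, map_smul' := fun r a => ?_ }, fun v => ?_⟩
  · have e : B8 b (n a) = B8 a (n b) := (space8.symm _ _).trans (hns a b)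
    simp only [map_add, LinearMap.add_apply]
    linear_combination e + B8 a (n b) * two8
  · simp only [map_smul, LinearMap.smul_apply, smul_eq_mul, RingHom.id_apply]
    rcases (by decide : ∀ a : ZMod 2, a = 0 ∨ a = 1) r with rfl | rfl <;> simp
  · simp only [LinearMap.coe_mk, AddHom.coe_mk]

set_option maxHeartbeats 1000000 in
/-- The centraliser of an involution of the last class has no element of order five. -/
theorem no_five {y c : ↥Iso8} (hy : orderOf y = 2) (hr : rk space8 y = 4) (hna : ¬ Alt space8 y)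
    (hcy : Commute c y) (h5 : c ^ 5 = 1) : c = 1 := by
  classical
  set n := nil (toSp space8 y) with hn
  obtain ⟨hn2, hns⟩ := nil_props (toSp space8 y) (toSp_sq space8 hy)
  set R := LinearMap.range n with hR
  have hker : LinearMap.ker n = R := by
    refine (Submodule.eq_of_le_of_finrank_eq ?_ ?_).symm
    · rintro _ ⟨x, rfl⟩; exact hn2 x
    · have h := LinearMap.finrank_range_add_finrank_ker n
      rw [finrank_fintype_fun_eq_card, show Fintype.card I8 = 8 from rfl] at h
      have hr' : finrank (ZMod 2) R = 4 := hr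
      rw [← hR] at h
      omega
  have hc5 : (c.1) ^ 5 = 1 := by
    have := congrArg Subtype.val h5
    simpa using this
  have hcn : ∀ x, c.1.val *ᵥ n x = n (c.1.val *ᵥ x) := fun x => by
    simp only [hn, nil_apply]
    show c.1.val *ᵥ (y.1.val *ᵥ x - x) = y.1.val *ᵥ (c.1.val *ᵥ x) - c.1.val *ᵥ x
    rw [Matrix.mulVec_sub, ← mul_act, ← mul_act, show c.1 * y.1 = y.1 * c.1 from congrArg Subtype.val hcy.eq]
  obtain ⟨f, hf⟩ := exists_diag n hns
  have hfc : ∀ v, f (c.1.val *ᵥ v) = f v := fun v => by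
    rw [hf, hf, ← hcn, space8.B_act c.2]
  have hfk : ∀ x, n x = 0 → f x = 0 := fun x hx => by rw [hf, hx, map_zero]
  obtain ⟨v₀, hv₀⟩ : ∃ v, f v = 1 := by
    by_contra hne
    push_neg at hne
    exact hna fun v => (hf v).symm.trans (((by decide : ∀ a : ZMod 2, a = 0 ∨ a = 1) (f v)).resolve_right (hne v))
  set K := Submodule.map n (LinearMap.ker f) with hK
  have hKc : ∀ w ∈ K, c.1.val *ᵥ w ∈ K := by
    rintro _ ⟨x, hx, rfl⟩
    exact ⟨c.1.val *ᵥ x, LinearMap.mem_ker.2 ((hfc x).trans (LinearMap.mem_ker.1 hx)), (hcn x).symm⟩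
  have hKd : finrank (ZMod 2) K < 4 := by
    have hlt : K < R := by
      refine lt_of_le_of_ne LinearMap.map_le_range fun e => ?_
      obtain ⟨x, hx, hxe⟩ := (e.symm ▸ (⟨v₀, rfl⟩ : n v₀ ∈ R) : n v₀ ∈ K)
      have h1 := hfk (v₀ - x) (by rw [map_sub, hxe, sub_self])
      rw [map_sub, LinearMap.mem_ker.1 hx, sub_zero, hv₀] at h1
      exact one_ne_zero h1
    have := Submodule.finrank_lt_finrank_of_lt hlt
    rwa [show finrank (ZMod 2) R = 4 from hr] at this
  have hKfix : ∀ w ∈ K, c.1.val *ᵥ w = w := by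
    intro w hw
    have h := five_small hKd ((Matrix.mulVecLin c.1.val).restrict hKc) (fun u => Subtype.ext (by
      have e : ((c.1) ^ 5).val *ᵥ u.1 = u.1 := by rw [hc5, Units.val_one, Matrix.one_mulVec]
      simp only [pow_succ, pow_zero, one_mul, mul_act] at e
      exact e)) ⟨w, hw⟩
    exact congrArg Subtype.val h
  have hRfix : ∀ x, c.1.val *ᵥ n x = n x := by
    intro x
    have hmem : n (c.1.val *ᵥ x + x) ∈ K := Submodule.mem_map_of_mem (LinearMap.mem_ker.2 (by
      rw [map_add, hfc]; linear_combination f x * two8))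
    have e : c.1.val *ᵥ n x = n x + n (c.1.val *ᵥ x + x) := by
      rw [hcn, map_add]
      funext i
      simp only [Pi.add_apply]
      linear_combination -(n x i) * two8
    rw [e, five_step c.1 hc5 (hKfix _ hmem) e, add_zero]
  refine Subtype.ext (gl_ext fun x => ?_)
  have hd : c.1.val *ᵥ x + x ∈ R := by
    rw [← hker, LinearMap.mem_ker, map_add, ← hcn, hRfix]
    funext i
    simp only [Pi.add_apply, Pi.zero_apply]
    linear_combination n x i * two8
  obtain ⟨w, hw⟩ := hd
  have e : c.1.val *ᵥ x = x + n w := by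
    rw [hw]
    funext i
    simp only [Pi.add_apply]
    linear_combination -(x i) * two8
  rw [e, five_step c.1 hc5 (hRfix w) e, add_zero]
  simp

theorem exists_base {c : ℕ} (hc : c ∈ [SpinCert.baseA, SpinCert.baseC, SpinCert.baseF]) :
    ∃ g : ↥Iso8, Tab (app c) g.1 ∧ orderOf g = 2 := by
  obtain ⟨hA, hC, hF, -⟩ := base_invariants
  have hiso : isoChk c = true := by
    simp only [List.mem_cons, List.not_mem_nil, or_false] at hc
    rcases hc with rfl | rfl | rfl <;> assumption
  obtain ⟨g, hg, hT⟩ := exists_iso hiso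
  exact ⟨⟨g, hg⟩, hT, base_order hc hT⟩

/-- The three classes. -/
theorem class_cases {y c : GL I8 (ZMod 2)} (hy : y ∈ Geo.omegaGL q8) (hy2 : y * y = 1) (hy1 : y ≠ 1)
    (hc : c ∈ Iso8) (hcy : Commute c y) (h5 : c ^ 5 = 1) (hc1 : c ≠ 1) :
    ∃ b ∈ [SpinCert.baseA, SpinCert.baseC, SpinCert.baseF], ∃ g ∈ Iso8, Tab (app b) (g * y * g⁻¹) := by
  have hyi : y ∈ Iso8 := omegaGL_le_iso hy
  set Y : ↥Iso8 := ⟨y, hyi⟩ with hY
  have hord : orderOf Y = 2 :=
    orderOf_two (Subtype.ext hy2) fun e => hy1 (congrArg Subtype.val e)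
  obtain ⟨hn2, -⟩ := nil_props (toSp space8 Y) (toSp_sq space8 hord)
  have hsum := LinearMap.finrank_range_add_finrank_ker (nil (toSp space8 Y))
  rw [finrank_fintype_fun_eq_card, show Fintype.card I8 = 8 from rfl] at hsum
  have hle : rk space8 Y ≤ 4 := by
    have h1 : LinearMap.range (nil (toSp space8 Y)) ≤ LinearMap.ker (nil (toSp space8 Y)) := by
      rintro _ ⟨x, rfl⟩; exact hn2 x
    have := Submodule.finrank_mono h1
    show finrank _ _ ≤ 4
    omega
  have hkf : LinearMap.ker (nil (toSp space8 Y)) = fixSpace y := by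
    ext x
    rw [LinearMap.mem_ker, nil_apply, mem_fixSpace, sub_eq_zero]
    rfl
  have heven := (mem_omegaGL_iff_even space8 two8 (by decide) (by decide) small8 hyi).1 hy
  have h8 : finrank (ZMod 2) ↥(LinearMap.range (nil (toSp space8 Y))) + finrank (ZMod 2) ↥(fixSpace y) = 8 := by
    rw [← hkf]; exact hsum
  have hne : rk space8 Y ≠ 0 := fun e => hy1 (gl_ext fun x => by
    have hb : LinearMap.range (nil (toSp space8 Y)) = ⊥ := Submodule.finrank_eq_zero.1 e
    have := LinearMap.congr_fun (LinearMap.range_eq_bot.1 hb) x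
    rw [nil_apply, LinearMap.zero_apply, sub_eq_zero] at this
    exact (show y.val *ᵥ x = x from this).trans (by simp))
  have hrk : rk space8 Y = 2 ∨ rk space8 Y = 4 := by
    obtain ⟨k, hk⟩ := heven
    replace h8 : rk space8 Y + finrank (ZMod 2) ↥(fixSpace y) = 8 := h8
    have : finrank (ZMod 2) ↥(LinearMap.range (nil (toSp space8 Y))) = rk space8 Y := rfl
    omega
  obtain ⟨-, -, -, a2, c2, f4, aA, cA, fA⟩ := base_invariants
  have key : ∀ b ∈ [SpinCert.baseA, SpinCert.baseC, SpinCert.baseF],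
      (movedSet (app b)).length = 2 ^ rk space8 Y →
      ((((List.range 256).all fun v => !bn v (v ^^^ app b v)) = true) ↔ Alt space8 Y) →
      ∃ g ∈ Iso8, Tab (app b) (g * y * g⁻¹) := by
    intro b hb h1 h2
    obtain ⟨Z, hZ, hZ2⟩ := exists_base hb
    have hconj : IsConj Y Z := (isConj_iff_invariants space8 (k := 3) rfl hord hZ2).2
      ⟨Nat.pow_right_injective le_rfl (show 2 ^ rk space8 Y = 2 ^ rk space8 Z by rw [rk_eval hZ, h1]),
        by rw [alt_eval hZ, h2]⟩
    obtain ⟨g, hg⟩ := isConj_iff.1 hconj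
    refine ⟨g.1, g.2, ?_⟩
    have := congrArg Subtype.val hg
    simp only [Subgroup.coe_mul, Subgroup.coe_inv, hY] at this
    rw [this]; exact hZ
  by_cases ha : Alt space8 Y
  · rcases hrk with h | h
    · exact ⟨_, by simp, key SpinCert.baseA (by simp) (by rw [a2, h]) (by simp [aA, ha])⟩
    · exact ⟨_, by simp, key SpinCert.baseF (by simp) (by rw [f4, h]) (by simp [fA, ha])⟩
  · rcases hrk with h | h
    · exact ⟨_, by simp, key SpinCert.baseC (by simp) (by rw [c2, h]) (by simp [cA, ha])⟩
    · exfalso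
      refine hc1 ?_
      have := no_five (c := ⟨c, hc⟩) hord h ha (Subtype.ext hcy.eq) (Subtype.ext (by simpa using h5))
      exact congrArg Subtype.val this

end Cfsg.Lib.CoTwoType
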