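import Cfsg.Agent.Lib.CoTwoType.NilSeven
import Cfsg.Agent.Lib.CoTwoType.SpinSp
import Cfsg.Agent.Lib.CoTwoType.SpinClasses
import Cfsg.Agent.Lib.SpSix.Unique
import Cfsg.Agent.Lib.Linear.OrthFixPoint

/-!
# `Sp6(2)` in an orthogonal group of dimension eight without a totally singular four space

It fixes a nonsingular vector.
-/

set_option autoImplicit false
set_option linter.unusedSectionVars false
set_option linter.style.haveILetI false

namespace Cfsg.Lib.CoTwoType

open Cfsg Module Cfsg.Lib.Linear Cfsg.Lib.Linear.Orth Cfsg.Lib.SpSix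
open scoped Matrix

variable {ι : Type} [Fintype ι] [DecidableEq ι] {q : (ι → ZMod 2) → ZMod 2}
  {B : LinearMap.BilinForm (ZMod 2) (ι → ZMod 2)}

/-- The map `g + 1`. -/
def nilOf (g : GL ι (ZMod 2)) : (ι → ZMod 2) →ₗ[ZMod 2] (ι → ZMod 2) := Matrix.mulVecLin g.val + LinearMap.id

theorem nilOf_apply (g : GL ι (ZMod 2)) (x : ι → ZMod 2) : nilOf g x = g.val *ᵥ x + x := rfl

theorem act_nilOf (g : GL ι (ZMod 2)) (x : ι → ZMod 2) : g.val *ᵥ x = x + nilOf g x := by
  rw [nilOf_apply, add_comm (g.val *ᵥ x) x, ← add_assoc, two_zero, zero_add]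

theorem qspace_of (S : Space q B) : QSpace q B := ⟨S.add, S.symm, fun _ h => S.nondeg' h⟩

theorem nilOf_props (S : Space q B) {g : GL ι (ZMod 2)} (hg : g ∈ isometryGroup (ZMod 2) q) (h2 : g * g = 1) :
    (∀ x, nilOf g (nilOf g x) = 0) ∧ (∀ x y, B (nilOf g x) y = B x (nilOf g y)) ∧
      ∀ x, q (nilOf g x) = B x (nilOf g x) := by
  have hgg : ∀ x, g.val *ᵥ (g.val *ᵥ x) = x := fun x => by
    rw [← mul_act, h2, Units.val_one, Matrix.one_mulVec]
  refine ⟨fun x => ?_, fun x y => ?_, fun x => ?_⟩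
  · rw [nilOf_apply, nilOf_apply, Matrix.mulVec_add, hgg, add_comm x (g.val *ᵥ x), two_zero]
  · rw [nilOf_apply, nilOf_apply, map_add, LinearMap.add_apply, map_add]
    conv_lhs => rw [← hgg y]
    rw [S.B_act hg, hgg]
  · have h := S.add x (nilOf g x)
    rw [← act_nilOf, mem_iso.1 hg x] at h
    linear_combination -h - B x (nilOf g x) * two8

theorem nilOf_comm {g h : GL ι (ZMod 2)} (e : Commute g h) : Cm (nilOf g) (nilOf h) := fun x => by
  have e1 := congrArg (fun k : GL ι (ZMod 2) => k.val *ᵥ x) e.eq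
  simp only [mul_act] at e1
  simp only [nilOf_apply, Matrix.mulVec_add, e1]
  abel

theorem nilOf_braid (S : Space q B) {g h : GL ι (ZMod 2)} (hg : g ∈ isometryGroup (ZMod 2) q)
    (hh : h ∈ isometryGroup (ZMod 2) q) (g2 : g * g = 1) (h2 : h * h = 1) (e : g * h * g = h * g * h) :
    Br (nilOf g) (nilOf h) := fun x => by
  have expand : ∀ (a b : GL ι (ZMod 2)), (∀ y, nilOf a (nilOf a y) = 0) →
      (a * b * a).val *ᵥ x = x + nilOf b x + nilOf b (nilOf a x) + nilOf a (nilOf b x) +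
        nilOf a (nilOf b (nilOf a x)) := by
    intro a b h0
    rw [mul_act, mul_act, act_nilOf a x, act_nilOf b, act_nilOf a]
    simp only [map_add, h0]
    have := two_zero (nilOf a x)
    linear_combination (norm := abel) this
  have e1 := congrArg (fun k : GL ι (ZMod 2) => k.val *ᵥ x) e
  simp only [expand g h (nilOf_props S hg g2).1, expand h g (nilOf_props S hh h2).1] at e1
  linear_combination (norm := abel) e1

/-- An involution with an element of order five in its centralizer has rank two. -/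
theorem rank_two (S : Space q B) (hcard : Fintype.card ι = 8)
    (hW : ∀ W : Submodule (ZMod 2) (ι → ZMod 2), (∀ v ∈ W, q v = 0) → finrank (ZMod 2) W < 4)
    {y c : GL ι (ZMod 2)} (hy : y ∈ Cfsg.Geo.omegaGL q) (hy2 : y * y = 1) (hy1 : y ≠ 1)
    (hc : c ∈ isometryGroup (ZMod 2) q) (hcy : Commute c y) (h5 : c ^ 5 = 1) (hc1 : c ≠ 1) :
    finrank (ZMod 2) (LinearMap.range (nilOf y)) = 2 := by
  classical
  have hyi : y ∈ isometryGroup (ZMod 2) q := Cfsg.Lib.Linear.Orth.omegaGL_le_iso hy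
  obtain ⟨hn2, hns, hval⟩ := nilOf_props S hyi hy2
  set n := nilOf y with hn
  have hkf : LinearMap.ker n = fixSpace y := by
    ext x
    rw [LinearMap.mem_ker, hn, nilOf_apply, mem_fixSpace]
    exact ⟨eq_of_add_zero, fun h => by rw [h, two_zero]⟩
  have hsum := LinearMap.finrank_range_add_finrank_ker n
  rw [finrank_fintype_fun_eq_card, hcard] at hsum
  have hle : LinearMap.range n ≤ LinearMap.ker n := by rintro _ ⟨x, rfl⟩; exact hn2 x
  have h4 := Submodule.finrank_mono hle
  have heven := (mem_omegaGL_iff_even S (by decide) (by rw [hcard]; norm_num) (by rw [hcard]; decide)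
    (Or.inr (by rw [hcard]; norm_num)) hyi).1 hy
  rw [← hkf] at heven
  obtain ⟨k, hk⟩ := heven
  have h0 : finrank (ZMod 2) (LinearMap.range n) ≠ 0 := fun e => hy1 (gl_ext fun x => by
    have hb : LinearMap.range n = ⊥ := Submodule.finrank_eq_zero.1 e
    have h : n x = 0 := by rw [LinearMap.range_eq_bot.1 hb]; rfl
    rw [act_nilOf, ← hn, h, add_zero, Units.val_one, Matrix.one_mulVec])
  by_contra hne
  have hR : finrank (ZMod 2) (LinearMap.range n) = 4 := by omega
  have hker : LinearMap.ker n = LinearMap.range n :=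
    (Submodule.eq_of_le_of_finrank_eq hle (by omega)).symm
  refine hc1 (gl_ext fun x => ?_)
  have hcn : ∀ x, c.val *ᵥ n x = n (c.val *ᵥ x) := fun x => by
    rw [hn, nilOf_apply, nilOf_apply, Matrix.mulVec_add, ← mul_act, hcy.eq, mul_act]
  have hlin : ∀ a ∈ LinearMap.range n, ∀ b ∈ LinearMap.range n, q (a + b) = q a + q b := by
    rintro _ ⟨a, rfl⟩ _ ⟨b, rfl⟩
    rw [S.add, hns, hn2, map_zero, add_zero]
  let K : Submodule (ZMod 2) (ι → ZMod 2) :=
    { carrier := {r | r ∈ LinearMap.range n ∧ q r = 0}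
      zero_mem' := ⟨zero_mem _, S.zero⟩
      add_mem' := fun {a b} ha hb => ⟨add_mem ha.1 hb.1, by rw [hlin a ha.1 b hb.1, ha.2, hb.2, add_zero]⟩
      smul_mem' := fun r a ha => ⟨Submodule.smul_mem _ r ha.1, by rw [S.smul, ha.2, mul_zero]⟩ }
  have hKd : finrank (ZMod 2) K < 4 := hW K fun v hv => hv.2
  have hRc : ∀ r ∈ LinearMap.range n, c.val *ᵥ r ∈ LinearMap.range n := by
    rintro _ ⟨a, rfl⟩; exact ⟨_, (hcn a).symm⟩
  have hKc : ∀ w ∈ K, c.val *ᵥ w ∈ K := fun w hw => ⟨hRc w hw.1, by rw [mem_iso.1 hc]; exact hw.2⟩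
  have hKfix : ∀ w ∈ K, c.val *ᵥ w = w := by
    intro w hw
    have h := five_small hKd ((Matrix.mulVecLin c.val).restrict hKc) (fun u => Subtype.ext (by
      have e : (c ^ 5).val *ᵥ u.1 = u.1 := by rw [h5, Units.val_one, Matrix.one_mulVec]
      simp only [pow_succ, pow_zero, one_mul, mul_act] at e
      exact e)) ⟨w, hw⟩
    exact congrArg Subtype.val h
  have step : ∀ (v d : ι → ZMod 2), c.val *ᵥ d = d → c.val *ᵥ v = v + d → d = 0 := by
    intro v d hd hv
    have e : (c ^ 5).val *ᵥ v = v := by rw [h5, Units.val_one, Matrix.one_mulVec]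
    simp only [pow_succ, pow_zero, one_mul, mul_act, hv, Matrix.mulVec_add, hd] at e
    have := two_zero d
    linear_combination (norm := abel) e - this - this
  have hRfix : ∀ r ∈ LinearMap.range n, c.val *ᵥ r = r := by
    intro r hr
    have hmem : c.val *ᵥ r + r ∈ K :=
      ⟨add_mem (hRc r hr) hr, by rw [hlin _ (hRc r hr) _ hr, mem_iso.1 hc, CharTwo.add_self_eq_zero]⟩
    exact eq_of_add_zero (step r _ (hKfix _ hmem) (by
      rw [add_comm (c.val *ᵥ r) r, ← add_assoc, two_zero, zero_add]))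
  have hd : c.val *ᵥ x + x ∈ LinearMap.range n := by
    rw [← hker, LinearMap.mem_ker, map_add, ← hcn, hRfix _ (LinearMap.mem_range_self n x), two_zero]
  rw [Units.val_one, Matrix.one_mulVec]
  exact eq_of_add_zero (step x _ (hRfix _ hd) (by
    rw [add_comm (c.val *ᵥ x) x, ← add_assoc, two_zero, zero_add]))

theorem nilOf_inj : Function.Injective (nilOf (ι := ι)) := fun g h e => gl_ext fun x => by
  rw [act_nilOf, act_nilOf, e]

theorem nilOf_rank_conj (g : GL ι (ZMod 2)) (y : GL ι (ZMod 2)) :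
    finrank (ZMod 2) (LinearMap.range (nilOf (g * y * g⁻¹))) = finrank (ZMod 2) (LinearMap.range (nilOf y)) := by
  let e : (ι → ZMod 2) ≃ₗ[ZMod 2] (ι → ZMod 2) :=
    { Matrix.mulVecLin g.val with
      invFun := fun x => (g⁻¹).val *ᵥ x
      left_inv := fun x => inv_act g x
      right_inv := fun x => act_inv g x }
  have : nilOf (g * y * g⁻¹) = e.toLinearMap ∘ₗ nilOf y ∘ₗ e.symm.toLinearMap := LinearMap.ext fun x => by
    show (g * y * g⁻¹).val *ᵥ x + x = g.val *ᵥ (y.val *ᵥ ((g⁻¹).val *ᵥ x) + (g⁻¹).val *ᵥ x)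
    rw [Matrix.mulVec_add, act_inv, mul_act, mul_act]
  rw [this, LinearMap.range_comp, LinearMap.range_comp, LinearEquiv.range, Submodule.map_top,
    LinearEquiv.finrank_map_eq]

theorem adjE_eq : ∀ i j : Fin 7, adjE i j = SpinCert.adjB i.val j.val := by decide +kernel

/-- The fixed nonsingular vector. -/
theorem exists_fixed_vector (S : Space q B) (hcard : Fintype.card ι = 8)
    (hW : ∀ W : Submodule (ZMod 2) (ι → ZMod 2), (∀ v ∈ W, q v = 0) → finrank (ZMod 2) W < 4)
    (ρ : SpGrp →* GL ι (ZMod 2)) (hinj : Function.Injective ρ) (hiso : ∀ x, ρ x ∈ isometryGroup (ZMod 2) q) :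
    ∃ v, q v = 1 ∧ ∀ x, (ρ x).val *ᵥ v = v := by
  classical
  have hom : ∀ x, ρ x ∈ Cfsg.Geo.omegaGL q := fun x => by
    have h : x ∈ commutator SpGrp := by rw [perfect_Sp]; exact Subgroup.mem_top x
    let ρ' : SpGrp →* ↥(isometryGroup (ZMod 2) q) := ρ.codRestrict _ hiso
    have h1 : ρ' x ∈ Cfsg.Omega (ZMod 2) q := by
      have h2 := Subgroup.mem_map_of_mem ρ' h
      rw [commutator_def, Subgroup.map_commutator] at h2
      exact Subgroup.commutator_mono le_top le_top h2
    exact ⟨_, h1, rfl⟩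
  have hsq : ∀ i, ρ (sGen i) * ρ (sGen i) = 1 := fun i => by rw [← map_mul, sGen_sq, map_one]
  obtain ⟨c, hc5, hc1, hcc⟩ := exists_five
  have hrk : finrank (ZMod 2) (LinearMap.range (nilOf (ρ (sGen 0)))) = 2 :=
    rank_two S hcard hW (hom _) (hsq 0) (fun e => sGen_ne_one 0 (hinj (e.trans (map_one ρ).symm))) (hiso c)
      (hcc.map ρ) (by rw [← map_pow, hc5, map_one]) (fun e => hc1 (hinj (e.trans (map_one ρ).symm)))
  have hnil : ∀ i, Nil2 q B (nilOf (ρ (sGen i))) := fun i => by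
    obtain ⟨h1, h2, h3⟩ := nilOf_props S (hiso _) (hsq i)
    obtain ⟨w, hw⟩ := sGen_conj i
    refine ⟨h1, h2, h3, ?_⟩
    rw [← hw, map_mul, map_mul, map_inv, nilOf_rank_conj, hrk]
  have hN : NilSeven q B (fun i => nilOf (ρ (sGen i))) adjE :=
    ⟨qspace_of S, hnil, nilOf_inj.comp (hinj.comp sGen_inj),
      fun i j hij h => nilOf_braid S (hiso _) (hiso _) (hsq i) (hsq j)
        (by simp only [← map_mul, sGen_braid hij (adjE_eq i j ▸ h)]),
      fun i j hij h => nilOf_comm ((sGen_comm hij (adjE_eq i j ▸ h)).map ρ)⟩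
  obtain ⟨v, hv, hfix⟩ := hN.exists_common (by rw [finrank_fintype_fun_eq_card, hcard]; norm_num)
  refine ⟨v, hv, fun x => ?_⟩
  let H : Subgroup SpGrp :=
    { carrier := {x | (ρ x).val *ᵥ v = v}
      one_mem' := by simp
      mul_mem' := fun {a b} ha hb => by
        show (ρ (a * b)).val *ᵥ v = v
        rw [map_mul, mul_act, hb, ha]
      inv_mem' := fun {a} ha => by
        show (ρ a⁻¹).val *ᵥ v = v
        conv_lhs => rw [← ha]
        rw [← mul_act, ← map_mul, inv_mul_cancel, map_one, Units.val_one, Matrix.one_mulVec] }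
  have : Subgroup.closure (Set.range sGen) ≤ H := by
    rw [Subgroup.closure_le]
    rintro _ ⟨i, rfl⟩
    show (ρ (sGen i)).val *ᵥ v = v
    rw [act_nilOf, hfix i, add_zero]
  exact this (by rw [sGen_closure]; trivial)

end Cfsg.Lib.CoTwoType
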