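import Cfsg.Agent.Lib.CoTwoType.ModelAct
import Cfsg.Agent.Lib.CoTwoType.Interface

/-!
# A copy of the centralizer of the model
-/

set_option autoImplicit false

namespace Cfsg.Lib.CoTwoType

open Cfsg Module Cfsg.Lib.Co2Invol

variable {G : Type*} [Group G] [Finite G]

/-- An involution with a totally singular fixed space of dimension four makes the centralizer a copy of that
of the model. -/
theorem exists_localIso (D : Act G) (hD : D.NoFixed) {w : G} (hw : Commute w D.z) (h2 : w * w = 1)
    (h4 : finrank (ZMod 2) (D.fix w) = 4) (hs : ∀ v ∈ D.fix w, qp v = 0) :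
    ∃ S : LocalIso G, S.z = D.z := by
  haveI := finite_co2
  obtain ⟨E, hz, σ, hE, hinv⟩ := exists_model_act
  obtain ⟨ψ, hψ⟩ := exists_cent_iso D E hD hE σ hinv hw h2 h4 hs
  let e : ↥(Subgroup.centralizer ({E.z} : Set ↥Spor.Co2)) ≃* Cent := MulEquiv.subgroupCongr (by rw [hz])
  let f : Cent ≃* ↥(Subgroup.centralizer ({D.z} : Set G)) := e.symm.trans ψ.symm
  have hf : (f tCent : G) = D.z := by
    have h : e.symm tCent = ψ ⟨D.z, Subgroup.mem_centralizer_singleton_iff.2 rfl⟩ :=
      Subtype.ext ((show ((e.symm tCent : _) : ↥Spor.Co2) = tTwo from rfl).trans (hψ.trans hz).symm)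
    show (ψ.symm (e.symm tCent) : G) = D.z
    rw [h, MulEquiv.symm_apply_apply]
  refine ⟨⟨(Subgroup.subtype _).comp f.toMonoidHom, fun a b h => f.injective (Subtype.ext h), ?_⟩, hf⟩
  show ((Subgroup.subtype _).comp f.toMonoidHom).range = Subgroup.centralizer ({(f tCent : G)} : Set G)
  rw [hf, MonoidHom.range_comp, MonoidHom.range_eq_top.2 f.surjective, ← MonoidHom.range_eq_map,
    Subgroup.range_subtype]

end Cfsg.Lib.CoTwoType
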