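import Cfsg.Agent.Lib.CoTwoType.Interface
import Cfsg.Agent.Lib.Concrete.GolayPerm

/-!
The monomial involution of the model exchanging the distinguished involution with a six neighbour.
-/

set_option autoImplicit false
set_option maxRecDepth 100000

namespace Cfsg.Lib.CoTwoType

open Cfsg Cfsg.Lib.Concrete Cfsg.Lib.Co2Invol
open scoped Pointwise

/-- The packed permutation. -/
def gPack : ℕ := 976866297241313785342403867495729280

/-- The permutation as a map. -/
def gFun (p : GolayPt) : GolayPt := gpt (Fin.ofNat 24 (pget gPack (gidx p).val))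

theorem gFun_gFun : ∀ p, gFun (gFun p) = p := by decide +kernel

/-- The permutation. -/
def gPerm : Equiv.Perm GolayPt := ⟨gFun, gFun, gFun_gFun, gFun_gFun⟩

theorem gPerm_rep : Concrete.Rep gPerm gPack := by unfold Concrete.Rep; decide +kernel

theorem gPerm_mem : gPerm ∈ M24 := rep_mem_M24 gPerm_rep (by decide +kernel)

theorem empty_code : (∅ : Finset GolayPt) ∈ codeSets :=
  mset_zero ▸ (mset_mem_supports_iff (by norm_num : (0 : ℕ) < 2 ^ 24)).2 (by decide +kernel)

/-- The involution as an automorphism of the lattice. -/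
noncomputable def gZero : Co0 := monoCo0 gPerm gPerm_mem ∅ empty_code

theorem gZero_smul (v : leechLattice) (p : GolayPt) :
    ((gZero • v : leechLattice) : GolayPt → ℤ) p = (v : GolayPt → ℤ) (gFun p) := by
  rw [gZero, monoCo0_smul, signedPerm, if_neg (Finset.notMem_empty p)]
  rfl

theorem gZero_u : gZero • Spor.leechU = Spor.leechU := by
  refine Subtype.ext (funext fun p => ?_)
  rw [gZero_smul]
  show Spor.vecU (gFun p) = Spor.vecU p
  revert p
  decide +kernel

/-- The involution `gM` of the model. -/
noncomputable def gM : ↥Spor.Co2 := ⟨(gZero : Equiv.Perm leechLattice), gZero.2, gZero_u⟩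

theorem gM_sq : gM * gM = 1 := by
  refine Subtype.ext ?_
  show ((gZero * gZero : Co0) : Equiv.Perm leechLattice) = ((1 : Co0) : Equiv.Perm leechLattice)
  refine congrArg Subtype.val (co0_ext fun v => funext fun p => ?_)
  rw [mul_smul, gZero_smul, gZero_smul, gFun_gFun, one_smul]

theorem gM_inv : gM⁻¹ = gM := inv_eq_of_mul_eq_one_right gM_sq

/-- The six neighbour of the distinguished involution. -/
noncomputable def uTwo : ↥Spor.Co2 := gM * tTwo * gM

/-- Membership of the octad of the neighbour. -/
def onU (p : GolayPt) : Bool := decide (gFun p ∈ baseOctad)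

theorem onU_gFun : ∀ p, onU (gFun p) = decide (p ∈ baseOctad) := by decide +kernel

theorem uTwo_smul (v : leechLattice) (p : GolayPt) :
    ((((gZero * tZero * gZero : Co0)) • v : leechLattice) : GolayPt → ℤ) p =
      if onU p then (v : GolayPt → ℤ) p else -(v : GolayPt → ℤ) p := by
  rw [mul_smul, mul_smul, gZero_smul, tZero_smul, gZero_smul, gFun_gFun, onU]
  simp only [decide_eq_true_eq]

theorem uTwo_mem : uTwo ∈ Cent := by
  refine Subgroup.mem_centralizer_iff.2 ?_
  rintro h rfl
  refine Subtype.ext ?_
  show ((tZero * (gZero * tZero * gZero) : Co0) : Equiv.Perm leechLattice) =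
    ((gZero * tZero * gZero * tZero : Co0) : Equiv.Perm leechLattice)
  refine congrArg Subtype.val (co0_ext fun v => funext fun p => ?_)
  rw [mul_smul tZero, tZero_smul, uTwo_smul, mul_smul _ tZero, uTwo_smul, tZero_smul]
  split <;> split <;> rfl

/-- The neighbour in the centralizer. -/
noncomputable def uCent : Cent := ⟨uTwo, uTwo_mem⟩

theorem tTwo_conj : gM * uTwo * gM = tTwo := by
  show gM * (gM * tTwo * gM) * gM = tTwo
  rw [← mul_assoc, ← mul_assoc, gM_sq, one_mul, mul_assoc, gM_sq, mul_one]

end Cfsg.Lib.CoTwoType
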