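import Cfsg.Agent.Lib.CoTwoType.ExistsAct
import Cfsg.Agent.Lib.CoTwoType.Untwist
import Cfsg.Agent.Lib.CoTwoType.ModelInvData
import Cfsg.Agent.Lib.Co2Invol.Main

/-!
# The centralizer of the involution of the model as data
-/

set_option autoImplicit false
set_option linter.style.haveILetI false
set_option maxRecDepth 100000

namespace Cfsg.Lib.CoTwoType

open Cfsg Cfsg.Lib.Concrete Cfsg.Lib.Co2Invol Cfsg.Lib.SpSix
open scoped Pointwise symmDiff

/-- The checks of a symmetric matrix in the centraliser. -/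
def invOk (L : List (List ℤ)) : Bool := matOk L && matT L == L

theorem inv_ok : invOk invOne = true ∧ invOk invTwo = true := by decide +kernel

theorem inv_u : (∀ p : GolayPt, matFun invOne Spor.vecU p = Spor.vecU p) ∧
    (∀ p : GolayPt, matFun invTwo Spor.vecU p = Spor.vecU p) := by decide +kernel

theorem inv_block : ∀ a b : Fin 24,
    (matEntry invOne a b = 0 ∨ (gpt a ∈ baseOctad ↔ gpt b ∈ baseOctad)) ∧
    (matEntry invTwo a b = 0 ∨ (gpt a ∈ baseOctad ↔ gpt b ∈ baseOctad)) := by decide +kernel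

theorem matCo0_comm {L : List (List ℤ)} (hL : matOk L = true)
    (hblock : ∀ a b, matEntry L a b = 0 ∨ (gpt a ∈ baseOctad ↔ gpt b ∈ baseOctad)) :
    matCo0 L hL * tZero = tZero * matCo0 L hL := by
  refine co0_ext fun v => funext fun p => ?_
  rw [mul_smul, mul_smul, matCo0_apply, tZero_smul, matCo0_apply]
  have key : ∀ a : Fin 24, matDot L ((tZero • v : leechLattice) : GolayPt → ℤ) a =
      if gpt a ∈ baseOctad then matDot L v a else -matDot L v a := by
    intro a
    rw [matDot_eq, matDot_eq]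
    split <;> rename_i ha
    · refine Finset.sum_congr rfl fun b _ => ?_
      rw [tZero_smul]
      rcases hblock a b with h | h
      · rw [h, zero_mul, zero_mul]
      · rw [if_pos (h.1 ha)]
    · rw [← Finset.sum_neg_distrib]
      refine Finset.sum_congr rfl fun b _ => ?_
      rw [tZero_smul]
      rcases hblock a b with h | h
      · rw [h, zero_mul, zero_mul, neg_zero]
      · rw [if_neg (fun hb => ha (h.2 hb)), mul_neg]
  have hd := (matPres_spec (L := L) (by
    simp only [matOk, Bool.and_eq_true] at hL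
    exact hL.1.2) v.2).1 (gidx p)
  simp only [matFun, key, gpt_gidx]
  split
  · rfl
  · exact Int.neg_ediv_of_dvd hd

theorem exists_cent_inv {L : List (List ℤ)} (hL : invOk L = true)
    (hu : ∀ p : GolayPt, matFun L Spor.vecU p = Spor.vecU p)
    (hblock : ∀ a b, matEntry L a b = 0 ∨ (gpt a ∈ baseOctad ↔ gpt b ∈ baseOctad)) :
    ∃ g : Cent, g * g = 1 ∧ ∀ v : leechLattice, ((co g • v : leechLattice) : GolayPt → ℤ) = matFun L v := by
  simp only [invOk, Bool.and_eq_true, beq_iff_eq] at hL
  obtain ⟨g, hg⟩ := exists_cent (g := matCo0 L hL.1)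
    (Subtype.ext (by rw [matCo0_apply]; exact funext hu)) (matCo0_comm hL.1 hblock)
  refine ⟨g, co_injective (co0_ext fun v => ?_), fun v => by rw [hg, matCo0_apply]⟩
  have h' : ((matOrth L = true ∧ matOrth (matT L) = true) ∧ matPres L = true) ∧ matPres (matT L) = true := by
    simpa [matOk, Bool.and_eq_true] using hL.1
  rw [map_mul, map_one, one_smul, mul_smul, hg, matCo0_apply, matCo0_apply]
  exact matFun_matFun (fun i j => by rw [← matEntry_T, hL.2]) h'.1.1.1 h'.1.2 h'.1.2 v.2

/-- The matrix of a product of transvections. -/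
def repMat (k : Fin 2) : Matrix (Fin 3 ⊕ Fin 3) (Fin 3 ⊕ Fin 3) (ZMod 2) :=
  ((repW k.castSucc.castSucc).map fun i =>
    Cfsg.sympTransvection 3 (SpSix.vec (Fin.ofNat 63 (sRoot i - 1))) (1 : ZMod 2)).prod

theorem repMat_eq : ∀ k : Fin 2, repMat k = (sRep k.castSucc.castSucc).1 := by
  intro k
  have h : ∀ W : List (Fin 7), ((W.map sGen).prod : SpGrp).1 =
      (W.map fun i => Cfsg.sympTransvection 3 (SpSix.vec (Fin.ofNat 63 (sRoot i - 1))) (1 : ZMod 2)).prod := by
    intro W
    induction W with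
    | nil => simp
    | cons i W ih => rw [List.map_cons, List.prod_cons, List.map_cons, List.prod_cons, Submonoid.coe_mul, ih]; rfl
  exact (h _).symm

/-- The entries of `repMat`. -/
def repEntry (k : Fin 2) (r c : Fin 3 ⊕ Fin 3) : ZMod 2 := repMat k r c

theorem inv_mat : ∀ (r c : Fin 3 ⊕ Fin 3),
    ((dotInt (matFun invOne (vext (vl (bI (ix c)).val))) (vext (vl (bI (ix (dual r))).val)) / 16 : ℤ) : ZMod 2) =
      repEntry 0 r c ∧
    ((dotInt (matFun invTwo (vext (vl (bI (ix c)).val))) (vext (vl (bI (ix (dual r))).val)) / 16 : ℤ) : ZMod 2) =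
      repEntry 1 r c := by decide +kernel

theorem gpt_inj {a b : Fin 24} (e : gpt a = gpt b) : a = b :=
  (gidx_gpt a).symm.trans ((congrArg gidx e).trans (gidx_gpt b))

/-- Involutions of the model over the two classes. -/
theorem model_invol (k : Fin 2) : ∃ g : Cent, g * g = 1 ∧ toSymp g = sRep k.castSucc.castSucc := by
  have key : ∀ (L : List (List ℤ)), invOk L = true → (∀ p : GolayPt, matFun L Spor.vecU p = Spor.vecU p) →
      (∀ a b, matEntry L a b = 0 ∨ (gpt a ∈ baseOctad ↔ gpt b ∈ baseOctad)) →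
      (∀ r c : Fin 3 ⊕ Fin 3,
        ((dotInt (matFun L (vext (vl (bI (ix c)).val))) (vext (vl (bI (ix (dual r))).val)) / 16 : ℤ) : ZMod 2) =
          repMat k r c) → ∃ g : Cent, g * g = 1 ∧ toSymp g = sRep k.castSucc.castSucc := by
    intro L h1 h2 h3 h4
    obtain ⟨g, hg, hgv⟩ := exists_cent_inv h1 h2 h3
    refine ⟨g, hg, Subtype.ext (Matrix.ext fun r c => ?_)⟩
    show Co2Invol.mat g r c = _
    rw [mat_entry, bz, hgv, root_val, root_val, ← repMat_eq]
    exact h4 r c
  obtain rfl | rfl := (by decide : ∀ j : Fin 2, j = 0 ∨ j = 1) k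
  · exact key invOne inv_ok.1 inv_u.1 (fun a b => (inv_block a b).1) fun r c => (inv_mat r c).1
  · exact key invTwo inv_ok.2 inv_u.2 (fun a b => (inv_block a b).2) fun r c => (inv_mat r c).2

/-- The sign of a kernel element at a position. -/
def kSign (j : Fin 32) (a : Fin 24) : ℤ := if (kMask j).testBit a.val then -1 else 1

/-- The permutation of a kernel element on positions. -/
def kPos (i : Fin 16) (a : Fin 24) : Fin 24 := Fin.ofNat 24 (pget (kPair i).1 (pget (kPair i).2 a.val))

theorem kPos_pact : ∀ (i : Fin 16) (a : Fin 24), pact (kPair i) (1 <<< a.val) = 1 <<< (kPos i a).val := by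
  decide +kernel

theorem kPerm_pos (i : Fin 16) (a : Fin 24) : kPerm i (gpt a) = gpt (kPos i a) := by
  have h := acts_apply (kPerm_acts i) (gpt a)
  rw [gidx_gpt, kPos_pact] at h
  have h2 := mset_one (gpt (kPos i a))
  rw [gidx_gpt] at h2
  rw [h2] at h
  exact Finset.singleton_inj.1 h

theorem kMono_entry (x : Fin 16 × Fin 32) (v : leechLattice) (a : Fin 24) :
    ((kMono x • v : leechLattice) : GolayPt → ℤ) (gpt a) =
      kSign x.2 a * (v : GolayPt → ℤ) (gpt (kPos x.1 a)) := by
  rw [kMono, monoCo0_smul, signedPerm]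
  have hs : (kPerm x.1).symm (gpt a) = gpt (kPos x.1 a) := by
    rw [← kPerm_pos]
    have := kPerm_sq x.1
    exact (Equiv.symm_apply_eq _).2 (by rw [← Equiv.Perm.mul_apply, this, Equiv.Perm.one_apply])
  rw [hs, kSign]
  have hiff : gpt a ∈ mset (kMask x.2) ↔ (kMask x.2).testBit a.val := by rw [mem_mset, gidx_gpt]
  by_cases h : (kMask x.2).testBit a.val
  · rw [if_pos (hiff.2 h), if_pos h]; ring
  · rw [if_neg (fun h' => h (hiff.1 h')), if_neg h, one_mul]

/-- A generator fails to centralize a kernel element up to the centre. -/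
def moveAt (i : Fin 16) (j : Fin 32) (k : Fin 2) : Bool :=
  ((List.finRange 24).any fun p => (List.finRange 24).any fun m =>
      matEntry (genL k) p (kPos i m) * kSign j (kPos i m) != kSign j p * matEntry (genL k) (kPos i p) m) &&
    ((List.finRange 24).any fun p => (List.finRange 24).any fun m =>
      matEntry (genL k) p (kPos i m) * kSign j (kPos i m) !=
        (if gpt p ∈ baseOctad then 1 else -1) * kSign j p * matEntry (genL k) (kPos i p) m)

theorem move_table : ((List.finRange 16).all fun i => (List.finRange 32).all fun j =>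
    (i == 0 && (kMask j == 0 || kMask j == 8241104)) || moveAt i j 0 || moveAt i j 1) = true := by decide +kernel

/-- No kernel element outside the centre is centralised modulo the centre. -/
theorem model_move {a : toSymp.ker} (h1 : a ≠ 1) (h2 : a ≠ tKer) :
    ∃ g : Cent, g * (a : Cent) * g⁻¹ ≠ a ∧ g * (a : Cent) * g⁻¹ ≠ tCent * a := by
  obtain ⟨⟨i, j⟩, rfl⟩ := kElt_surjective a
  have hne : ¬ (i = 0 ∧ (kMask j = 0 ∨ kMask j = 8241104)) := by
    rintro ⟨rfl, h | h⟩
    · refine h1 (co_ker_injective ?_)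
      rw [kElt_co, OneMemClass.coe_one, map_one]
      refine co0_ext fun v => ?_
      rw [kMono, monoCo0_smul, kPerm_zero_eq, h, one_smul, mset_zero]
      funext p; simp [signedPerm_one]
    · refine h2 (co_ker_injective ?_)
      rw [kElt_co, show co (tKer : toSymp.ker).1 = tZero from co_tCent]
      refine co0_ext fun v => ?_
      rw [kMono, monoCo0_smul, kPerm_zero_eq, h, tZero, monoCo0_smul]
  have h := move_table
  simp only [List.all_eq_true, List.mem_finRange, forall_true_left, Bool.or_eq_true, Bool.and_eq_true,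
    beq_iff_eq] at h
  obtain ⟨k, hk⟩ : ∃ k, moveAt i j k = true := by
    rcases h i j with (⟨hi, hj⟩ | hk) | hk
    · exact absurd ⟨hi, hj⟩ hne
    exacts [⟨0, hk⟩, ⟨1, hk⟩]
  obtain ⟨g, hg⟩ := exists_cent (g := matCo0 (genL k) (genL_ok k))
    (Subtype.ext (by rw [matCo0_apply]; exact funext (genL_u k))) (gen_comm k)
  refine ⟨g, ?_⟩
  simp only [moveAt, Bool.and_eq_true, List.any_eq_true, List.mem_finRange, true_and, bne_iff_ne] at hk
  have hcol : ∀ p m : Fin 24, ((co g • e8 (gpt m) : leechLattice) : GolayPt → ℤ) (gpt p) = matEntry (genL k) p m := by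
    intro p m
    rw [hg, matCo0_apply, matFun, gidx_gpt, matDot_eq,
      show ((e8 (gpt m) : leechLattice) : GolayPt → ℤ) = Pi.single (gpt m) 8 from rfl, Finset.sum_eq_single m]
    · rw [Pi.single_eq_same]; omega
    · intro b _ hb
      rw [Pi.single_eq_of_ne (fun e => hb (gpt_inj e)), mul_zero]
    · simp
  have hpos : ∀ (a b : Fin 24), kPos i a = b → kPos i b = a := fun a b e => by
    have h3 := kPerm_pos i a
    rw [e] at h3
    have h4 := kPerm_pos i b
    rw [← h3, ← Equiv.Perm.mul_apply, kPerm_sq, Equiv.Perm.one_apply] at h4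
    exact (gpt_inj h4).symm
  have hmono : ∀ m : Fin 24, kMono (i, j) • e8 (gpt m) =
      if (kMask j).testBit (kPos i m).val then -e8 (gpt (kPos i m)) else e8 (gpt (kPos i m)) := by
    intro m
    refine Subtype.ext (funext fun q => ?_)
    obtain ⟨q, rfl⟩ : ∃ a, gpt a = q := ⟨gidx q, gpt_gidx q⟩
    rw [kMono_entry, show ((e8 (gpt m) : leechLattice) : GolayPt → ℤ) = Pi.single (gpt m) 8 from rfl]
    by_cases hq : q = kPos i m
    · subst hq
      rw [hpos _ _ rfl, Pi.single_eq_same, kSign]
      by_cases hb : (kMask j).testBit (kPos i m).val <;> simp [hb, e8]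
    · have hne' : gpt (kPos i q) ≠ gpt m := fun e => hq (hpos q m (gpt_inj e)).symm
      have hne'' : gpt q ≠ gpt (kPos i m) := fun e => hq (gpt_inj e)
      rw [Pi.single_eq_of_ne hne', mul_zero]
      by_cases hb : (kMask j).testBit (kPos i m).val <;> simp [hb, e8, Pi.single_eq_of_ne hne'']
  have hlhs : ∀ p m, ((co g • (kMono (i, j) • e8 (gpt m)) : leechLattice) : GolayPt → ℤ) (gpt p) =
      matEntry (genL k) p (kPos i m) * kSign j (kPos i m) := by
    intro p m
    rw [hmono m, kSign]
    by_cases hb : (kMask j).testBit (kPos i m).val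
    · rw [if_pos hb, if_pos hb]
      have : co g • -e8 (gpt (kPos i m)) = -(co g • e8 (gpt (kPos i m))) := by
        refine eq_neg_of_add_eq_zero_left ?_
        rw [← co0_add, neg_add_cancel]
        have h0 := co0_add (co g) 0 0
        rw [add_zero] at h0
        exact left_eq_add.1 h0
      rw [this]
      show -(((co g • e8 (gpt (kPos i m)) : leechLattice) : GolayPt → ℤ) (gpt p)) = _
      rw [hcol]; ring
    · rw [if_neg hb, if_neg hb, hcol, mul_one]
  constructor
  · intro e
    obtain ⟨p, m, hne⟩ := hk.1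
    refine hne ?_
    have e2 := congrArg co (mul_inv_eq_iff_eq_mul.1 e)
    rw [map_mul, map_mul, kElt_co] at e2
    rw [← hlhs p m, ← mul_smul, e2, mul_smul, kMono_entry, hcol]
  · intro e
    obtain ⟨p, m, hne⟩ := hk.2
    refine hne ?_
    have e2 := congrArg co (mul_inv_eq_iff_eq_mul.1 e)
    rw [map_mul, map_mul, map_mul, kElt_co, co_tCent] at e2
    rw [← hlhs p m, ← mul_smul, e2, mul_smul, mul_smul, tZero_smul, kMono_entry, hcol]
    by_cases hp : gpt p ∈ baseOctad <;> simp [hp]

theorem finite_co2 : Finite ↥Spor.Co2 :=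
  haveI : Finite Co0 := finite_Co0
  Finite.of_injective (Subgroup.inclusion (inf_le_left : Spor.Co2 ≤ Co0)) (Subgroup.inclusion_injective _)

theorem commute_of_tTwo (c : Cent) : Commute (c : ↥Spor.Co2) tTwo := Subgroup.mem_centralizer_singleton_iff.1 c.2

theorem model_cent_le : Subgroup.centralizer (Cfsg.pCore 2 Cent : Set Cent) ≤ Cfsg.pCore 2 Cent := by
  rw [pCore_eq]
  set K := Subgroup.centralizer (toSymp.ker : Set Cent) with hK
  haveI : K.Normal := inferInstance
  haveI := (Subgroup.Normal.map (H := K) inferInstance toSymp toSymp_surjective)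
  haveI := Cfsg.Agent.S0270.result (F := ZMod 2) 3 (by norm_num) (by norm_num)
  have hinj : Function.Injective (QuotientGroup.mk' (Subgroup.center SpGrp) : SpGrp →* Cfsg.PSp 3 (ZMod 2)) := by
    rw [← MonoidHom.ker_eq_bot_iff, QuotientGroup.ker_mk', center_Sp]
  have hsurj := QuotientGroup.mk'_surjective (Subgroup.center SpGrp)
  rcases ((‹(K.map toSymp).Normal›).map (QuotientGroup.mk' (Subgroup.center SpGrp)) hsurj).eq_bot_or_eq_top with h | h
  · intro x hx
    have h1 := (Subgroup.map_eq_bot_iff_of_injective _ hinj).1 h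
    have h2 : toSymp x ∈ K.map toSymp := ⟨x, hx, rfl⟩
    rw [h1, Subgroup.mem_bot] at h2
    exact h2
  · exfalso
    have htop : K.map toSymp = ⊤ :=
      Subgroup.map_injective hinj (h.trans (Subgroup.map_top_of_surjective _ hsurj).symm)
    obtain ⟨a, ha⟩ : ∃ a : toSymp.ker, a ≠ 1 ∧ a ≠ tKer := by
      by_contra hne
      push_neg at hne
      have : Nat.card toSymp.ker ≤ 2 := by
        refine le_trans (Nat.card_le_card_of_surjective (fun b : Fin 2 => if b = 0 then 1 else tKer) fun a => ?_)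
          (by simp)
        by_cases e : a = 1
        · exact ⟨0, by simp [e]⟩
        · exact ⟨1, by simp [hne a e]⟩
      rw [Co2Invol.card_ker] at this
      norm_num at this
    obtain ⟨g, hg1, hg2⟩ := model_move ha.1 ha.2
    obtain ⟨x, hx, hxe⟩ : toSymp g ∈ K.map toSymp := htop ▸ Subgroup.mem_top _
    have hq : g * x⁻¹ ∈ toSymp.ker := by rw [MonoidHom.mem_ker, map_mul, map_inv, hxe, mul_inv_cancel]
    have hxa : x * (a : Cent) * x⁻¹ = a :=
      mul_inv_eq_iff_eq_mul.2 (Subgroup.mem_centralizer_iff.1 hx _ a.2).symm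
    set q : toSymp.ker := ⟨g * x⁻¹, hq⟩ with hqdef
    have hconj : g * (a : Cent) * g⁻¹ = ((q * a * q⁻¹ : toSymp.ker) : Cent) := by
      simp only [Subgroup.coe_mul, Subgroup.coe_inv, hqdef]
      calc g * (a : Cent) * g⁻¹ = g * x⁻¹ * (x * (a : Cent) * x⁻¹) * (g * x⁻¹)⁻¹ := by group
        _ = _ := by rw [hxa]
    have hcomm : ∀ p r : toSymp.ker, p * r * p⁻¹ = r ∨ p * r * p⁻¹ = tKer * r := fun p r => by
      have hmem : p * r * p⁻¹ * r⁻¹ ∈ Subgroup.center toSymp.ker :=
        ker_extraspecial.1.2.2 ▸ Subgroup.commutator_mem_commutator (Subgroup.mem_top p) (Subgroup.mem_top r)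
      rw [ker_center, Subgroup.mem_zpowers_iff] at hmem
      obtain ⟨n, hn⟩ := hmem
      rcases Int.even_or_odd n with ⟨m, rfl⟩ | ⟨m, rfl⟩
      · rw [← two_mul, zpow_mul, zpow_ofNat, pow_two, tKer_sq, one_zpow] at hn
        exact Or.inl (mul_inv_eq_one.1 hn.symm)
      · rw [zpow_add, zpow_mul, zpow_ofNat, pow_two, tKer_sq, one_zpow, one_mul, zpow_one] at hn
        exact Or.inr (mul_inv_eq_iff_eq_mul.1 hn.symm)
    rcases hcomm q a with e | e
    · exact hg1 (hconj.trans (congrArg Subtype.val e))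
    · exact hg2 (hconj.trans (congrArg Subtype.val e))

theorem model_big : Cfsg.Lib.Extra.HasBig toSymp.ker 4 := by
  classical
  let A : Subgroup toSymp.ker :=
    { carrier := {a | ∃ c : Finset GolayPt, ∀ v : leechLattice,
        ((co (a : Cent) • v : leechLattice) : GolayPt → ℤ) = signedPerm 1 c v}
      one_mem' := ⟨∅, fun v => by rw [OneMemClass.coe_one, map_one, one_smul]; funext p; simp [signedPerm_one]⟩
      mul_mem' := fun {a b} ⟨c, hc⟩ ⟨d, hd⟩ => ⟨c ∆ d, fun v => by
        rw [Subgroup.coe_mul, map_mul, mul_smul, hc, hd, signedPerm_comp, one_mul, one_smul]⟩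
      inv_mem' := fun {a} ⟨c, hc⟩ => ⟨c, fun v => by
        have h := hc (co ((a⁻¹ : toSymp.ker) : Cent) • v)
        rw [← mul_smul, ← map_mul, ← Subgroup.coe_mul, mul_inv_cancel, OneMemClass.coe_one, map_one, one_smul] at h
        rw [h]
        funext p
        simp only [signedPerm_one]
        split <;> simp⟩ }
  have hA : ∀ x : Fin 16 × Fin 32, kElt x ∈ A ↔ x.1 = 0 := by
    intro x
    constructor
    · rintro ⟨c, hc⟩
      have h : (1 : Equiv.Perm GolayPt) = kPerm x.1 ∧ c = mset (kMask x.2) :=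
        mono_ext fun v => by rw [← hc v, kElt_co, kMono, monoCo0_smul]
      refine kPerm_zero x.1 fun a => ?_
      have h2 := kPerm_pos x.1 a
      rw [← h.1, Equiv.Perm.one_apply] at h2
      rw [kPos_pact, ← gpt_inj h2]
    · intro h
      exact ⟨mset (kMask x.2), fun v => by rw [kElt_co, kMono, monoCo0_smul, h, kPerm_zero_eq]⟩
  refine ⟨A, ⟨⟨⟨fun a b => ?_⟩⟩, fun a ha => ?_⟩, ?_⟩
  · obtain ⟨c, hc⟩ := a.2
    obtain ⟨d, hd⟩ := b.2
    refine Subtype.ext (co_ker_injective (co0_ext fun v => ?_))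
    simp only [Subgroup.coe_mul, map_mul, mul_smul, hc, hd, signedPerm_comp, one_smul]
    rw [symmDiff_comm]
  · obtain ⟨c, hc⟩ := ha
    refine co_ker_injective (co0_ext fun v => ?_)
    rw [pow_two, Subgroup.coe_mul, map_mul, mul_smul, hc, hc, OneMemClass.coe_one, map_one, one_smul]
    funext p
    simp only [signedPerm_one]
    split <;> simp
  · have hbij : Function.Bijective (fun j : Fin 32 => (⟨kElt (0, j), (hA (0, j)).2 rfl⟩ : A)) := by
      refine ⟨fun i j e => ?_, fun a => ?_⟩
      · exact congrArg Prod.snd (kElt_injective (congrArg Subtype.val e))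
      · obtain ⟨⟨i, j⟩, e⟩ := kElt_surjective a.1
        obtain rfl : i = 0 := (hA (i, j)).1 (e ▸ a.2)
        exact ⟨j, Subtype.ext e⟩
    rw [← Nat.card_congr (Equiv.ofBijective _ hbij), Nat.card_eq_fintype_card, Fintype.card_fin]
    norm_num

/-- The model with its identification. -/
theorem exists_model_act : ∃ (E : Act ↥Spor.Co2) (_ : E.z = tTwo) (σ : ↥E.R ≃* SpGrp), E.NoFixed ∧
    ∀ k : Fin 2, ∃ (v : ↥Spor.Co2) (hv : Commute v E.z), v * v = 1 ∧
      IsConj (σ ⟨E.act v, E.act_memR v hv⟩) (sRep k.castSucc.castSucc) := by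
  haveI : Fact (Nat.Prime 2) := ⟨Nat.prime_two⟩
  haveI := finite_co2
  have hF := Cfsg.Lib.Core.generalizedFitting_eq_pCore_iff.2 model_cent_le
  rw [pCore_eq] at hF
  obtain ⟨E, hz, σ, hQ, hσ⟩ := exists_act_iso tTwo orderOf_tTwo toSymp.ker hF ker_extraspecial Co2Invol.card_ker model_big
    (QuotientGroup.quotientKerEquivOfSurjective toSymp toSymp_surjective)
  refine ⟨E, hz, σ, ?_, fun k => ?_⟩
  · intro v hv
    obtain ⟨a, ha, hav⟩ := E.cls_surj v
    have ha0 := ha
    rw [hQ] at ha
    obtain ⟨a, haK, rfl⟩ := ha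
    by_contra hne
    have h1 : (⟨a, haK⟩ : toSymp.ker) ≠ 1 := fun e => hne (by
      rw [← hav, show a = 1 from congrArg Subtype.val e]; exact E.cls_one)
    have h2 : (⟨a, haK⟩ : toSymp.ker) ≠ tKer := fun e => hne (by
      rw [← hav, show a = tCent from congrArg Subtype.val e,
        show Subgroup.subtype _ tCent = E.z from hz.symm]
      exact E.cls_z)
    obtain ⟨g, hg1, hg2⟩ := model_move h1 h2
    have hgc : Commute (g : ↥Spor.Co2) E.z := hz.symm ▸ commute_of_tTwo g
    have hmem : ((g * a * g⁻¹ : Cent) : ↥Spor.Co2) ∈ E.Q := by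
      have := E.conj_mem_Q hgc ha0
      simpa using this
    have hcls : E.cls ((g * a * g⁻¹ : Cent) : ↥Spor.Co2) = E.cls ((a : Cent) : ↥Spor.Co2) := by
      have h := E.act_cls _ hgc _ ha0
      rw [hav, hv _ (E.act_memR _ hgc), ← hav] at h
      simpa using h
    rcases E.cls_eq ha0 hmem hcls.symm with e | e
    · exact hg1 (Subtype.ext e)
    · exact hg2 (Subtype.ext (by rw [e, hz]; rfl))
  · obtain ⟨g, hg, hgs⟩ := model_invol k
    refine ⟨g, hz.symm ▸ commute_of_tTwo g, congrArg Subtype.val hg, ?_⟩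
    rw [hσ g (hz.symm ▸ commute_of_tTwo g)]
    exact hgs ▸ IsConj.refl _

end Cfsg.Lib.CoTwoType
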