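import Mathlib

/-!
# Seven symmetric nilpotent maps of rank two with the relations of the diagram

If `1 + n i` satisfy the relations of the seven transvections of `Sp6(2)` and the space has dimension
below twelve, the ranges have a common nonsingular vector.
-/

set_option autoImplicit false
set_option linter.unusedSectionVars false
set_option linter.style.haveILetI false

namespace Cfsg.Lib.CoTwoType

open Module

variable {V : Type*} [AddCommGroup V] [Module (ZMod 2) V] [Finite V]

/-- A nondegenerate quadratic space in characteristic two. -/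
structure QSpace (q : V → ZMod 2) (B : LinearMap.BilinForm (ZMod 2) V) : Prop where
  add : ∀ a b, q (a + b) = q a + q b + B a b
  symm : ∀ a b, B a b = B b a
  nondeg : ∀ v, (∀ u, B v u = 0) → v = 0

variable {q : V → ZMod 2} {B : LinearMap.BilinForm (ZMod 2) V}

/-- The nilpotent part of an involution of rank two. -/
structure Nil2 (q : V → ZMod 2) (B : LinearMap.BilinForm (ZMod 2) V) (n : V →ₗ[ZMod 2] V) : Prop where
  sq : ∀ x, n (n x) = 0
  sym : ∀ x y, B (n x) y = B x (n y)
  val : ∀ x, q (n x) = B x (n x)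
  rk : finrank (ZMod 2) (LinearMap.range n) = 2

theorem zmod_cases (r : ZMod 2) : r = 0 ∨ r = 1 := (by decide : ∀ a : ZMod 2, a = 0 ∨ a = 1) r

theorem two_zero (a : V) : a + a = 0 := by
  rw [← two_smul (ZMod 2) a, show (2 : ZMod 2) = 0 from by decide, zero_smul]

theorem eq_of_add_zero {a b : V} (h : a + b = 0) : a = b := by
  calc a = a + (b + b) := by rw [two_zero, add_zero]
    _ = b := by rw [← add_assoc, h, zero_add]

/-- Braided. -/
def Br (n m : V →ₗ[ZMod 2] V) : Prop := ∀ x, m x + n (m (n x)) = n x + m (n (m x))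

/-- Commuting. -/
def Cm (n m : V →ₗ[ZMod 2] V) : Prop := ∀ x, n (m x) = m (n x)

/-- The ranges are orthogonal. -/
def Orth2 (n m : V →ₗ[ZMod 2] V) : Prop := ∀ x, n (m x) = 0

/-- The ranges meet. -/
def Meet (n m : V →ₗ[ZMod 2] V) : Prop :=
  ∃ w, w ≠ 0 ∧ w ∈ LinearMap.range n ∧ w ∈ LinearMap.range m

theorem Br.symm {n m : V →ₗ[ZMod 2] V} (h : Br n m) : Br m n := fun x => (h x).symm

theorem Cm.symm {n m : V →ₗ[ZMod 2] V} (h : Cm n m) : Cm m n := fun x => (h x).symm

theorem Cm.orth_symm {n m : V →ₗ[ZMod 2] V} (h : Cm n m) (ho : Orth2 n m) : Orth2 m n := fun x => by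
  rw [← h x]; exact ho x

variable {n m p : V →ₗ[ZMod 2] V}

theorem Nil2.range_zero (hn : Nil2 q B n) {w : V} (hw : w ∈ LinearMap.range n) : n w = 0 := by
  obtain ⟨x, rfl⟩ := hw; exact hn.sq x

theorem Nil2.iso (hn : Nil2 q B n) {a b : V} (ha : a ∈ LinearMap.range n) (hb : b ∈ LinearMap.range n) :
    B a b = 0 := by
  obtain ⟨x, rfl⟩ := ha
  rw [hn.sym, hn.range_zero hb, map_zero]

/-- Two nonzero vectors span the range. -/
theorem Nil2.span (hn : Nil2 q B n) {a b r : V} (ha : a ∈ LinearMap.range n) (hb : b ∈ LinearMap.range n)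
    (ha0 : a ≠ 0) (hb0 : b ≠ 0) (hab : a ≠ b) (hr : r ∈ LinearMap.range n) :
    r = 0 ∨ r = a ∨ r = b ∨ r = a + b := by
  classical
  haveI := Fintype.ofFinite V
  have hcard : (Finset.univ.filter fun v => v ∈ LinearMap.range n).card = 4 := by
    rw [← Fintype.card_subtype, ← Nat.card_eq_fintype_card]
    show Nat.card ↥(LinearMap.range n) = 4
    rw [Module.natCard_eq_pow_finrank (K := ZMod 2), Nat.card_zmod, hn.rk]
    norm_num
  have hab0 : a + b ≠ 0 := fun e => hab (eq_of_add_zero e)
  have hsub : ({0, a, b, a + b} : Finset V) ⊆ Finset.univ.filter fun v => v ∈ LinearMap.range n := by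
    intro v hv
    simp only [Finset.mem_insert, Finset.mem_singleton] at hv
    rw [Finset.mem_filter]
    rcases hv with rfl | rfl | rfl | rfl
    exacts [⟨Finset.mem_univ _, zero_mem _⟩, ⟨Finset.mem_univ _, ha⟩, ⟨Finset.mem_univ _, hb⟩,
      ⟨Finset.mem_univ _, add_mem ha hb⟩]
  have h4 : ({0, a, b, a + b} : Finset V).card = 4 :=
    by
      rw [Finset.card_insert_of_notMem, Finset.card_insert_of_notMem, Finset.card_insert_of_notMem,
        Finset.card_singleton]
      · simp [ha0]
      · simp [hab, hb0]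
      · simp [ha0.symm, hb0.symm, hab0.symm]
  have := (Finset.eq_of_subset_of_card_le hsub (by rw [hcard, h4])).symm ▸
    (Finset.mem_filter.2 ⟨Finset.mem_univ r, hr⟩)
  simpa using this

theorem Nil2.transpose (S : QSpace q B) (hn : Nil2 q B n) (hm : Nil2 q B m) (h : Orth2 n m) : Orth2 m n :=
  fun x => S.nondeg _ fun y => by rw [hm.sym, hn.sym, h y, map_zero]

theorem Br.mem_of_zero (h : Br n m) {w : V} (hw : w ∈ LinearMap.range n) (h0 : m w = 0) :
    w ∈ LinearMap.range m := by
  obtain ⟨v, rfl⟩ := hw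
  refine ⟨v - n (m v), ?_⟩
  have := h v
  rw [h0, map_zero, add_zero] at this
  rw [map_sub]
  nth_rewrite 1 [this]
  rw [add_sub_cancel_right]

theorem Br.not_orth (h : Br n m) (hne : n ≠ m)
    (ho : Orth2 n m) : False := by
  refine hne (LinearMap.ext fun x => ?_)
  have := h x
  rw [ho (n x), ho x, map_zero, add_zero, add_zero] at this
  exact this.symm

/-- Two distinct maps have at most one common nonzero vector, unless the ranges are orthogonal. -/
theorem meet_unique (hn : Nil2 q B n) (hm : Nil2 q B m) (hno : ¬ Orth2 n m) {a b : V}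
    (ha : a ∈ LinearMap.range n) (ha' : a ∈ LinearMap.range m) (hb : b ∈ LinearMap.range n)
    (hb' : b ∈ LinearMap.range m) (ha0 : a ≠ 0) (hb0 : b ≠ 0) : a = b := by
  by_contra hab
  refine hno fun x => hn.range_zero ?_
  rcases hm.span ha' hb' ha0 hb0 hab (LinearMap.mem_range_self m x) with e | e | e | e <;> rw [e]
  exacts [zero_mem _, ha, hb, add_mem ha hb]

/-- The form of the range separates a singular vector from a nonsingular one. -/
theorem Nil2.sep (S : QSpace q B) (hn : Nil2 q B n) {u y : V} (hw : q (n u) = 0) (hz : q (n y) = 1)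
    (hw0 : n u ≠ 0) : B (n u) y = 1 := by
  refine (zmod_cases _).resolve_left fun h0 => hw0 (S.nondeg _ fun v => ?_)
  have hq0 : q (0 : V) = 0 := by
    have h := S.add 0 0
    rw [add_zero, map_zero, add_zero] at h
    exact (left_eq_add.1 h)
  have hker : ∀ k, n k = 0 → B (n u) k = 0 := fun k hk => by rw [hn.sym, hk, map_zero]
  have huu : B (n u) u = 0 := by rw [S.symm, ← hn.val, hw]
  have hz0 : n y ≠ 0 := fun e => by rw [e, hq0] at hz; exact zero_ne_one hz
  have hne : n u ≠ n y := fun e => by rw [e, hz] at hw; exact one_ne_zero hw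
  rcases hn.span ⟨u, rfl⟩ ⟨y, rfl⟩ hw0 hz0 hne (LinearMap.mem_range_self n v) with e | e | e | e
  · exact hker v e
  · have := hker (v - u) (by rw [map_sub, e, sub_self])
    rwa [map_sub, huu, sub_zero] at this
  · have := hker (v - y) (by rw [map_sub, e, sub_self])
    rwa [map_sub, h0, sub_zero] at this
  · have := hker (v - (u + y)) (by rw [map_sub, map_add, e, sub_self])
    rwa [map_sub, map_add, huu, h0, add_zero, sub_zero] at this

theorem Br.image_line (S : QSpace q B) (hn : Nil2 q B n) (hm : Nil2 q B m) (h : Br n m) (hne : n ≠ m)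
    {w : V} (hw0 : w ≠ 0) (hw : w ∈ LinearMap.range n) (hw' : w ∈ LinearMap.range m) (hq : q w = 0) (x : V) :
    n (m x) = 0 ∨ n (m x) = w := by
  by_cases hy0 : m x = 0
  · exact Or.inl (by rw [hy0, map_zero])
  by_cases hyw : m x = w
  · exact Or.inl (by rw [hyw]; exact hn.range_zero hw)
  rcases zmod_cases (q (n (m x))) with hz | hz
  · have hzx : ∀ r ∈ LinearMap.range m, B (n (m x)) r = 0 := by
      intro r hr
      rcases hm.span (LinearMap.mem_range_self m x) hw' hy0 hw0 hyw hr with e | e | e | e <;> subst e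
      · rw [map_zero]
      · rw [S.symm, ← hn.val, hz]
      · exact hn.iso (LinearMap.mem_range_self n _) hw
      · rw [map_add, S.symm, ← hn.val, hz, hn.iso (LinearMap.mem_range_self n _) hw, add_zero]
    have hm0 : m (n (m x)) = 0 := S.nondeg _ fun v => by
      rw [hm.sym]; exact hzx _ (LinearMap.mem_range_self m v)
    have hmem := h.mem_of_zero (LinearMap.mem_range_self n _) hm0
    by_cases hz0 : n (m x) = 0
    · exact Or.inl hz0
    · exact Or.inr (meet_unique hn hm (h.not_orth hne) (LinearMap.mem_range_self n _) hmem hw hw' hz0 hw0)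
  · obtain ⟨u, rfl⟩ := hw
    have h1 := hn.sep S hq hz hw0
    rw [hm.iso hw' (LinearMap.mem_range_self m x)] at h1
    exact absurd h1 zero_ne_one

/-- A common vector of two braided ranges is nonsingular. -/
theorem Br.meet_nonsingular (S : QSpace q B) (hn : Nil2 q B n) (hm : Nil2 q B m) (h : Br n m) (hne : n ≠ m)
    {w : V} (hw0 : w ≠ 0) (hw : w ∈ LinearMap.range n) (hw' : w ∈ LinearMap.range m) : q w = 1 := by
  refine (zmod_cases _).resolve_left fun hq => hne (LinearMap.ext fun x => ?_)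
  have h1 : m (n (m x)) = 0 := by
    rcases h.image_line S hn hm hne hw0 hw hw' hq x with e | e <;> rw [e]
    exacts [map_zero _, hm.range_zero hw']
  have h2 : n (m (n x)) = 0 := by
    rcases h.symm.image_line S hm hn hne.symm hw0 hw' hw hq x with e | e <;> rw [e]
    exacts [map_zero _, hn.range_zero hw]
  have := h x
  rw [h1, h2, add_zero, add_zero] at this
  exact this.symm

/-- Commuting maps are orthogonal or share a singular vector. -/
theorem Cm.meet (hn : Nil2 q B n) (hm : Nil2 q B m) (h : Cm n m) (ho : ¬ Orth2 n m) :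
    ∃ w, w ≠ 0 ∧ w ∈ LinearMap.range n ∧ w ∈ LinearMap.range m ∧ q w = 0 := by
  simp only [Orth2, not_forall] at ho
  obtain ⟨x, hx⟩ := ho
  refine ⟨_, hx, LinearMap.mem_range_self n _, h x ▸ LinearMap.mem_range_self m _, ?_⟩
  rw [h x, hm.val, hn.iso (LinearMap.mem_range_self n x)]
  exact h x ▸ LinearMap.mem_range_self n _

/-- Orthogonality propagates along an edge. -/
theorem orth_step (S : QSpace q B) (hn : Nil2 q B n) (hm : Nil2 q B m) (hp : Nil2 q B p) (hnm : Cm n m)
    (hnp : Cm n p) (hmp : Br m p) (hne : m ≠ p) (ho : Orth2 n p) : Orth2 n m := by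
  by_contra hc
  obtain ⟨w, hw0, hwn, hwm, hq⟩ := hnm.meet hn hm hc
  have h0 : p w = 0 := by
    obtain ⟨v, rfl⟩ := hwn
    exact hnp.orth_symm ho v
  have := hmp.meet_nonsingular S hm hp hne hw0 hwm (hmp.mem_of_zero hwm h0)
  rw [hq] at this
  exact zero_ne_one this

/-- Three pairwise commuting nonorthogonal ranges share their vector. -/
theorem triple_point (S : QSpace q B) (hn : Nil2 q B n) (hm : Nil2 q B m) (hp : Nil2 q B p)
    (hmp : Cm m p) (h1 : ¬ Orth2 n m) (h2 : ¬ Orth2 n p) (h3 : ¬ Orth2 m p)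
    {a b : V} (ha : a ∈ LinearMap.range n) (ha' : a ∈ LinearMap.range m) (ha0 : a ≠ 0)
    (hb : b ∈ LinearMap.range n) (hb' : b ∈ LinearMap.range p) (hb0 : b ≠ 0) : a = b := by
  by_contra hab
  obtain ⟨c, hc0, hcm, hcp, -⟩ := hmp.meet hm hp h3
  have hac : a ≠ c := fun e => hab (meet_unique hn hp h2 ha (e ▸ hcp) hb hb' ha0 hb0)
  have hbc : b ≠ c := fun e => hab (meet_unique hn hm h1 ha ha' hb (e ▸ hcm) ha0 hb0)
  refine h1 fun x => ?_
  refine S.nondeg _ fun v => ?_
  rw [hn.sym]
  have hv : n v ∈ LinearMap.range n := LinearMap.mem_range_self n v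
  have hx : m x ∈ LinearMap.range m := LinearMap.mem_range_self m x
  have eaa : B a a = 0 := hn.iso ha ha
  have eab : B a b = 0 := hn.iso ha hb
  have eac : B a c = 0 := hm.iso ha' hcm
  have ebc : B b c = 0 := hp.iso hb' hcp
  rcases hn.span ha hb ha0 hb0 hab hv with e | e | e | e <;> rw [e] <;>
    rcases hm.span ha' hcm ha0 hc0 hac hx with e' | e' | e' | e' <;> rw [e'] <;>
    simp only [map_zero, map_add, LinearMap.zero_apply, LinearMap.add_apply, eaa, eab, eac, ebc,
      S.symm c a, S.symm c b, add_zero]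

/-- The relations of the seven maps. -/
structure NilSeven (q : V → ZMod 2) (B : LinearMap.BilinForm (ZMod 2) V) (N : Fin 7 → V →ₗ[ZMod 2] V)
    (adj : Fin 7 → Fin 7 → Bool) : Prop where
  space : QSpace q B
  nil : ∀ i, Nil2 q B (N i)
  inj : Function.Injective N
  br : ∀ i j, i ≠ j → adj i j = true → Br (N i) (N j)
  cm : ∀ i j, i ≠ j → adj i j = false → Cm (N i) (N j)

/-- The diagram. -/
def adjE (i j : Fin 7) : Bool :=
  [(0, 1), (1, 2), (2, 3), (3, 4), (4, 5), (2, 6), (1, 0), (2, 1), (3, 2), (4, 3), (5, 4), (6, 2)].contains (i.val, j.val)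

theorem adjE_facts : ∀ i j : Fin 7, adjE i j = true → j ≠ i ∧ adjE j i = true := by decide

variable {N : Fin 7 → V →ₗ[ZMod 2] V}

theorem NilSeven.orth_next (S : NilSeven q B N adjE) (i j k : Fin 7)
    (h : i ≠ j ∧ i ≠ k ∧ j ≠ k ∧ adjE i j = false ∧ adjE i k = false ∧ adjE k j = true)
    (ho : Orth2 (N i) (N j)) : Orth2 (N i) (N k) :=
  orth_step S.space (S.nil i) (S.nil k) (S.nil j) (S.cm i k h.2.1 h.2.2.2.2.1) (S.cm i j h.1 h.2.2.2.1)
    (S.br k j h.2.2.1.symm h.2.2.2.2.2) (fun e => h.2.2.1 (S.inj e).symm) ho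

theorem NilSeven.orth_swap (S : NilSeven q B N adjE) (i j : Fin 7) (h : i ≠ j ∧ adjE i j = false)
    (ho : Orth2 (N i) (N j)) : Orth2 (N j) (N i) := (S.cm i j h.1 h.2).orth_symm ho

theorem NilSeven.orth_base (S : NilSeven q B N adjE) : Orth2 (N 0) (N 2) := by
  by_contra h02
  have h03 : ¬ Orth2 (N 0) (N 3) := fun h => h02 (S.orth_next 0 3 2 (by decide) h)
  have h04 : ¬ Orth2 (N 0) (N 4) := fun h => h03 (S.orth_next 0 4 3 (by decide) h)
  have h05 : ¬ Orth2 (N 0) (N 5) := fun h => h04 (S.orth_next 0 5 4 (by decide) h)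
  have h24 : ¬ Orth2 (N 2) (N 4) := fun h =>
    h04 (S.orth_swap 4 0 (by decide) (S.orth_next 4 1 0 (by decide) (S.orth_next 4 2 1 (by decide)
      (S.orth_swap 2 4 (by decide) h))))
  have h25 : ¬ Orth2 (N 2) (N 5) := fun h =>
    h05 (S.orth_swap 5 0 (by decide) (S.orth_next 5 1 0 (by decide) (S.orth_next 5 2 1 (by decide)
      (S.orth_swap 2 5 (by decide) h))))
  have c02 := S.cm 0 2 (by decide) (by decide)
  have c04 := S.cm 0 4 (by decide) (by decide)
  have c05 := S.cm 0 5 (by decide) (by decide)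
  have c24 := S.cm 2 4 (by decide) (by decide)
  have c25 := S.cm 2 5 (by decide) (by decide)
  obtain ⟨a, a0, an, am, aq⟩ := c02.meet (S.nil 0) (S.nil 2) h02
  obtain ⟨b, b0, bn, bp, -⟩ := c04.meet (S.nil 0) (S.nil 4) h04
  obtain ⟨c, c0, cn, cp, -⟩ := c05.meet (S.nil 0) (S.nil 5) h05
  have e4 := triple_point S.space (S.nil 0) (S.nil 2) (S.nil 4) c24 h02 h04 h24 an am a0 bn bp b0
  have e5 := triple_point S.space (S.nil 0) (S.nil 2) (S.nil 5) c25 h02 h05 h25 an am a0 cn cp c0
  have := (S.br 4 5 (by decide) (by decide)).meet_nonsingular S.space (S.nil 4) (S.nil 5)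
    (fun e => absurd (S.inj e) (by decide)) a0 (e4 ▸ bp) (e5 ▸ cp)
  rw [aq] at this
  exact zero_ne_one this

/-- Nonadjacent ranges on the paths are orthogonal. -/
theorem NilSeven.orth_all (S : NilSeven q B N adjE) :
    Orth2 (N 0) (N 2) ∧ Orth2 (N 0) (N 3) ∧ Orth2 (N 0) (N 4) ∧ Orth2 (N 0) (N 5) ∧
    Orth2 (N 1) (N 3) ∧ Orth2 (N 1) (N 4) ∧ Orth2 (N 1) (N 5) ∧ Orth2 (N 2) (N 4) ∧
    Orth2 (N 2) (N 5) ∧ Orth2 (N 3) (N 5) ∧ Orth2 (N 1) (N 6) := by
  have h02 := S.orth_base
  have h03 := S.orth_next 0 2 3 (by decide) h02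
  have h04 := S.orth_next 0 3 4 (by decide) h03
  have h05 := S.orth_next 0 4 5 (by decide) h04
  have h06 := S.orth_next 0 2 6 (by decide) h02
  have h31 := S.orth_next 3 0 1 (by decide) (S.orth_swap 0 3 (by decide) h03)
  have h41 := S.orth_next 4 0 1 (by decide) (S.orth_swap 0 4 (by decide) h04)
  have h42 := S.orth_next 4 1 2 (by decide) h41
  have h51 := S.orth_next 5 0 1 (by decide) (S.orth_swap 0 5 (by decide) h05)
  have h52 := S.orth_next 5 1 2 (by decide) h51
  have h53 := S.orth_next 5 2 3 (by decide) h52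
  have h61 := S.orth_next 6 0 1 (by decide) (S.orth_swap 0 6 (by decide) h06)
  exact ⟨h02, h03, h04, h05, S.orth_swap 3 1 (by decide) h31, S.orth_swap 4 1 (by decide) h41,
    S.orth_swap 5 1 (by decide) h51, S.orth_swap 4 2 (by decide) h42, S.orth_swap 5 2 (by decide) h52,
    S.orth_swap 5 3 (by decide) h53, S.orth_swap 6 1 (by decide) h61⟩

/-- Meeting propagates along a path. -/
theorem NilSeven.meet_step (S : NilSeven q B N adjE) (i j k : Fin 7)
    (h : i ≠ j ∧ j ≠ k ∧ adjE i j = true ∧ adjE j k = true) (ho : Orth2 (N k) (N i))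
    {x : V} (hx0 : x ≠ 0) (hxi : x ∈ LinearMap.range (N i)) (hxj : x ∈ LinearMap.range (N j)) :
    x ∈ LinearMap.range (N k) := by
  refine (S.br j k h.2.1 h.2.2.2).mem_of_zero hxj ?_
  obtain ⟨v, rfl⟩ := hxi
  exact ho v

/-- Otherwise the dimension is at least twelve. -/
theorem NilSeven.false_of_disjoint (S : NilSeven q B N adjE) (hdim : finrank (ZMod 2) V < 12)
    (hd : ∀ i j : Fin 7, adjE i j = true → i.val < 6 → j.val < 6 → ¬ Meet (N i) (N j)) : False := by
  obtain ⟨o02, o03, o04, o05, o13, o14, o15, o24, o25, o35, -⟩ := S.orth_all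
  let L : Fin 6 → Fin 7 := Fin.castSucc
  let Φ : ((i : Fin 6) → ↥(LinearMap.range (N (L i)))) →ₗ[ZMod 2] V :=
    ∑ i : Fin 6, (LinearMap.range (N (L i))).subtype ∘ₗ LinearMap.proj i
  have hinj : Function.Injective Φ := by
    rw [← LinearMap.ker_eq_bot, LinearMap.ker_eq_bot']
    intro c hc
    have z : ∀ (k j : Fin 7) (w : V), w ∈ LinearMap.range (N j) → Orth2 (N k) (N j) → N k w = 0 :=
      fun k j w hw ho => by obtain ⟨v, rfl⟩ := hw; exact ho v
    have disj : ∀ (k j : Fin 7) (w : V), adjE k j = true → k.val < 6 → j.val < 6 →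
        w ∈ LinearMap.range (N j) → N k w = 0 → w = 0 := fun k j w ha hk hj hw h0 => by
      by_contra hw0
      have hne : j ≠ k := (adjE_facts k j ha).1
      have ha' : adjE j k = true := (adjE_facts k j ha).2
      exact hd k j ha hk hj ⟨w, hw0, (S.br j k hne ha').mem_of_zero hw h0, hw⟩
    have hcs : (c 0 : V) + c 1 + c 2 + c 3 + c 4 + c 5 = 0 := by
      simpa [Φ, Fin.sum_univ_six] using hc
    have m0 := (c 0).2; have m1 := (c 1).2; have m2 := (c 2).2
    have m3 := (c 3).2; have m4 := (c 4).2; have m5 := (c 5).2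
    have app : ∀ k : Fin 7, N k (c 0) + N k (c 1) + N k (c 2) + N k (c 3) + N k (c 4) + N k (c 5) = 0 :=
      fun k => by rw [← map_add, ← map_add, ← map_add, ← map_add, ← map_add, hcs, map_zero]
    have sw := fun (i j : Fin 7) (h : i ≠ j ∧ adjE i j = false) => S.orth_swap i j h
    have k1 : (c 1 : V) = 0 := disj 0 1 _ (by decide) (by decide) (by decide) m1 (by
      have := app 0
      rwa [(S.nil 0).range_zero m0, z 0 2 _ m2 o02, z 0 3 _ m3 o03, z 0 4 _ m4 o04, z 0 5 _ m5 o05,
        zero_add, add_zero, add_zero, add_zero, add_zero] at this)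
    have k4 : (c 4 : V) = 0 := disj 5 4 _ (by decide) (by decide) (by decide) m4 (by
      have := app 5
      rwa [z 5 0 _ m0 (sw 0 5 (by decide) o05), z 5 1 _ m1 (sw 1 5 (by decide) o15),
        z 5 2 _ m2 (sw 2 5 (by decide) o25), z 5 3 _ m3 (sw 3 5 (by decide) o35),
        (S.nil 5).range_zero m5, zero_add, zero_add, zero_add, zero_add, add_zero] at this)
    have k3 : (c 3 : V) = 0 := disj 2 3 _ (by decide) (by decide) (by decide) m3 (by
      have := app 2
      rwa [z 2 0 _ m0 (sw 0 2 (by decide) o02), k1, map_zero, (S.nil 2).range_zero m2,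
        z 2 4 _ m4 o24, z 2 5 _ m5 o25, zero_add, zero_add, zero_add, add_zero, add_zero] at this)
    have k5 : (c 5 : V) = 0 := disj 4 5 _ (by decide) (by decide) (by decide) m5 (by
      have := app 4
      rwa [z 4 0 _ m0 (sw 0 4 (by decide) o04), k1, map_zero, z 4 2 _ m2 (sw 2 4 (by decide) o24), k3,
        map_zero, k4, map_zero, zero_add, zero_add, zero_add, zero_add, zero_add] at this)
    have k2 : (c 2 : V) = 0 := disj 3 2 _ (by decide) (by decide) (by decide) m2 (by
      have := app 3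
      rwa [z 3 0 _ m0 (sw 0 3 (by decide) o03), k1, k3, k4, k5, map_zero, add_zero, add_zero, add_zero,
        add_zero, zero_add] at this)
    have k0 : (c 0 : V) = 0 := by rwa [k1, k2, k3, k4, k5, add_zero, add_zero, add_zero, add_zero, add_zero] at hcs
    funext i
    fin_cases i <;> exact Subtype.ext (by assumption)
  have h := LinearMap.finrank_le_finrank_of_injective hinj
  rw [Module.finrank_pi_fintype] at h
  simp only [(S.nil _).rk, Finset.sum_const, Finset.card_univ, Fintype.card_fin] at h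
  simp at h
  omega

/-- The ranges share a nonsingular vector. -/
theorem NilSeven.exists_common (S : NilSeven q B N adjE) (hdim : finrank (ZMod 2) V < 12) :
    ∃ x, q x = 1 ∧ ∀ i, N i x = 0 := by
  obtain ⟨o02, o03, o04, o05, o13, o14, o15, o24, o25, o35, o16⟩ := S.orth_all
  have sw := fun (i j : Fin 7) (h : i ≠ j ∧ adjE i j = false) => S.orth_swap i j h
  by_cases hM : Meet (N 0) (N 1)
  · obtain ⟨x, x0, h0, h1⟩ := hM
    have h2 := S.meet_step 0 1 2 (by decide) (sw 0 2 (by decide) o02) x0 h0 h1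
    have h3 := S.meet_step 1 2 3 (by decide) (sw 1 3 (by decide) o13) x0 h1 h2
    have h4 := S.meet_step 2 3 4 (by decide) (sw 2 4 (by decide) o24) x0 h2 h3
    have h5 := S.meet_step 3 4 5 (by decide) (sw 3 5 (by decide) o35) x0 h3 h4
    have h6 := S.meet_step 1 2 6 (by decide) (sw 1 6 (by decide) o16) x0 h1 h2
    refine ⟨x, (S.br 0 1 (by decide) (by decide)).meet_nonsingular S.space (S.nil 0) (S.nil 1)
      (fun e => absurd (S.inj e) (by decide)) x0 h0 h1, fun i => ?_⟩
    fin_cases i <;> exact (S.nil _).range_zero (by assumption)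
  · exfalso
    have n01 := hM
    have up : ∀ i j k : Fin 7, (i ≠ j ∧ j ≠ k ∧ adjE k j = true ∧ adjE j i = true) → Orth2 (N i) (N k) →
        ¬ Meet (N i) (N j) → ¬ Meet (N j) (N k) := by
      rintro i j k h ho hn ⟨x, x0, hj, hk⟩
      exact hn ⟨x, x0, S.meet_step k j i ⟨h.2.1.symm, h.1.symm, h.2.2.1, h.2.2.2⟩ ho x0 hk hj, hj⟩
    have n12 := up 0 1 2 (by decide) o02 n01
    have n23 := up 1 2 3 (by decide) o13 n12
    have n34 := up 2 3 4 (by decide) o24 n23
    have n45 := up 3 4 5 (by decide) o35 n34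
    have flip : ∀ {a b : V →ₗ[ZMod 2] V}, ¬ Meet a b → ¬ Meet b a := fun h ⟨x, a, b, c⟩ => h ⟨x, a, c, b⟩
    refine S.false_of_disjoint hdim fun i j ha hi hj => ?_
    fin_cases i <;> fin_cases j <;>
      first | assumption | exact flip (by assumption) | exact absurd ha (by decide) |
        exact absurd hi (by decide) | exact absurd hj (by decide)

end Cfsg.Lib.CoTwoType
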