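import Cfsg.Agent.Lib.CoTwoType.NoFixed
import Cfsg.Agent.Lib.CoTwoType.Untwist

/-!
# The image of the centralizer fixes no vector

A fixed non-singular vector gives a fixed element of order four; a singular one is impossible, as the
fixed vectors of the cube of an element of order nine would be too many.
-/

set_option autoImplicit false
set_option maxRecDepth 100000
set_option linter.style.haveILetI false
set_option linter.unusedSectionVars false

namespace Cfsg.Lib.CoTwoType

open Cfsg Module Cfsg.Lib.Linear.Orth Cfsg.Lib.Extra.Wide Cfsg.Lib.CoOneLocal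
open Cfsg.Lib.SpSix (SpGrp)
open scoped Matrix

/-- A free action of a group of order nine. -/
theorem nine_dvd {A M : Type*} [Group A] [MulAction A M] [Finite M] (hA : Nat.card A = 9)
    (hfree : ∀ (a : A) (m : M), a • m = m → a = 1) : 9 ∣ Nat.card M := by
  classical
  haveI : Finite A := Nat.finite_of_card_ne_zero (by omega)
  haveI : Fintype (MulAction.orbitRel.Quotient A M) := Fintype.ofFinite _
  rw [Nat.card_congr (MulAction.selfEquivSigmaOrbitsQuotientStabilizer A M), Nat.card_sigma]
  refine Finset.dvd_sum fun ω _ => ?_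
  rw [show MulAction.stabilizer A ω.out = ⊥ from (Subgroup.eq_bot_iff_forall _).2 fun a ha => hfree a _ ha]
  show 9 ∣ (⊥ : Subgroup A).index
  rw [Subgroup.index_bot, hA]

theorem singular_count : (Finset.univ.filter fun v : V8 => qp v = 0).card = 136 := by decide +kernel

/-- The code of an element of order nine. -/
def nineCode : ℕ := 63656112812

open Cfsg.Lib.CoThreeM12.SpCtl in
theorem nineCode_ok : valid nineCode = true ∧
    (let x3 := cmp (cmp nineCode nineCode) nineCode
     Nat.beq x3 one = false ∧ Nat.beq (cmp (cmp x3 x3) x3) one = true) := by decide +kernel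

open Cfsg.Lib.CoThreeM12.SpCtl in
theorem exists_nine : ∃ g : SpGrp, g ^ 9 = 1 ∧ g ^ 3 ≠ 1 := by
  obtain ⟨hv, h3, h9⟩ := nineCode_ok
  obtain ⟨g, hg⟩ := exists_of_valid hv
  rw [← hg, cmp_enc, cmp_enc] at h3
  rw [← hg, cmp_enc, cmp_enc, cmp_enc, cmp_enc, Nat.beq_eq, eq_one_iff] at h9
  refine ⟨g, ?_, fun e => ?_⟩
  · rw [show (9 : ℕ) = 3 * 3 from rfl, pow_mul, pow_three', pow_three']
    exact h9
  · rw [pow_three'] at e
    rw [e, enc_one, Nat.beq_refl] at h3
    exact Bool.noConfusion h3

/-- An element of order nine fixes no singular vector. -/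
theorem nine_no_singular (g : GL I8 (ZMod 2)) (hiso : ∀ u, qp (g.val *ᵥ u) = qp u) (h9 : g ^ 9 = 1)
    (h3 : g ^ 3 ≠ 1) {v : V8} (hv : g.val *ᵥ v = v) (h0 : qp v = 0) : v = 0 := by
  classical
  by_contra hne
  set h := g ^ 3 with hh
  let A : Subgroup (GL I8 (ZMod 2)) := Subgroup.zpowers g
  have ho : orderOf g = 9 := by
    haveI : Fact (Nat.Prime 3) := ⟨Nat.prime_three⟩
    exact orderOf_eq_prime_pow (p := 3) (n := 1) (by simpa [hh] using h3) (by simpa using h9)
  have hA : Nat.card A = 9 := by rw [Nat.card_zpowers, ho]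
  have hisoA : ∀ a ∈ A, ∀ u, qp ((a : GL I8 (ZMod 2)).val *ᵥ u) = qp u := by
    intro a ha
    obtain ⟨n, rfl⟩ := (Submonoid.mem_powers_iff _ _).1 ((mem_powers_iff_mem_zpowers).2 ha)
    induction n with
    | zero => intro u; simp
    | succ n ih =>
      intro u
      rw [pow_succ, Units.val_mul, ← Matrix.mulVec_mulVec]
      exact (ih (Subgroup.pow_mem _ (Subgroup.mem_zpowers g) n) _).trans (hiso u)
  have hcomm : ∀ a ∈ A, Commute a h := fun a ha => by
    obtain ⟨n, rfl⟩ := Subgroup.mem_zpowers_iff.1 ha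
    exact ((Commute.refl g).zpow_left n).pow_right 3
  have key : ∀ P : Finset V8, (∀ a ∈ A, ∀ u ∈ P, (a : GL I8 (ZMod 2)).val *ᵥ u ∈ P) →
      9 ∣ (P.filter fun u => h.val *ᵥ u ≠ u).card := by
    intro P hP
    let M := {u : V8 // u ∈ P.filter fun u => h.val *ᵥ u ≠ u}
    have hmem : ∀ (a : A) (u : M), (a : GL I8 (ZMod 2)).val *ᵥ u.1 ∈ P.filter fun u => h.val *ᵥ u ≠ u := by
      intro a u
      obtain ⟨hu, hu'⟩ := Finset.mem_filter.1 u.2
      refine Finset.mem_filter.2 ⟨hP a a.2 _ hu, fun e => hu' ?_⟩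
      have e' : (((a : GL I8 (ZMod 2))⁻¹ * (h * a) : GL I8 (ZMod 2))).val *ᵥ u.1 = u.1 := by
        rw [Units.val_mul, Units.val_mul, ← Matrix.mulVec_mulVec, ← Matrix.mulVec_mulVec, e, Matrix.mulVec_mulVec,
          ← Units.val_mul, inv_mul_cancel, Units.val_one, Matrix.one_mulVec]
      rwa [← (hcomm a a.2).eq, inv_mul_cancel_left] at e'
    letI : MulAction A M :=
      { smul := fun a u => ⟨(a : GL I8 (ZMod 2)).val *ᵥ u.1, hmem a u⟩
        one_smul := fun u => Subtype.ext (by
          show ((1 : A) : GL I8 (ZMod 2)).val *ᵥ u.1 = u.1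
          simp)
        mul_smul := fun a b u => Subtype.ext (by
          show ((a * b : A) : GL I8 (ZMod 2)).val *ᵥ u.1 = (a : GL I8 (ZMod 2)).val *ᵥ ((b : GL I8 (ZMod 2)).val *ᵥ u.1)
          rw [Subgroup.coe_mul, Units.val_mul, Matrix.mulVec_mulVec]) }
    have hfree : ∀ (a : A) (m : M), a • m = m → a = 1 := by
      intro a m e
      by_contra ha
      refine (Finset.mem_filter.1 m.2).2 ?_
      let S : Subgroup A := MulAction.stabilizer A m
      have hS : a ∈ S := e
      have hd : orderOf a ∣ 9 := hA ▸ orderOf_dvd_natCard a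
      have h1 : orderOf a ≠ 1 := fun q => ha (orderOf_eq_one_iff.1 q)
      have hd3 : 3 ∣ Nat.card S := by
        have h2 : orderOf (⟨a, hS⟩ : S) ∣ Nat.card S := orderOf_dvd_natCard _
        rw [Subgroup.orderOf_mk] at h2
        refine dvd_trans ?_ h2
        obtain ⟨k, hk, he⟩ := (Nat.dvd_prime_pow Nat.prime_three).1 (show orderOf a ∣ 3 ^ 2 from hd)
        rcases k with _ | k
        · exact absurd (by simpa using he) h1
        · exact he ▸ dvd_pow_self 3 (Nat.succ_ne_zero k)
      have hcyc : (⟨h, Subgroup.pow_mem _ (Subgroup.mem_zpowers g) 3⟩ : A) ∈ S := by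
        obtain ⟨b, hb⟩ := exists_prime_orderOf_dvd_card' (hp := ⟨Nat.prime_three⟩) 3 hd3
        have hbA : orderOf ((b : A) : GL I8 (ZMod 2)) = 3 := by
          rw [Subgroup.orderOf_coe, Subgroup.orderOf_coe, hb]
        obtain ⟨n, hn⟩ := (Submonoid.mem_powers_iff _ _).1 ((mem_powers_iff_mem_zpowers).2 (b : A).2)
        have h3n : 3 ∣ n := by
          have h4 : ((b : A) : GL I8 (ZMod 2)) ^ 3 = 1 := hbA ▸ pow_orderOf_eq_one _
          rw [← hn, ← pow_mul, ← orderOf_dvd_iff_pow_eq_one, ho] at h4
          omega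
        obtain ⟨l, rfl⟩ := h3n
        have hl : h ^ l = ((b : A) : GL I8 (ZMod 2)) := by rw [hh, ← pow_mul, hn]
        have hl3 : l % 3 ≠ 0 := fun q => by
          have : h ^ l = 1 := by
            rw [← Nat.div_add_mod l 3, q, add_zero, pow_mul, hh, ← pow_mul g, h9, one_pow]
          rw [hl] at this
          rw [this, orderOf_one] at hbA
          omega
        obtain ⟨j, hj⟩ : ∃ j, l * j % 3 = 1 := by
          rcases (by omega : l % 3 = 1 ∨ l % 3 = 2) with q | q
          · exact ⟨1, by omega⟩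
          · exact ⟨2, by omega⟩
        have h33 : h ^ 3 = 1 := by rw [hh, ← pow_mul, h9]
        have hhl : h ^ (l * j) = h := by
          rw [← Nat.div_add_mod (l * j) 3, hj, pow_add, pow_mul, h33, one_pow, one_mul, pow_one]
        have : (⟨h, Subgroup.pow_mem _ (Subgroup.mem_zpowers g) 3⟩ : A) = (b : A) ^ j := Subtype.ext (by
          rw [SubmonoidClass.coe_pow, ← hl, ← pow_mul, hhl])
        rw [this]
        exact pow_mem b.2 j
      exact congrArg Subtype.val hcyc
    have := nine_dvd hA hfree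
    rwa [Nat.card_eq_fintype_card, Fintype.card_coe] at this
  have h1 := key Finset.univ fun a _ u _ => Finset.mem_univ _
  have h2 := key (Finset.univ.filter fun u => qp u = 0) fun a ha u hu => by
    rw [Finset.mem_filter] at hu ⊢
    exact ⟨Finset.mem_univ _, (hisoA a ha u).trans hu.2⟩
  let U : Submodule (ZMod 2) V8 := fixSpace h
  have hU : ∀ u, u ∈ U ↔ h.val *ᵥ u = u := fun u => mem_fixSpace
  have hUc : Nat.card U = (Finset.univ.filter fun u : V8 => h.val *ᵥ u = u).card := by
    rw [Nat.card_eq_fintype_card]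
    exact Fintype.card_of_subtype _ fun u => by simp [hU]
  have h256 : (Finset.univ : Finset V8).card = 256 := by decide +kernel
  have hsum := Finset.card_filter_add_card_filter_not (s := (Finset.univ : Finset V8)) (fun u => h.val *ᵥ u = u)
  have hsum2 := Finset.card_filter_add_card_filter_not (s := Finset.univ.filter fun u : V8 => qp u = 0)
    (fun u => h.val *ᵥ u = u)
  rw [singular_count] at hsum2
  have hpow : ∃ k, k ≤ 8 ∧ Nat.card U = 2 ^ k := by
    refine ⟨finrank (ZMod 2) U, ?_, ?_⟩
    · have := Submodule.finrank_le U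
      rw [finrank_fintype_fun_eq_card] at this
      simpa using this
    · rw [Module.natCard_eq_pow_finrank (K := ZMod 2)]
      simp
  obtain ⟨k, hk, hUk⟩ := hpow
  have hne8 : Nat.card U ≠ 256 := fun e => h3 (gl_ext fun u => by
    have htop : (Finset.univ.filter fun u : V8 => h.val *ᵥ u = u) = Finset.univ :=
      Finset.eq_univ_of_card _ (by rw [← hUc, e, ← h256]; rfl)
    have hu := Finset.mem_filter.1 (htop.ge (Finset.mem_univ u))
    rw [hu.2, Units.val_one, Matrix.one_mulVec])
  have hle : ((Finset.univ.filter fun u : V8 => qp u = 0).filter fun u => h.val *ᵥ u = u).card ≤ Nat.card U := by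
    rw [hUc]; exact Finset.card_le_card fun u hu => by simp_all
  have htwo : 2 ≤ ((Finset.univ.filter fun u : V8 => qp u = 0).filter fun u => h.val *ᵥ u = u).card := by
    refine Finset.one_lt_card.2 ⟨0, ?_, v, ?_, fun e => hne e.symm⟩
    · simp only [Finset.mem_filter, Finset.mem_univ, true_and, Matrix.mulVec_zero, and_true]
      decide +kernel
    · simp only [Finset.mem_filter, Finset.mem_univ, true_and]
      refine ⟨h0, ?_⟩
      rw [hh, pow_three', Units.val_mul, Units.val_mul, ← Matrix.mulVec_mulVec, ← Matrix.mulVec_mulVec, hv, hv, hv]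
  replace h1 : 9 ∣ ((Finset.univ : Finset V8).filter fun u => ¬ h.val *ᵥ u = u).card := by convert h1 using 3
  replace h2 : 9 ∣ ((Finset.univ.filter fun u : V8 => qp u = 0).filter fun u => ¬ h.val *ᵥ u = u).card := by
    convert h2 using 3
  replace hsum : ((Finset.univ : Finset V8).filter fun u => h.val *ᵥ u = u).card +
      ((Finset.univ : Finset V8).filter fun u => ¬ h.val *ᵥ u = u).card = 256 := by
    rw [← h256]; convert hsum using 4
  replace hsum2 : ((Finset.univ.filter fun u : V8 => qp u = 0).filter fun u => h.val *ᵥ u = u).card +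
      ((Finset.univ.filter fun u : V8 => qp u = 0).filter fun u => ¬ h.val *ᵥ u = u).card = 136 := by
    convert hsum2 using 4
  rw [← hUc, hUk] at hsum
  rw [hUk] at hle hne8
  interval_cases k <;> norm_num at hsum hle hne8 <;> omega

variable {G : Type*} [Group G] [Finite G]

/-- No vector is fixed. -/
theorem Act.noFixed (D : Act G) (hO : Cfsg.oddCore G = ⊥) (hZ : Subgroup.center G = ⊥)
    (hcard : Nat.card D.Q = 2 ^ 9) : D.NoFixed := by
  classical
  intro v hv
  obtain ⟨σ⟩ := D.R_iso
  have h01 : ∀ t : ZMod 2, t = 0 ∨ t = 1 := by decide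
  rcases h01 (qp v) with h0 | h1
  · obtain ⟨g, h9, h3⟩ := exists_nine
    refine nine_no_singular (σ.symm g).1 (fun u => ?_) ?_ (fun e => h3 ?_) (hv _ (σ.symm g).2) h0
    · exact mem_iso.1 (omegaGL_le_iso (D.R_le (σ.symm g).2)) u
    · rw [← SubmonoidClass.coe_pow, ← map_pow, h9, map_one, Subgroup.coe_one]
    · rw [← SubmonoidClass.coe_pow, ← map_pow, ← Subgroup.coe_one] at e
      exact (MulEquiv.map_eq_one_iff σ.symm).1 (Subtype.ext e)
  · exfalso
    obtain ⟨x, hx, rfl⟩ := D.cls_surj v
    let π : G → SpGrp := fun c => if hc : Commute c D.z then σ ⟨D.act c, D.act_memR c hc⟩ else 1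
    have hπ : ∀ {c}, ∀ hc : Commute c D.z, π c = σ ⟨D.act c, D.act_memR c hc⟩ := fun hc => dif_pos hc
    have F : Fixed D.Q D.z x π := by
      refine ⟨D.ctx, hcard, fun c d hc hd => ?_, fun g => ?_, fun c hc => ?_, hx, ?_, fun c hc => ?_⟩
      · rw [hπ hc, hπ hd, hπ (hc.mul_left hd), ← map_mul]
        exact congrArg σ (Subtype.ext (D.act_mul c d hc hd))
      · obtain ⟨c, hc, e⟩ := D.act_surj _ (σ.symm g).2
        exact ⟨c, hc, by rw [hπ hc]; exact σ.eq_symm_apply.1 (Subtype.ext e)⟩
      · rw [hπ hc, MulEquiv.map_eq_one_iff, ← D.act_ker c hc]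
        exact ⟨fun e => congrArg Subtype.val e, fun e => Subtype.ext e⟩
      · refine (D.ctx.sq x hx).resolve_left fun e => ?_
        rw [(D.cls_sq x hx).1 e] at h1
        exact zero_ne_one h1
      · exact D.cls_eq hx (D.conj_mem_Q hc hx) (by rw [D.act_cls c hc x hx, hv _ (D.act_memR c hc)])
    exact no_fixed F hO hZ

end Cfsg.Lib.CoTwoType
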