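import Cfsg.Agent.Lib.CoTwoType.Setting
import Cfsg.Agent.Lib.Extra.Wide.Class

/-!
# Isomorphisms of the extraspecial subgroups with a given linear part
-/

set_option autoImplicit false
set_option linter.style.haveILetI false
set_option linter.unusedSectionVars false

namespace Cfsg.Lib.CoTwoType

open Cfsg Module Cfsg.Lib.Linear.Orth Cfsg.Lib.Extra.Wide Cfsg.Lib.CoOneLocal
open scoped Matrix

variable {G H : Type*} [Group G] [Group H]

theorem commute_iff_comm {X : Type*} [Group X] (a b : X) : Commute a b ↔ a * b * a⁻¹ * b⁻¹ = 1 :=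
  ⟨fun h => by rw [h.eq]; group, fun h => mul_inv_eq_iff_eq_mul.1 (mul_inv_eq_one.1 h)⟩

theorem Act.cls_z_mul (D : Act G) {a : G} (ha : a ∈ D.Q) : D.cls (D.z * a) = D.cls a := by
  rw [D.cls_mul _ D.ctx.mem _ ha, D.cls_z, zero_add]

theorem Act.sq_mem (D : Act G) {a : G} (ha : a ∈ D.Q) : a * a = 1 ∨ a * a = D.z := D.ctx.sq a ha

/-- The pairs of classes related by a linear map. -/
def clsPairs (D : Act G) (E : Act H) (g : GL I8 (ZMod 2)) : Subgroup (G × H) where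
  carrier := {p | p.1 ∈ D.Q ∧ p.2 ∈ E.Q ∧ E.cls p.2 = g.val *ᵥ D.cls p.1}
  one_mem' := ⟨one_mem _, one_mem _, by simp [D.cls_one, E.cls_one]⟩
  mul_mem' := fun {p q} hp hq => ⟨mul_mem hp.1 hq.1, mul_mem hp.2.1 hq.2.1, by
    show E.cls (p.2 * q.2) = g.val *ᵥ D.cls (p.1 * q.1)
    rw [E.cls_mul _ hp.2.1 _ hq.2.1, D.cls_mul _ hp.1 _ hq.1, Matrix.mulVec_add, hp.2.2, hq.2.2]⟩
  inv_mem' := fun {p} hp => ⟨inv_mem hp.1, inv_mem hp.2.1, by
    show E.cls p.2⁻¹ = g.val *ᵥ D.cls p.1⁻¹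
    rw [E.cls_inv hp.2.1, D.cls_inv hp.1, hp.2.2]⟩

variable (D : Act G) (E : Act H) {g : GL I8 (ZMod 2)} (hg : g ∈ isometryGroup (ZMod 2) qp)

include hg

theorem clsPairs_sq {p : G × H} (hp : p ∈ clsPairs D E g) : p * p = 1 ∨ p * p = (D.z, E.z) := by
  obtain ⟨h1, h2, h3⟩ := hp
  have hiff : p.2 * p.2 = 1 ↔ p.1 * p.1 = 1 := by
    rw [E.cls_sq _ h2, D.cls_sq _ h1, h3, mem_iso.1 hg]
  rcases D.sq_mem h1 with e | e
  · exact Or.inl (Prod.ext e (hiff.2 e))
  · exact Or.inr (Prod.ext e ((E.sq_mem h2).resolve_left fun e2 => D.ctx.ne_one (e ▸ hiff.1 e2)))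

theorem clsPairs_comm {p q : G × H} (hp : p ∈ clsPairs D E g) (hq : q ∈ clsPairs D E g) :
    p * q * p⁻¹ * q⁻¹ = 1 ∨ p * q * p⁻¹ * q⁻¹ = (D.z, E.z) := by
  obtain ⟨h1, h2, h3⟩ := hp
  obtain ⟨k1, k2, k3⟩ := hq
  have hiff : Commute p.2 q.2 ↔ Commute p.1 q.1 := by
    rw [E.cls_comm _ h2 _ k2, D.cls_comm _ h1 _ k1, h3, k3]
    have e : E.B = D.B := LinearMap.ext fun u => LinearMap.ext fun v => by
      rw [← E.space.polar, ← D.space.polar]
    rw [e, D.space.B_act hg]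
  rcases D.ctx.comm _ h1 _ k1 with e | e
  · exact Or.inl (Prod.ext e ((commute_iff_comm _ _).1 (hiff.2 ((commute_iff_comm _ _).2 e))))
  · exact Or.inr (Prod.ext e ((E.ctx.comm _ h2 _ k2).resolve_left fun e2 =>
      D.ctx.ne_one (e ▸ (commute_iff_comm _ _).1 (hiff.1 ((commute_iff_comm _ _).2 e2)))))

/-- An isometry lifts to an isomorphism of the extraspecial subgroups. -/
theorem exists_qiso [Finite G] [Finite H] :
    ∃ f : ↥D.Q →* H, Function.Injective f ∧ f.range = E.Q ∧ f ⟨D.z, D.ctx.mem⟩ = E.z ∧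
      ∀ a : ↥D.Q, E.cls (f a) = g.val *ᵥ D.cls (a : G) := by
  classical
  set M := clsPairs D E g with hM
  set zz : G × H := (D.z, E.z) with hzz
  set k : G × H := (1, E.z) with hk
  have hzzM : zz ∈ M := ⟨D.ctx.mem, E.ctx.mem, by simp [hzz, D.cls_z, E.cls_z]⟩
  have hkM : k ∈ M := ⟨one_mem _, E.ctx.mem, by simp [hk, D.cls_one, E.cls_z]⟩
  obtain ⟨K, -, hKmax⟩ := Set.Finite.exists_le_maximal
    (s := {K : Subgroup (G × H) | K ≤ M ∧ zz ∈ K ∧ k ∉ K}) (Set.toFinite _) (a := Subgroup.zpowers zz)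
    ⟨Subgroup.zpowers_le.2 hzzM, Subgroup.mem_zpowers zz, fun h => by
      obtain ⟨i, hi⟩ := Subgroup.mem_zpowers_iff.1 h
      have h2 : zz ^ (2 : ℤ) = 1 := by
        rw [zpow_ofNat, pow_two]; exact Prod.ext D.ctx.sq_z E.ctx.sq_z
      rcases Int.even_or_odd i with ⟨j, rfl⟩ | ⟨j, rfl⟩
      · rw [← two_mul, zpow_mul, h2, one_zpow] at hi
        exact E.ctx.ne_one (congrArg Prod.snd hi).symm
      · rw [zpow_add, zpow_mul, h2, one_zpow, one_mul, zpow_one] at hi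
        exact D.ctx.ne_one (congrArg Prod.fst hi)⟩
  obtain ⟨hKM, hzK, hkK⟩ := hKmax.prop
  have hnorm : ∀ y ∈ M, ∀ x ∈ K, y * x * y⁻¹ ∈ K := fun y hy x hx => by
    have h : y * x * y⁻¹ * x⁻¹ ∈ K := by
      rcases clsPairs_comm D E hg hy (hKM hx) with e | e <;> rw [e]
      exacts [one_mem _, hzK]
    simpa using mul_mem h hx
  have hsqK : ∀ y ∈ M, y * y ∈ K := fun y hy => by
    rcases clsPairs_sq D E hg hy with e | e <;> rw [e]
    exacts [one_mem _, hzK]
  have hhalf : ∀ x ∈ M, x ∈ K ∨ k * x ∈ K := by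
    intro x hx
    by_contra hne
    push Not at hne
    let K' : Subgroup (G × H) :=
      { carrier := {y | y ∈ K ∨ x⁻¹ * y ∈ K}
        one_mem' := Or.inl (one_mem _)
        mul_mem' := fun {a b} ha hb => by
          rcases ha with ha | ha <;> rcases hb with hb | hb
          · exact Or.inl (mul_mem ha hb)
          · refine Or.inr ?_
            have h1 := mul_mem (hnorm x⁻¹ (inv_mem hx) a ha) hb
            simpa [mul_assoc] using h1
          · refine Or.inr ?_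
            have h1 := mul_mem ha hb
            simpa [mul_assoc] using h1
          · refine Or.inl ?_
            have h1 := mul_mem (mul_mem (hnorm x hx _ ha) (hsqK x hx)) hb
            simpa [mul_assoc] using h1
        inv_mem' := fun {a} ha => by
          rcases ha with ha | ha
          · exact Or.inl (inv_mem ha)
          · refine Or.inr ?_
            have h1 := mul_mem (inv_mem (hsqK x hx)) (hnorm x hx _ (inv_mem ha))
            simpa [mul_assoc] using h1 }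
    have hK' : K' ≤ M := by
      rintro y (hy | hy)
      · exact hKM hy
      · simpa using mul_mem hx (hKM hy)
    have hlt : K < K' := by
      refine lt_of_le_of_ne (fun y hy => Or.inl hy) fun e => hne.1 ?_
      rw [e]
      exact Or.inr (by simp)
    have hmem : k ∈ K' := by
      by_contra hk'
      exact hlt.not_ge (hKmax.le_of_ge (show K' ∈ {K : Subgroup (G × H) | K ≤ M ∧ zz ∈ K ∧ k ∉ K} from
        ⟨hK', Or.inl hzK, hk'⟩) hlt.le)
    rcases hmem with h | h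
    · exact hkK h
    · refine hne.2 ?_
      have h1 := hsqK x hx
      have h2 := mul_mem (hnorm x hx _ h) h1
      simpa [mul_assoc] using h2
  let π : ↥K →* ↥D.Q := MonoidHom.mk' (fun p => ⟨p.1.1, (hKM p.2).1⟩) fun _ _ => rfl
  have hinj : Function.Injective π := by
    refine (injective_iff_map_eq_one π).2 fun p hp => ?_
    have h1 : p.1.1 = 1 := congrArg Subtype.val hp
    obtain ⟨-, h2, h3⟩ := hKM p.2
    rw [h1, D.cls_one, Matrix.mulVec_zero] at h3
    rcases (E.cls_ker _ h2).1 h3 with e | e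
    · exact Subtype.ext (Prod.ext h1 e)
    · exact absurd p.2 (by rw [show (p : G × H) = k from Prod.ext h1 e]; exact hkK)
  have hsurj : Function.Surjective π := by
    rintro ⟨a, ha⟩
    obtain ⟨b, hb, hb'⟩ := E.cls_surj (g.val *ᵥ D.cls a)
    rcases hhalf (a, b) ⟨ha, hb, hb'⟩ with h | h
    · exact ⟨⟨_, h⟩, rfl⟩
    · exact ⟨⟨_, h⟩, Subtype.ext (one_mul a)⟩
  let e := MulEquiv.ofBijective π ⟨hinj, hsurj⟩
  let f : ↥D.Q →* H := ((MonoidHom.snd G H).comp K.subtype).comp e.symm.toMonoidHom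
  have hf : ∀ p : ↥K, f (π p) = p.1.2 := fun p => by
    show (e.symm (e p)).1.2 = p.1.2
    rw [e.symm_apply_apply]
  have hfcls : ∀ a : ↥D.Q, f a ∈ E.Q ∧ E.cls (f a) = g.val *ᵥ D.cls (a : G) := fun a => by
    obtain ⟨p, rfl⟩ := hsurj a
    rw [hf]
    exact ⟨(hKM p.2).2.1, (hKM p.2).2.2⟩
  have hfz : f ⟨D.z, D.ctx.mem⟩ = E.z := hf ⟨zz, hzK⟩
  have hfi : Function.Injective f := by
    refine (injective_iff_map_eq_one f).2 fun a ha => ?_
    obtain ⟨p, rfl⟩ := hsurj a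
    have h1 : p.1.2 = 1 := (hf p).symm.trans ha
    obtain ⟨h2, -, h3⟩ := hKM p.2
    rw [h1, E.cls_one] at h3
    have h4 : D.cls p.1.1 = 0 := act_injective g (h3.symm.trans (Matrix.mulVec_zero _).symm)
    rcases (D.cls_ker _ h2).1 h4 with e1 | e1
    · exact Subtype.ext e1
    · exfalso
      rw [show π p = ⟨D.z, D.ctx.mem⟩ from Subtype.ext e1, hfz] at ha
      exact E.ctx.ne_one ha
  refine ⟨f, hfi, ?_, hfz, fun a => (hfcls a).2⟩
  refine le_antisymm (by rintro _ ⟨a, rfl⟩; exact (hfcls a).1) fun b hb => ?_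
  obtain ⟨a, ha, hab⟩ := D.cls_surj ((g⁻¹ : GL I8 (ZMod 2)).val *ᵥ E.cls b)
  have h1 : E.cls (f ⟨a, ha⟩) = E.cls b := by
    rw [(hfcls ⟨a, ha⟩).2, hab, ← mul_act, mul_inv_cancel, Units.val_one, Matrix.one_mulVec]
  rcases E.cls_eq (hfcls ⟨a, ha⟩).1 hb h1 with e1 | e1
  · exact ⟨_, e1.symm⟩
  · exact ⟨⟨D.z, D.ctx.mem⟩ * ⟨a, ha⟩, by rw [map_mul, hfz]; exact e1.symm⟩

omit hg

/-- An automorphism trivial on the classes is inner. -/
theorem Act.exists_inner (E : Act H) (φ : ↥E.Q →* H) (hφQ : ∀ a, φ a ∈ E.Q)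
    (hφz : φ ⟨E.z, E.ctx.mem⟩ = E.z) (hcls : ∀ a : ↥E.Q, E.cls (φ a) = E.cls (a : H)) :
    ∃ w ∈ E.Q, ∀ a : ↥E.Q, φ a = w * (a : H) * w⁻¹ := by
  classical
  have hχ : ∀ a : ↥E.Q, φ a = (a : H) ∨ φ a = E.z * (a : H) := fun a => E.cls_eq a.2 (hφQ a) (hcls a).symm
  choose L hLQ hLc using E.cls_surj
  let χ : V8 → ZMod 2 := fun v => if φ ⟨L v, hLQ v⟩ = L v then 0 else 1
  have hconst : ∀ a : ↥E.Q, φ a = pick E.z (χ (E.cls a)) * (a : H) := by
    intro a
    have h0 : φ ⟨L (E.cls a), hLQ _⟩ = pick E.z (χ (E.cls a)) * L (E.cls a) := by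
      by_cases h : φ ⟨L (E.cls a), hLQ _⟩ = L (E.cls a)
      · rw [show χ (E.cls a) = 0 from if_pos h, pick_zero, one_mul, h]
      · rw [show χ (E.cls a) = 1 from if_neg h, pick_one]
        exact (hχ ⟨L (E.cls a), hLQ _⟩).resolve_left h
    rcases E.cls_eq (hLQ (E.cls a)) a.2 (hLc _) with e | e
    · rw [show a = ⟨L (E.cls a), hLQ _⟩ from Subtype.ext e] at *
      simpa [hLc] using h0
    · have ea : a = ⟨E.z, E.ctx.mem⟩ * ⟨L (E.cls a), hLQ _⟩ := Subtype.ext e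
      have hp := (pick_comm (Commute.refl E.z) (χ (E.cls a))).eq
      conv_lhs => rw [ea]
      rw [map_mul, hφz, h0, ← mul_assoc, ← hp, mul_assoc, ← e]
  have hi : ∀ i j : ZMod 2, pick E.z i = pick E.z j → i = j := fun i j e => by
    rcases bit i with rfl | rfl <;> rcases bit j with rfl | rfl <;>
      simp only [pick_zero, pick_one] at e <;>
      first | rfl | exact absurd e.symm E.ctx.ne_one | exact absurd e E.ctx.ne_one
  have hadd : ∀ u v, χ (u + v) = χ u + χ v := by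
    intro u v
    have h1 := hconst (⟨L u, hLQ u⟩ * ⟨L v, hLQ v⟩)
    rw [map_mul, hconst, hconst, Subgroup.coe_mul, E.cls_mul _ (hLQ u) _ (hLQ v), hLc, hLc] at h1
    refine hi _ _ (mul_right_cancel (h1.symm.trans ?_))
    rw [← pick_add E.ctx.sq_z]
    simp only [mul_assoc]
    congr 1
    rw [← mul_assoc, ← (pick_comm (E.ctx.central _ (hLQ u)) _).eq, mul_assoc]
  let Φ : V8 →ₗ[ZMod 2] ZMod 2 :=
    { toFun := χ
      map_add' := hadd
      map_smul' := fun r v => by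
        rcases bit r with rfl | rfl
        · have h := hadd 0 0
          rw [add_zero] at h
          simp [left_eq_add.1 h]
        · simp }
  obtain ⟨w, hw⟩ := (LinearMap.BilinForm.toDual E.B (nondegenerate E.space)).surjective Φ
  refine ⟨L w, hLQ w, fun a => ?_⟩
  rw [hconst a, show χ (E.cls a) = E.B w (E.cls a) from (LinearMap.congr_fun hw _).symm]
  by_cases h : Commute (L w) (a : H)
  · have h0 := (E.cls_comm _ (hLQ w) _ a.2).1 h
    rw [hLc] at h0
    rw [h0, pick_zero, one_mul, h.eq, mul_inv_cancel_right]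
  · have h0 : E.B w (E.cls a) = 1 := (bit _).resolve_left fun h0 => h ((E.cls_comm _ (hLQ w) _ a.2).2 (by rwa [hLc]))
    rw [h0, pick_one]
    refine (mul_inv_eq_iff_eq_mul.1 ((E.ctx.comm _ (hLQ w) _ a.2).resolve_left fun e => h ?_)).symm
    exact mul_inv_eq_iff_eq_mul.1 (mul_inv_eq_one.1 e)

/-- A conjugation carried through an isomorphism of the extraspecial subgroups is a conjugation. -/
theorem exists_partner {f : ↥D.Q →* H} (hf : Function.Injective f) (hfQ : f.range = E.Q)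
    (hfz : f ⟨D.z, D.ctx.mem⟩ = E.z) (hfc : ∀ a : ↥D.Q, E.cls (f a) = g.val *ᵥ D.cls (a : G))
    {c : G} (hc : Commute c D.z) {d : H} (hd : Commute d E.z) (hde : E.act d = g * D.act c * g⁻¹) :
    ∃ c' : H, Commute c' E.z ∧ E.act c' = g * D.act c * g⁻¹ ∧
      ∀ a : ↥D.Q, f ⟨c * a * c⁻¹, D.conj_mem_Q hc a.2⟩ = c' * f a * c'⁻¹ := by
  classical
  have hmem : ∀ a, f a ∈ E.Q := fun a => hfQ ▸ ⟨a, rfl⟩
  have hsurj : ∀ b : ↥E.Q, ∃ a, f a = b := fun b => by
    obtain ⟨b, hb⟩ := b; rw [← hfQ] at hb; exact hb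
  choose inv hinv using hsurj
  let κ : ↥D.Q →* ↥D.Q :=
    MonoidHom.mk' (fun a => ⟨c * a * c⁻¹, D.conj_mem_Q hc a.2⟩) fun a b => Subtype.ext (by
      show c * ((a : G) * b) * c⁻¹ = c * a * c⁻¹ * (c * b * c⁻¹)
      group)
  let φ : ↥E.Q →* H := ((MulAut.conj d⁻¹).toMonoidHom.comp f).comp
    (κ.comp (MonoidHom.mk' inv fun a b => hf (by rw [map_mul, hinv, hinv, hinv]; rfl)))
  have hφ : ∀ a, φ a = d⁻¹ * f (κ (inv a)) * d := fun a => by
    show d⁻¹ * _ * d⁻¹⁻¹ = _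
    rw [inv_inv]; rfl
  have hdQ : ∀ {x}, x ∈ E.Q → d⁻¹ * x * d ∈ E.Q := fun {x} hx => by
    simpa using E.conj_mem_Q hd.inv_left hx
  obtain ⟨w, hw, hwφ⟩ := E.exists_inner φ (fun a => by rw [hφ]; exact hdQ (hmem _))
    (by
      rw [hφ, show inv ⟨E.z, E.ctx.mem⟩ = ⟨D.z, D.ctx.mem⟩ from hf (by rw [hinv, hfz]),
        show κ ⟨D.z, D.ctx.mem⟩ = ⟨D.z, D.ctx.mem⟩ from
          Subtype.ext (show c * D.z * c⁻¹ = D.z by rw [hc.eq, mul_inv_cancel_right]),
        hfz, hd.inv_left.eq, inv_mul_cancel_right])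
    (fun a => by
      refine act_injective (E.act d) ?_
      show (E.act d).val *ᵥ _ = (E.act d).val *ᵥ _
      rw [hφ, ← E.act_cls d hd _ (hdQ (hmem _)), show d * (d⁻¹ * f (κ (inv a)) * d) * d⁻¹ = f (κ (inv a)) by group,
        hfc, show D.cls ((κ (inv a) : ↥D.Q) : G) = (D.act c).val *ᵥ D.cls (inv a : G) from
          D.act_cls c hc _ (inv a).2, hde, ← hinv a, hfc, mul_act, mul_act, inv_act])
  refine ⟨d * w, hd.mul_left (E.ctx.central w hw).symm, ?_, fun a => ?_⟩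
  · rw [E.act_mul _ _ hd (E.ctx.central w hw).symm, (E.act_ker w (E.ctx.central w hw).symm).2 hw, mul_one, hde]
  · have h := hwφ ⟨f a, hmem a⟩
    rw [hφ, show inv ⟨f a, hmem a⟩ = a from hf (hinv _)] at h
    calc f ⟨c * a * c⁻¹, D.conj_mem_Q hc a.2⟩ = d * (d⁻¹ * f (κ a) * d) * d⁻¹ := by
          rw [show κ a = ⟨c * a * c⁻¹, D.conj_mem_Q hc a.2⟩ from rfl]; group
      _ = d * w * f a * (d * w)⁻¹ := by rw [h]; group

end Cfsg.Lib.CoTwoType
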