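import Cfsg.Agent.Lib.SpSix.Symp
import Cfsg.Agent.Lib.CoOneLocal.Space
import Cfsg.Agent.Lib.Extra.Wide.FromHyp
import Cfsg.Agent.Lib.Extra.LargeUnfused

/-!
# The data of an involution centralizer of shape `2^(1+8).Sp6(2)`

The classes and the action of the centralizer on the extraspecial subgroup, the image being a subgroup
of `Ω⁺(8, 2)` isomorphic to `Sp6(2)`; nothing is assumed on fusion.
-/

set_option autoImplicit false
set_option linter.style.haveILetI false
set_option linter.unusedSectionVars false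

namespace Cfsg.Lib.CoTwoType

open Cfsg Module Cfsg.Lib.Linear.Orth Cfsg.Lib.Extra.Wide Cfsg.Lib.CoOneLocal
open scoped Matrix

/-- The form of the model. -/
abbrev qp : V8 → ZMod 2 := Cfsg.quadFormPlus 4 (ZMod 2)

/-- The data of the centralizer, with no assumption on fusion. -/
structure Act (G : Type*) [Group G] where
  /-- The central involution. -/
  z : G
  /-- The extraspecial subgroup. -/
  Q : Subgroup G
  /-- The commutator form. -/
  B : LinearMap.BilinForm (ZMod 2) V8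
  /-- The class of an element of `Q`. -/
  cls : G → V8
  /-- The action of the centralizer. -/
  act : G → GL I8 (ZMod 2)
  ctx : Cfsg.Lib.Extra.Ctx Q z
  space : Space qp B
  cls_mul : ∀ a ∈ Q, ∀ b ∈ Q, cls (a * b) = cls a + cls b
  cls_surj : ∀ v, ∃ a ∈ Q, cls a = v
  cls_ker : ∀ a ∈ Q, cls a = 0 ↔ a = 1 ∨ a = z
  cls_sq : ∀ a ∈ Q, a * a = 1 ↔ qp (cls a) = 0
  cls_comm : ∀ a ∈ Q, ∀ b ∈ Q, Commute a b ↔ B (cls a) (cls b) = 0
  act_mul : ∀ c d, Commute c z → Commute d z → act (c * d) = act c * act d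
  /-- The image of the centralizer. -/
  R : Subgroup (GL I8 (ZMod 2))
  R_le : R ≤ Cfsg.Geo.omegaGL qp
  R_iso : Nonempty (↥R ≃* Cfsg.Lib.SpSix.SpGrp)
  act_memR : ∀ c, Commute c z → act c ∈ R
  act_surj : ∀ g ∈ R, ∃ c, Commute c z ∧ act c = g
  act_ker : ∀ c, Commute c z → (act c = 1 ↔ c ∈ Q)
  act_cls : ∀ c, Commute c z → ∀ a ∈ Q, cls (c * a * c⁻¹) = (act c).val *ᵥ cls a

variable {G : Type*} [Group G]

/-- The data at a conjugate. -/
def Act.conj (D : Act G) (k : G) : Act G where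
  z := k * D.z * k⁻¹
  Q := D.Q.map (MulAut.conj k).toMonoidHom
  B := D.B
  cls a := D.cls (k⁻¹ * a * k)
  act c := D.act (k⁻¹ * c * k)
  ctx := D.ctx.conj k
  space := D.space
  cls_mul a ha b hb := by
    rw [show k⁻¹ * (a * b) * k = k⁻¹ * a * k * (k⁻¹ * b * k) by group]
    exact D.cls_mul _ (mem_map_conj.1 ha) _ (mem_map_conj.1 hb)
  cls_surj v := by
    obtain ⟨a, ha, e⟩ := D.cls_surj v
    refine ⟨k * a * k⁻¹, ⟨a, ha, rfl⟩, ?_⟩
    rwa [show k⁻¹ * (k * a * k⁻¹) * k = a by group]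
  cls_ker a ha := by
    rw [D.cls_ker _ (mem_map_conj.1 ha)]
    refine or_congr ⟨fun h => ?_, fun h => by rw [h]; group⟩ ⟨fun h => ?_, fun h => by rw [h]; group⟩
    · calc a = k * (k⁻¹ * a * k) * k⁻¹ := by group
        _ = 1 := by rw [h]; simp
    · calc a = k * (k⁻¹ * a * k) * k⁻¹ := by group
        _ = _ := by rw [h]
  cls_sq a ha := by
    rw [← D.cls_sq _ (mem_map_conj.1 ha), show k⁻¹ * a * k * (k⁻¹ * a * k) = k⁻¹ * (a * a) * k by group]
    refine ⟨fun h => by rw [h]; group, fun h => ?_⟩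
    calc a * a = k * (k⁻¹ * (a * a) * k) * k⁻¹ := by group
      _ = 1 := by rw [h]; simp
  cls_comm a ha b hb := by
    rw [← D.cls_comm _ (mem_map_conj.1 ha) _ (mem_map_conj.1 hb)]
    constructor
    · intro h
      simpa using (Commute.conj_iff k⁻¹).2 h
    · intro h
      have := (Commute.conj_iff k).2 h
      simpa [mul_assoc] using this
  act_mul c d hc hd := by
    rw [show k⁻¹ * (c * d) * k = k⁻¹ * c * k * (k⁻¹ * d * k) by group]
    exact D.act_mul _ _ (commute_unconj k hc) (commute_unconj k hd)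
  R := D.R
  R_le := D.R_le
  R_iso := D.R_iso
  act_memR c hc := D.act_memR _ (commute_unconj k hc)
  act_surj g hg := by
    obtain ⟨c, hc, e⟩ := D.act_surj g hg
    refine ⟨k * c * k⁻¹, (Commute.conj_iff k).2 hc, ?_⟩
    rwa [show k⁻¹ * (k * c * k⁻¹) * k = c by group]
  act_ker c hc := (D.act_ker _ (commute_unconj k hc)).trans mem_map_conj.symm
  act_cls c hc a ha := by
    rw [show k⁻¹ * (c * a * c⁻¹) * k = k⁻¹ * c * k * (k⁻¹ * a * k) * (k⁻¹ * c * k)⁻¹ by group]
    exact D.act_cls _ (commute_unconj k hc) _ (mem_map_conj.1 ha)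

variable (D : Act G)

theorem Act.act_one : D.act 1 = 1 := (D.act_ker 1 (Commute.one_left _)).2 (one_mem _)

theorem Act.act_mem (c : G) (hc : Commute c D.z) : D.act c ∈ Cfsg.Geo.omegaGL qp :=
  D.R_le (D.act_memR c hc)

theorem Act.act_iso {c : G} (hc : Commute c D.z) : D.act c ∈ isometryGroup (ZMod 2) qp :=
  omegaGL_le_iso (D.act_mem c hc)

theorem Act.cls_one : D.cls 1 = 0 := (D.cls_ker 1 (one_mem _)).2 (Or.inl rfl)

theorem Act.cls_z : D.cls D.z = 0 := (D.cls_ker _ D.ctx.mem).2 (Or.inr rfl)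

theorem Act.cls_inv {a : G} (ha : a ∈ D.Q) : D.cls a⁻¹ = D.cls a := by
  refine vadd_eq_zero ?_
  rw [← D.cls_mul _ (inv_mem ha) _ ha, inv_mul_cancel, D.cls_one]

theorem Act.cls_eq {a b : G} (ha : a ∈ D.Q) (hb : b ∈ D.Q) (h : D.cls a = D.cls b) :
    b = a ∨ b = D.z * a := by
  rcases (D.cls_ker _ (mul_mem hb (inv_mem ha))).1
    (by rw [D.cls_mul _ hb _ (inv_mem ha), D.cls_inv ha, h, vadd_self]) with e | e
  · exact Or.inl (mul_inv_eq_one.1 e)
  · exact Or.inr (mul_inv_eq_iff_eq_mul.1 e)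

/-- The map `x ↦ c x + x` of an element of the centralizer. -/
def Act.n (D : Act G) (c : G) : V8 →ₗ[ZMod 2] V8 := nMap (D.act c)

theorem Act.conj_mem_Q {c a : G} (hc : Commute c D.z) (ha : a ∈ D.Q) : c * a * c⁻¹ ∈ D.Q :=
  (Subgroup.mem_normalizer_iff.1 (D.ctx.norm c hc) a).1 ha

theorem Act.n_cls {c a : G} (hc : Commute c D.z) (ha : a ∈ D.Q) :
    c * a * c⁻¹ * a⁻¹ ∈ D.Q ∧ D.cls (c * a * c⁻¹ * a⁻¹) = D.n c (D.cls a) := by
  refine ⟨mul_mem (D.conj_mem_Q hc ha) (inv_mem ha), ?_⟩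
  rw [D.cls_mul _ (D.conj_mem_Q hc ha) _ (inv_mem ha), D.cls_inv ha, D.act_cls c hc a ha]
  rfl

theorem Act.n_eq_zero {c a : G} (hc : Commute c D.z) (ha : a ∈ D.Q) :
    D.n c (D.cls a) = 0 ↔ c * a * c⁻¹ = a ∨ c * a * c⁻¹ = D.z * a := by
  rw [← (D.n_cls hc ha).2, D.cls_ker _ (D.n_cls hc ha).1, mul_inv_eq_one]
  exact or_congr Iff.rfl mul_inv_eq_iff_eq_mul

theorem Act.n_of_commute {c a : G} (hc : Commute c D.z) (ha : a ∈ D.Q) (h : Commute c a) :
    D.n c (D.cls a) = 0 := (D.n_eq_zero hc ha).2 (Or.inl (mul_inv_eq_iff_eq_mul.2 h.eq))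

theorem Act.n_mul {c d : G} (hc : Commute c D.z) (hd : Commute d D.z) (v : V8) :
    D.n (c * d) v = D.n c v + D.n d v + D.n c (D.n d v) := by
  simp only [Act.n, nMap_apply, D.act_mul c d hc hd, mul_act, Matrix.mulVec_add]
  funext i
  simp only [Pi.add_apply]
  exact (by decide : ∀ x y z t : ZMod 2, x + t = y + t + (z + t) + (x + y + (z + t))) _ _ _ _

/-- The fixed vectors. -/
abbrev Act.fix (D : Act G) (c : G) : Submodule (ZMod 2) V8 := fixSpace (D.act c)

theorem Act.mem_fix {c : G} {v : V8} : v ∈ D.fix c ↔ D.n c v = 0 := by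
  rw [Act.n, nMap_eq_zero, mem_fixSpace]

theorem Act.act_sq {w : G} (hw : Commute w D.z) (h2 : w * w = 1) : D.act w * D.act w = 1 := by
  rw [← D.act_mul w w hw hw, h2, D.act_one]

theorem Act.n_n {w : G} (hw : Commute w D.z) (h2 : w * w = 1) (v : V8) : D.n w (D.n w v) = 0 :=
  (nMap_eq_zero (g := D.act w)).2 (nMap_fix D.space (D.act_iso hw) (D.act_sq hw h2) v)

theorem Act.B_n {w : G} (hw : Commute w D.z) (h2 : w * w = 1) (u v : V8) :
    D.B (D.n w u) v = D.B u (D.n w v) := B_nMap D.space (D.act_iso hw) (D.act_sq hw h2) u v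

theorem Act.B_self (v : V8) : D.B v v = 0 := Cfsg.Lib.Extra.Wide.B_self D.space v

theorem Act.range_add_fix (c : G) :
    finrank (ZMod 2) (LinearMap.range (D.n c)) + finrank (ZMod 2) (D.fix c) = 8 := by
  have := finrank_range_nMap (D.act c)
  simp only [Fintype.card_sum, Fintype.card_fin] at this
  exact this

theorem Act.range_le_fix {w : G} (hw : Commute w D.z) (h2 : w * w = 1) :
    LinearMap.range (D.n w) ≤ D.fix w := by
  rintro _ ⟨v, rfl⟩
  exact D.mem_fix.2 (D.n_n hw h2 v)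

theorem Act.fix_cases {w : G} (hw : Commute w D.z) (h2 : w * w = 1) (hne : w ∉ D.Q) :
    finrank (ZMod 2) (D.fix w) = 4 ∨ finrank (ZMod 2) (D.fix w) = 6 := by
  have h4 : 4 ≤ finrank (ZMod 2) (D.fix w) := fix_ge_four D.space (D.act_iso hw) (D.act_sq hw h2) (by simp) ⟨4, by simp⟩ (D.act_mem w hw)
  have he : Even (finrank (ZMod 2) (D.fix w)) := (mem_omega_iff D.space (by simp) ⟨4, by simp⟩ (D.act_iso hw)).1 (D.act_mem w hw)
  obtain ⟨k, hk⟩ := he
  have hle := Submodule.finrank_le (D.fix w)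
  rw [finrank_fintype_fun_eq_card] at hle
  simp only [Fintype.card_sum, Fintype.card_fin] at hle
  have h8 : finrank (ZMod 2) (D.fix w) ≠ 8 := fun e => hne ((D.act_ker w hw).1 (gl_ext fun v => by
    have htop : D.fix w = ⊤ := Submodule.eq_top_of_finrank_eq (by
      rw [e, finrank_fintype_fun_eq_card]; simp)
    rw [Units.val_one, Matrix.one_mulVec]
    exact mem_fixSpace.1 (htop.ge (Submodule.mem_top (x := v)))))
  omega

end Cfsg.Lib.CoTwoType
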