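import Cfsg.Agent.Lib.CoThreeM12.CzControl

/-!
# Facts on the centralizers of involutions in `Sp6(2)`

An involution with at most 63 conjugates is a transvection; the centralizer of a transvection has it as a
product of two squares and moves every other transvection to at least sixteen places; no element of order
four commutes with all the squares of the centralizer of its square.
-/

set_option autoImplicit false
set_option maxRecDepth 100000
set_option linter.style.haveILetI false

namespace Cfsg.Lib.CoTwoType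

open Cfsg.Lib.SpSix Cfsg.Lib.CoThreeM12.SpCtl

theorem spGrp_finite : Finite SpGrp := Nat.finite_of_card_ne_zero (by rw [card_Sp]; norm_num)

theorem cls_len : cls1.length = 945 ∧ cls2.length = 63 ∧ cls3.length = 315 := by decide +kernel

/-- A two-element has a conjugate commuting with the second representative. -/
theorem exists_conj_commute {v : SpGrp} {n : ℕ} (hv : v ^ 2 ^ n = 1) :
    ∃ x : SpGrp, x * v * x⁻¹ * R 1 = R 1 * (x * v * x⁻¹) := by
  classical
  haveI : Finite SpGrp := spGrp_finite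
  haveI : Fintype SpGrp := Fintype.ofFinite _
  let σ : {w : SpGrp // IsConj (R 1) w} ≃ {w : SpGrp // IsConj (R 1) w} :=
    (MulAut.conj v).toEquiv.subtypeEquiv fun w => by
      have h : IsConj w (v * w * v⁻¹) := isConj_iff.2 ⟨v, rfl⟩
      exact ⟨fun hw => hw.trans h, fun hw => hw.trans h.symm⟩
  have hpow : ∀ (m : ℕ) (w), ((σ ^ m : Equiv.Perm _) w).1 = v ^ m * w.1 * (v ^ m)⁻¹ := by
    intro m
    induction m with
    | zero => intro w; simp
    | succ m ih =>
      intro w
      rw [pow_succ', Equiv.Perm.mul_apply]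
      show v * ((σ ^ m : Equiv.Perm _) w).1 * v⁻¹ = _
      rw [ih, pow_succ']
      group
  have hP : σ ^ 2 ^ n = 1 := Equiv.ext fun w => Subtype.ext (by rw [hpow, hv]; simp)
  haveI : Fact (Nat.Prime 2) := ⟨Nat.prime_two⟩
  have hnd : ¬ 2 ∣ Fintype.card {w : SpGrp // IsConj (R 1) w} := by
    rw [← Nat.card_eq_fintype_card, card_class decA1_ok (enc_R 1), cls_len.1]; norm_num
  obtain ⟨w, hw⟩ := Equiv.Perm.exists_fixed_point_of_prime (p := 2) (n := n) hnd hP
  obtain ⟨y, hy⟩ := isConj_iff.1 w.2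
  refine ⟨y⁻¹, ?_⟩
  have h : v * w.1 = w.1 * v := mul_inv_eq_iff_eq_mul.1 (congrArg Subtype.val hw)
  rw [← hy] at h
  calc y⁻¹ * v * y⁻¹⁻¹ * R 1 = y⁻¹ * (v * (y * R 1 * y⁻¹)) * y := by group
    _ = y⁻¹ * ((y * R 1 * y⁻¹) * v) * y := by rw [h]
    _ = _ := by group

theorem mem_list {v : SpGrp} (hv : v * R 1 = R 1 * v) : enc v ∈ prods orbA1 cenA1 := by
  obtain ⟨A, hA⟩ : ∃ A, enc A = (tree1.headD ([], 0, 0)).2.1 := exists_of_valid (dec_valid decA1_ok)
  have hd := decA1_ok
  rw [← hA, show reps.getD 1 0 = enc (R 1) from (enc_R 1).symm] at hd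
  exact ((dec_spec hd).2.1 _ hv).2

/-- The four classes of involutions. -/
theorem invol_cases {v : SpGrp} (hv : v * v = 1) (hv1 : v ≠ 1) : ∃ k : Fin 4, IsConj (R k) v := by
  obtain ⟨x, hx⟩ := exists_conj_commute (v := v) (n := 1) (by rw [pow_one, pow_two, hv])
  have h1 := (List.all_eq_true.1 invol_ok) _ (mem_list hx)
  have hy1 : (x * v * x⁻¹) * (x * v * x⁻¹) = 1 := by
    rw [show x * v * x⁻¹ * (x * v * x⁻¹) = x * (v * v) * x⁻¹ by group, hv]; group
  have c2 : Nat.beq (cmp (enc (x * v * x⁻¹)) (enc (x * v * x⁻¹))) one = true :=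
    Nat.beq_eq.mpr (by rw [cmp_enc, hy1, enc_one])
  have c3 : Nat.beq (enc (x * v * x⁻¹)) one = false := by
    rw [Bool.eq_false_iff, Ne, Nat.beq_eq, eq_one_iff, conj_eq_one_iff]; exact hv1
  simp only [c2, c3, Bool.not_true, Bool.false_or] at h1
  obtain ⟨k, -, u, hu⟩ := known_spec le_rfl h1
  refine ⟨k, isConj_iff.2 ⟨x⁻¹ * u, ?_⟩⟩
  rw [show x⁻¹ * u * R k * (x⁻¹ * u)⁻¹ = x⁻¹ * (u * R k * u⁻¹) * x by group, ← hu]; group

/-- Some of the conjugates of the first representative. -/
def someVertices : List ℕ := ((wits.filter fun w => Nat.beq w.2.1 0).map Prod.fst).take 64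

theorem someVertices_ok : someVertices.length = 64 ∧ sorted someVertices = true ∧
    (someVertices.all fun e => valid e && known 1 e) = true := by decide +kernel

theorem class_zero_big : 63 < Nat.card {w : SpGrp // IsConj (R 0) w} := by
  haveI : Finite SpGrp := spGrp_finite
  obtain ⟨hlen, hs, hall⟩ := someVertices_ok
  have hn : someVertices.Nodup := (sorted_pairwise hs).imp Nat.ne_of_lt
  simp only [List.all_eq_true, Bool.and_eq_true] at hall
  choose A hA using fun i : Fin someVertices.length => exists_of_valid (hall _ (List.get_mem someVertices i)).1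
  have hc : ∀ i, IsConj (R 0) (A i) := fun i => by
    have hk : known 1 (enc (A i)) = true := by rw [hA]; exact (hall _ (List.get_mem someVertices i)).2
    obtain ⟨k, hk1, u, hu⟩ := known_spec (by norm_num) hk
    obtain rfl : k = 0 := Fin.ext (by simpa using hk1)
    exact isConj_iff.2 ⟨u, hu.symm⟩
  have hinj : Function.Injective fun i => (⟨A i, hc i⟩ : {w : SpGrp // IsConj (R 0) w}) := fun i j e => by
    have e' := congrArg (fun w => enc w.1) e
    simp only [hA] at e'
    exact List.nodup_iff_injective_get.1 hn e'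
  have := Nat.card_le_card_of_injective _ hinj
  rw [Nat.card_fin, hlen] at this
  omega

/-- An involution with at most 63 conjugates. -/
theorem conj_of_small {v : SpGrp} (hv : v * v = 1) (hv1 : v ≠ 1)
    (hs : Nat.card {w : SpGrp // IsConj v w} ≤ 63) :
    IsConj (R 2) v ∧ Nat.card {w : SpGrp // IsConj v w} = 63 := by
  obtain ⟨k, hk⟩ := invol_cases hv hv1
  have he : Nat.card {w : SpGrp // IsConj v w} = Nat.card {w : SpGrp // IsConj (R k) w} :=
    Nat.card_congr (Equiv.subtypeEquivRight fun w => ⟨hk.trans, hk.symm.trans⟩)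
  rw [he] at hs ⊢
  obtain ⟨l1, l2, l3⟩ := cls_len
  have hk4 : k = 0 ∨ k = 1 ∨ k = 2 ∨ k = 3 := by fin_cases k <;> simp
  rcases hk4 with rfl | rfl | rfl | rfl
  · have := class_zero_big; omega
  · rw [card_class decA1_ok (enc_R 1)] at hs; omega
  · exact ⟨hk, (card_class decA2_ok (enc_R 2)).trans l2⟩
  · rw [card_class decA3_ok (enc_R 3)] at hs; omega

/-- Two elements of the centralizer of the third representative. -/
def sqPair : ℕ × ℕ := (63165292773, 43401924079)

theorem sqPair_ok : valid sqPair.1 = true ∧ valid sqPair.2 = true ∧ cm sqPair.1 (reps.getD 2 0) = true ∧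
    cm sqPair.2 (reps.getD 2 0) = true ∧
    cmp (cmp sqPair.1 sqPair.1) (cmp sqPair.2 sqPair.2) = reps.getD 2 0 := by decide +kernel

/-- A transvection is a product of two squares in its centralizer. -/
theorem prod_squares {v : SpGrp} (hv : IsConj (R 2) v) :
    ∃ a b : SpGrp, Commute a v ∧ Commute b v ∧ a * a * (b * b) = v := by
  obtain ⟨h1, h2, h3, h4, h5⟩ := sqPair_ok
  obtain ⟨a, ha⟩ := exists_of_valid h1
  obtain ⟨b, hb⟩ := exists_of_valid h2
  rw [← ha, show reps.getD 2 0 = enc (R 2) from (enc_R 2).symm, cm_iff] at h3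
  rw [← hb, show reps.getD 2 0 = enc (R 2) from (enc_R 2).symm, cm_iff] at h4
  rw [← ha, ← hb, show reps.getD 2 0 = enc (R 2) from (enc_R 2).symm, cmp_enc, cmp_enc, cmp_enc] at h5
  obtain ⟨g, rfl⟩ := isConj_iff.1 hv
  refine ⟨g * a * g⁻¹, g * b * g⁻¹, (Commute.conj_iff g).2 h3, (Commute.conj_iff g).2 h4, ?_⟩
  rw [← enc_injective h5]
  group

/-- Two elements of the centralizer of the third representative, with their inverses. -/
def orbGens : List (ℕ × ℕ) := [(52901534555, 51707202457), (53355831130, 53835034458)]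

/-- Insert the conjugates of a list. -/
def addConj (O : List ℕ) : List ℕ :=
  (O.flatMap fun x => orbGens.map fun g => cmp (cmp g.1 x) g.2).foldl
    (fun acc y => bif mem y acc then acc else y :: acc) O

theorem orbGens_ok : (orbGens.all fun g => valid g.1 && valid g.2 && cm g.1 (reps.getD 2 0) &&
    Nat.beq (cmp g.1 g.2) one) = true := by decide +kernel

theorem orbit_big : (cls2.all fun p => Nat.beq p.1 (reps.getD 2 0) ||
    Nat.ble 16 (addConj (addConj (addConj (addConj (addConj [p.1]))))).length) = true := by decide +kernel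

theorem addConj_spec {E w : SpGrp} (hE : enc E = reps.getD 2 0) {O : List ℕ}
    (hO : O.Nodup ∧ ∀ y ∈ O, ∃ g, Commute g E ∧ enc (g * w * g⁻¹) = y) :
    (addConj O).Nodup ∧ ∀ y ∈ addConj O, ∃ g, Commute g E ∧ enc (g * w * g⁻¹) = y := by
  have key : ∀ (L acc : List ℕ), (acc.Nodup ∧ ∀ y ∈ acc, ∃ g, Commute g E ∧ enc (g * w * g⁻¹) = y) →
      (∀ y ∈ L, ∃ g, Commute g E ∧ enc (g * w * g⁻¹) = y) →
      (L.foldl (fun acc y => bif mem y acc then acc else y :: acc) acc).Nodup ∧
        ∀ y ∈ L.foldl (fun acc y => bif mem y acc then acc else y :: acc) acc,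
          ∃ g, Commute g E ∧ enc (g * w * g⁻¹) = y := by
    intro L
    induction L with
    | nil => exact fun acc h _ => h
    | cons y L ih =>
      intro acc h hL
      rw [List.foldl_cons]
      refine ih _ ?_ fun u hu => hL u (List.mem_cons_of_mem _ hu)
      cases hm : mem y acc
      · simp only [cond_false]
        refine ⟨List.nodup_cons.2 ⟨fun hy => ?_, h.1⟩, fun z hz => ?_⟩
        · rw [mem_iff.2 hy] at hm; exact Bool.noConfusion hm
        · rcases List.mem_cons.1 hz with rfl | hz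
          · exact hL _ List.mem_cons_self
          · exact h.2 z hz
      · simpa only [cond_true] using h
  refine key _ _ hO fun y hy => ?_
  simp only [List.mem_flatMap, List.mem_map] at hy
  obtain ⟨x, hx, p, hp, rfl⟩ := hy
  obtain ⟨g, hg, rfl⟩ := hO.2 x hx
  have h := List.all_eq_true.1 orbGens_ok p hp
  simp only [Bool.and_eq_true, Nat.beq_eq] at h
  obtain ⟨⟨⟨h1, h2⟩, h3⟩, h4⟩ := h
  obtain ⟨a, ha⟩ := exists_of_valid h1
  obtain ⟨b, hb⟩ := exists_of_valid h2
  rw [← ha, ← hb] at h4
  rw [← ha, ← hE] at h3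
  have h3' : Commute a E := (cm_iff a E).1 h3
  have h4' : a * b = 1 := eq_one_iff.1 ((cmp_enc a b).symm.trans h4)
  refine ⟨a * g, h3'.mul_left hg, ?_⟩
  rw [← ha, ← hb, cmp_enc, cmp_enc]
  refine congrArg enc ?_
  rw [eq_inv_of_mul_eq_one_right h4']
  group

/-- The centralizer of a transvection moves any other transvection to at least sixteen places. -/
theorem suborbit_big {v w : SpGrp} (hv : IsConj (R 2) v) (hw : IsConj (R 2) w) (hne : w ≠ v) :
    ∃ f : Fin 16 → SpGrp, Function.Injective f ∧ ∀ j, ∃ g, Commute g v ∧ g * w * g⁻¹ = f j := by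
  obtain ⟨c, rfl⟩ := isConj_iff.1 hv
  obtain ⟨d, rfl⟩ := isConj_iff.1 hw
  obtain ⟨A, hA⟩ : ∃ A, enc A = (tree2.headD ([], 0, 0)).2.1 := exists_of_valid (dec_valid decA2_ok)
  have hd := decA2_ok
  rw [← hA, show reps.getD 2 0 = enc (R 2) from (enc_R 2).symm] at hd
  obtain ⟨p, hp, hpe⟩ := (dec_spec hd).1 (c⁻¹ * d)
  set w₀ := c⁻¹ * d * R 2 * (c⁻¹ * d)⁻¹ with hw₀
  have hne0 : w₀ ≠ R 2 := fun e => hne (by
    calc d * R 2 * d⁻¹ = c * w₀ * c⁻¹ := by rw [hw₀]; group
      _ = _ := by rw [e])
  have h := List.all_eq_true.1 orbit_big p hp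
  rw [hpe, Bool.or_eq_true, Nat.beq_eq, Nat.ble_eq] at h
  replace h := h.resolve_left fun e => hne0 (enc_injective (e.trans (enc_R 2).symm))
  have hspec : ∀ {O : List ℕ}, (O.Nodup ∧ ∀ y ∈ O, ∃ g, Commute g (R 2) ∧ enc (g * w₀ * g⁻¹) = y) →
      (addConj O).Nodup ∧ ∀ y ∈ addConj O, ∃ g, Commute g (R 2) ∧ enc (g * w₀ * g⁻¹) = y :=
    fun hO => addConj_spec (enc_R 2) hO
  obtain ⟨hn, hO⟩ := hspec (hspec (hspec (hspec (hspec (O := [enc w₀]) ⟨List.nodup_singleton _, fun y hy => by
    rw [List.mem_singleton] at hy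
    exact ⟨1, Commute.one_left _, by rw [hy]; simp⟩⟩))))
  set O := addConj (addConj (addConj (addConj (addConj [enc w₀])))) with hOdef
  choose g hg hge using fun i : Fin O.length => hO _ (List.get_mem O i)
  refine ⟨fun j => c * (g (j.castLE h) * w₀ * (g (j.castLE h))⁻¹) * c⁻¹, fun i j e => ?_, fun j => ?_⟩
  · have e' := congrArg enc (mul_left_cancel (mul_right_cancel e))
    rw [hge, hge] at e'
    exact Fin.castLE_injective h (List.nodup_iff_injective_get.1 hn e')
  · refine ⟨c * g (j.castLE h) * c⁻¹, (Commute.conj_iff c).2 (hg _), ?_⟩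
    rw [hw₀]
    group

/-- Elements of the centralizers of squares. -/
def sqWitness : List ℕ := [9943928964, 29355168196, 34685076481, 34395407489, 48824598668, 48789995660,
  16074850473, 50987810953, 18874706014, 34664083003, 40336724839, 34663843355, 64694273245, 64699252957,
  51032158834, 35066733755, 51020044563, 34798061067, 53826653920, 48560359180, 47738012621, 30335487913,
  57184372188, 58085057855, 34395582123, 67903440713, 34798060569, 52066010065]

theorem sqWitness_ok : (sqWitness.all valid) = true ∧ ((prods orbA1 cenA1).all fun y =>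
    Nat.beq (cmp y y) one || !Nat.beq (cmp (cmp y y) (cmp y y)) one ||
      sqWitness.any fun g => cm g (cmp y y) && !cm (cmp g g) y) = true := by
  refine ⟨?_, ?_⟩ <;> decide +kernel

/-- A square root of an involution fails to commute with some square of its centralizer. -/
theorem no_root {v r : SpGrp} (hv : v * v = 1) (hv1 : v ≠ 1) (hr : r * r = v) :
    ∃ g : SpGrp, Commute g v ∧ ¬ Commute (g * g) r := by
  subst hr
  obtain ⟨x, hx⟩ := exists_conj_commute (v := r) (n := 2) (by
    rw [show (2 : ℕ) ^ 2 = 2 * 2 from rfl, pow_mul, pow_two, pow_two, hv])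
  set y := x * r * x⁻¹ with hy
  have hy2 : y * y = x * (r * r) * x⁻¹ := by rw [hy]; group
  obtain ⟨hval, hall⟩ := sqWitness_ok
  have h := List.all_eq_true.1 hall _ (mem_list hx)
  simp only [Bool.or_eq_true, Nat.beq_eq, Bool.not_eq_true', List.any_eq_true, Bool.and_eq_true] at h
  rcases h with (h | h) | ⟨e, he, h1, h2⟩
  · rw [cmp_enc, eq_one_iff, hy2, conj_eq_one_iff] at h
    exact absurd h hv1
  · rw [Bool.eq_false_iff, Ne, Nat.beq_eq, cmp_enc, cmp_enc, eq_one_iff, hy2] at h
    refine absurd ?_ h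
    rw [show x * (r * r) * x⁻¹ * (x * (r * r) * x⁻¹) = x * (r * r * (r * r)) * x⁻¹ by group, hv]
    group
  · obtain ⟨g, rfl⟩ := exists_of_valid (List.all_eq_true.1 hval e he)
    rw [cmp_enc, cm_iff] at h1
    rw [Bool.eq_false_iff, Ne, cmp_enc, cm_iff] at h2
    refine ⟨x⁻¹ * g * x, ?_, fun hc => h2 ?_⟩
    · have h3 := (Commute.conj_iff x⁻¹).2 (show Commute g (x * (r * r) * x⁻¹) from hy2 ▸ h1)
      simpa [mul_assoc] using h3
    · show g * g * y = y * (g * g)
      have h3 := (Commute.conj_iff x).2 hc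
      rw [show x * (x⁻¹ * g * x * (x⁻¹ * g * x)) * x⁻¹ = g * g by group] at h3
      exact h3

end Cfsg.Lib.CoTwoType
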