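import Cfsg.Agent.Lib.CoOneLocal.Space
import Cfsg.Agent.Lib.Linear.OrthInvolutionStd

/-!
# Isometries of the plus space of dimension eight as numbers

A linear map is coded by the sixty-four bits of its columns; a vector by the eight bits of its coordinates.
-/

set_option autoImplicit false
set_option linter.style.haveILetI false
set_option maxRecDepth 100000

namespace Cfsg.Lib.CoTwoType

open Cfsg Module Cfsg.Lib.Linear Cfsg.Lib.Linear.Orth Cfsg.Lib.CoOneLocal
open scoped Matrix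

/-- The form. -/
abbrev q8 : V8 → ZMod 2 := Cfsg.quadFormPlus 4 (ZMod 2)

/-- Its polar form. -/
noncomputable abbrev B8 : LinearMap.BilinForm (ZMod 2) V8 := Symp.spB 4 (ZMod 2)

theorem space8 : Space q8 B8 := OrthInvol.plus_space 4

theorem two8 : (2 : ZMod 2) = 0 := by decide

/-- The position of a coordinate. -/
def pos : I8 → ℕ := Sum.elim (fun i => i.val) (fun i => 4 + i.val)

/-- The vector of a code. -/
def vec (n : ℕ) : V8 := fun i => if n.testBit (pos i) then 1 else 0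

/-- The code of a vector. -/
def cod (x : V8) : ℕ :=
  (x (.inl 0)).val + 2 * (x (.inl 1)).val + 4 * (x (.inl 2)).val + 8 * (x (.inl 3)).val +
  16 * (x (.inr 0)).val + 32 * (x (.inr 1)).val + 64 * (x (.inr 2)).val + 128 * (x (.inr 3)).val

theorem cod_vec : ∀ n : Fin 256, cod (vec n) = n.val := by decide +kernel

theorem vec_cod : ∀ x : V8, vec (cod x) = x ∧ cod x < 256 := by decide +kernel

theorem vec_inj {a b : ℕ} (ha : a < 256) (hb : b < 256) (h : vec a = vec b) : a = b := by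
  have h1 := cod_vec ⟨a, ha⟩
  rw [h, cod_vec ⟨b, hb⟩] at h1
  exact h1.symm

theorem vec_xor (a b : ℕ) : vec (a ^^^ b) = vec a + vec b := by
  funext i
  simp only [vec, Pi.add_apply, Nat.testBit_xor]
  cases a.testBit (pos i) <;> cases b.testBit (pos i) <;> decide

theorem vec_zero : vec 0 = 0 := by funext i; simp [vec]

theorem pos_lt : ∀ i : I8, pos i < 8 := by decide +kernel

theorem vec_mod (a : ℕ) : vec (a % 256) = vec a := by
  funext i
  simp only [vec, show (256 : ℕ) = 2 ^ 8 from rfl, Nat.testBit_mod_two_pow, decide_eq_true (pos_lt i), Bool.true_and]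

/-- The form on codes. -/
def qn (v : ℕ) : Bool :=
  (v.testBit 0 && v.testBit 4) ^^ (v.testBit 1 && v.testBit 5) ^^ (v.testBit 2 && v.testBit 6) ^^
    (v.testBit 3 && v.testBit 7)

/-- The polar form on codes. -/
def bn (u v : ℕ) : Bool := qn (u ^^^ v) ^^ qn u ^^ qn v

theorem q_vec_lt : ∀ v : Fin 256, q8 (vec v) = if qn v then 1 else 0 := by decide +kernel

theorem q_vec {v : ℕ} (h : v < 256) : q8 (vec v) = if qn v then 1 else 0 := q_vec_lt ⟨v, h⟩

theorem b_vec {u v : ℕ} (hu : u < 256) (hv : v < 256) : B8 (vec u) (vec v) = if bn u v then 1 else 0 := by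
  have h := space8.add (vec u) (vec v)
  rw [← vec_xor, q_vec hu, q_vec hv, q_vec (Nat.xor_lt_two_pow (n := 8) hu hv)] at h
  rw [bn]
  revert h
  generalize B8 (vec u) (vec v) = x
  generalize qn (u ^^^ v) = a
  generalize qn u = b
  generalize qn v = c
  revert x a b c
  decide +kernel

/-- The value of a coded map. -/
def app (c v : ℕ) : ℕ :=
  ((bif v.testBit 0 then c else 0) ^^^ (bif v.testBit 1 then c >>> 8 else 0) ^^^
    (bif v.testBit 2 then c >>> 16 else 0) ^^^ (bif v.testBit 3 then c >>> 24 else 0) ^^^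
    (bif v.testBit 4 then c >>> 32 else 0) ^^^ (bif v.testBit 5 then c >>> 40 else 0) ^^^
    (bif v.testBit 6 then c >>> 48 else 0) ^^^ (bif v.testBit 7 then c >>> 56 else 0)) % 256

theorem app_lt (c v : ℕ) : app c v < 256 := Nat.mod_lt _ (by norm_num)

/-- The matrix of a code. -/
def mat (c : ℕ) : Matrix I8 I8 (ZMod 2) := fun i j => vec (c >>> (8 * pos j)) i

theorem vec_bit (v : ℕ) (j : I8) : vec v j = bif v.testBit (pos j) then 1 else 0 := by
  cases h : v.testBit (pos j) <;> simp [vec, h]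

theorem vec_bif (b : Bool) (x : ℕ) (i : I8) : vec (bif b then x else 0) i = (bif b then 1 else 0) * vec x i := by
  cases b <;> simp [vec_zero]

theorem mat_mulVec (c v : ℕ) : mat c *ᵥ vec v = vec (app c v) := by
  funext i
  rw [app, vec_mod, vec_xor, vec_xor, vec_xor, vec_xor, vec_xor, vec_xor, vec_xor]
  simp only [Pi.add_apply, vec_bif, Matrix.mulVec, dotProduct, mat, Fintype.sum_sum_type, Fin.sum_univ_four]
  simp only [vec_bit v,
    pos, Sum.elim_inl, Sum.elim_inr, Fin.val_zero, Fin.val_one, Fin.val_two, show ((3 : Fin 4) : ℕ) = 3 from rfl,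
    Nat.reduceMul, Nat.reduceAdd, Nat.shiftRight_zero]
  ring

/-- The eight basis codes. -/
def bas : List ℕ := [1, 2, 4, 8, 16, 32, 64, 128]

theorem lin_ext {g h : GL I8 (ZMod 2)} (H : ∀ v ∈ bas, g.val *ᵥ vec v = h.val *ᵥ vec v) : g = h := by
  refine Units.ext (Matrix.ext fun i j => ?_)
  have hv : ∀ j : I8, 2 ^ pos j ∈ bas ∧ vec (2 ^ pos j) = Pi.single j 1 := by decide +kernel
  have h1 := congrFun (H _ (hv j).1) i
  rw [(hv j).2] at h1
  simpa using h1

theorem bas_lt : ∀ v ∈ bas, v < 256 := by decide +kernel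

/-- `g` has the values of `f` on the basis. -/
def Tab (f : ℕ → ℕ) (g : GL I8 (ZMod 2)) : Prop := ∀ v, v < 256 → f v < 256 ∧ g.val *ᵥ vec v = vec (f v)

theorem Tab.mul {f f' : ℕ → ℕ} {g g' : GL I8 (ZMod 2)} (h : Tab f g) (h' : Tab f' g') :
    Tab (fun v => f (f' v)) (g * g') := fun v hv => by
  refine ⟨(h _ (h' v hv).1).1, ?_⟩
  rw [mul_act, (h' v hv).2, (h _ (h' v hv).1).2]

theorem Tab.val_eq {f f' : ℕ → ℕ} {g g' : GL I8 (ZMod 2)} (h : Tab f g) (h' : Tab f' g') (e : g = g') {v : ℕ}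
    (hv : v < 256) : f v = f' v := by
  refine vec_inj (h v hv).1 (h' v hv).1 ?_
  rw [← (h v hv).2, ← (h' v hv).2, e]

theorem Tab.eq_of {f f' : ℕ → ℕ} {g g' : GL I8 (ZMod 2)} (h : Tab f g) (h' : Tab f' g')
    (e : ∀ v ∈ bas, f v = f' v) : g = g' := lin_ext fun v hv => by
  rw [(h v (bas_lt v hv)).2, (h' v (bas_lt v hv)).2, e v hv]

/-- Agreement on the basis. -/
def agree (f f' : ℕ → ℕ) : Bool := bas.all fun v => f v == f' v

theorem agree_iff {f f' : ℕ → ℕ} : agree f f' = true ↔ ∀ v ∈ bas, f v = f' v := by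
  simp [agree, List.all_eq_true, beq_iff_eq]

/-- The code of a map. -/
def enc (f : ℕ → ℕ) : ℕ :=
  f 1 + 256 * (f 2 + 256 * (f 4 + 256 * (f 8 + 256 * (f 16 + 256 * (f 32 + 256 * (f 64 + 256 * f 128))))))

theorem app_bas (c : ℕ) :
    app c 1 = c % 256 ∧
    app c 2 = (c >>> 8) % 256 ∧
    app c 4 = (c >>> 8 >>> 8) % 256 ∧
    app c 8 = (c >>> 8 >>> 8 >>> 8) % 256 ∧
    app c 16 = (c >>> 8 >>> 8 >>> 8 >>> 8) % 256 ∧
    app c 32 = (c >>> 8 >>> 8 >>> 8 >>> 8 >>> 8) % 256 ∧
    app c 64 = (c >>> 8 >>> 8 >>> 8 >>> 8 >>> 8 >>> 8) % 256 ∧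
    app c 128 = (c >>> 8 >>> 8 >>> 8 >>> 8 >>> 8 >>> 8 >>> 8) % 256 := by
  refine ⟨?_, ?_, ?_, ?_, ?_, ?_, ?_, ?_⟩ <;> simp [app, Nat.testBit, Nat.shiftRight_eq_div_pow, Nat.div_div_eq_div_mul]

theorem app_enc {f : ℕ → ℕ} (h : ∀ v ∈ bas, f v < 256) {v : ℕ} (hv : v ∈ bas) : app (enc f) v = f v := by
  obtain ⟨e0, e1, e2, e3, e4, e5, e6, e7⟩ := app_bas (enc f)
  have d : ∀ a b : ℕ, a < 256 → (a + 256 * b) >>> 8 = b ∧ (a + 256 * b) % 256 = a := fun a b ha => by
    rw [Nat.shiftRight_eq_div_pow]; omega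
  have z : ∀ w ∈ bas, ∀ b, (f w + 256 * b) >>> 8 = b ∧ (f w + 256 * b) % 256 = f w := fun w hw b => d _ b (h w hw)
  have s0 := fun b => (z 1 (by decide) b).1
  have m0 := fun b => (z 1 (by decide) b).2
  have s1 := fun b => (z 2 (by decide) b).1
  have m1 := fun b => (z 2 (by decide) b).2
  have s2 := fun b => (z 4 (by decide) b).1
  have m2 := fun b => (z 4 (by decide) b).2
  have s3 := fun b => (z 8 (by decide) b).1
  have m3 := fun b => (z 8 (by decide) b).2
  have s4 := fun b => (z 16 (by decide) b).1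
  have m4 := fun b => (z 16 (by decide) b).2
  have s5 := fun b => (z 32 (by decide) b).1
  have m5 := fun b => (z 32 (by decide) b).2
  have s6 := fun b => (z 64 (by decide) b).1
  have m6 := fun b => (z 64 (by decide) b).2
  have m7 : f 128 % 256 = f 128 := Nat.mod_eq_of_lt (h 128 (by decide))
  simp only [bas, List.mem_cons, List.not_mem_nil, or_false] at hv
  rcases hv with rfl | rfl | rfl | rfl | rfl | rfl | rfl | rfl <;>
    simp only [e0, e1, e2, e3, e4, e5, e6, e7] <;> simp only [enc, s0, s1, s2, s3, s4, s5, s6, m0, m1, m2, m3, m4, m5, m6, m7]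

theorem Tab.enc {f : ℕ → ℕ} {g : GL I8 (ZMod 2)} (h : Tab f g) : Tab (app (enc f)) g := fun v hv => by
  refine ⟨app_lt _ _, ?_⟩
  rw [← mat_mulVec]
  have hcol : g.val = mat (CoTwoType.enc f) := Matrix.ext fun i j => by
    have hv : ∀ j : I8, 2 ^ pos j ∈ bas ∧ vec (2 ^ pos j) = Pi.single j 1 := by decide +kernel
    have hlt : ∀ v ∈ bas, f v < 256 := fun v hv => (h v (bas_lt v hv)).1
    have h1 : g.val *ᵥ vec (2 ^ pos j) = mat (CoTwoType.enc f) *ᵥ vec (2 ^ pos j) := by
      rw [mat_mulVec, app_enc hlt (hv j).1, (h _ (bas_lt _ (hv j).1)).2]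
    have h2 := congrFun h1 i
    rw [(hv j).2] at h2
    simpa using h2
  rw [hcol]

/-- The code preserves the form. -/
def isoChk (c : ℕ) : Bool :=
  bas.all fun u => qn (app c u) == qn u && bas.all fun v => bn (app c u) (app c v) == bn u v

theorem exists_iso {c : ℕ} (h : isoChk c = true) :
    ∃ g ∈ isometryGroup (ZMod 2) q8, Tab (app c) g := by
  simp only [isoChk, List.all_eq_true, Bool.and_eq_true, beq_iff_eq] at h
  have hcols : ∀ j : I8, ∃ u ∈ bas, vec u = Pi.single j 1 := by decide +kernel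
  let L : V8 →ₗ[ZMod 2] V8 := (mat c).mulVecLin
  have hL : ∀ u, u < 256 → L (vec u) = vec (app c u) := fun u _ => mat_mulVec c u
  have hB : ∀ x y, B8 (L x) (L y) = B8 x y := by
    intro x y
    have : B8.compl₁₂ L L = B8 := by
      refine LinearMap.ext_basis (Pi.basisFun (ZMod 2) I8) (Pi.basisFun (ZMod 2) I8) fun i j => ?_
      obtain ⟨u, hu, eu⟩ := hcols i
      obtain ⟨w, hw, ew⟩ := hcols j
      rw [Pi.basisFun_apply, Pi.basisFun_apply, LinearMap.compl₁₂_apply, ← eu, ← ew, hL _ (bas_lt _ hu),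
        hL _ (bas_lt _ hw), b_vec (app_lt _ _) (app_lt _ _), b_vec (bas_lt _ hu) (bas_lt _ hw), (h u hu).2 w hw]
    exact LinearMap.congr_fun (LinearMap.congr_fun this x) y
  have hinj : Function.Injective L := by
    rw [← LinearMap.ker_eq_bot, LinearMap.ker_eq_bot']
    intro x hx
    refine space8.nondeg' fun u => ?_
    rw [← hB, hx, map_zero, LinearMap.zero_apply]
  have hQ : ∀ x, q8 (L x) = q8 x := by
    let W : Submodule (ZMod 2) V8 :=
      { carrier := {x | q8 (L x) = q8 x}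
        zero_mem' := by simp
        add_mem' := fun {a b} ha hb => by
          show q8 (L (a + b)) = q8 (a + b)
          rw [map_add, space8.add, space8.add, ha, hb, hB]
        smul_mem' := fun r a ha => by
          show q8 (L (r • a)) = q8 (r • a)
          rw [map_smul, space8.smul, space8.smul, ha] }
    intro x
    have htop : W = ⊤ := by
      rw [eq_top_iff, ← (Pi.basisFun (ZMod 2) I8).span_eq, Submodule.span_le]
      rintro _ ⟨i, rfl⟩
      obtain ⟨u, hu, eu⟩ := hcols i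
      show q8 (L _) = q8 _
      rw [Pi.basisFun_apply, ← eu, hL _ (bas_lt _ hu), q_vec (app_lt _ _), q_vec (bas_lt _ hu), (h u hu).1]
    exact (htop.ge (Submodule.mem_top (x := x)) : x ∈ W)
  have hu : IsUnit (mat c) := Matrix.mulVec_injective_iff_isUnit.1 hinj
  refine ⟨hu.unit, mem_iso.2 fun x => hQ x, fun v _ => ⟨app_lt c v, ?_⟩⟩
  exact mat_mulVec c v

/-- A reflection on codes. -/
def rf (r v : ℕ) : ℕ := bif bn r v then v ^^^ r else v

theorem tab_rf {r : ℕ} (hr : r < 256) (h : qn r = true) :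
    q8 (vec r) ≠ 0 ∧ Tab (rf r) (rGL q8 (vec r)) := by
  have hq : q8 (vec r) = 1 := by rw [q_vec hr, h]; rfl
  have hne : q8 (vec r) ≠ 0 := by rw [hq]; exact one_ne_zero
  refine ⟨hne, fun v hv => ?_⟩
  rw [rGL_act space8 hne, hq, inv_one, one_mul, b_vec hr hv, rf]
  cases bn r v
  · exact ⟨hv, by simp⟩
  · refine ⟨Nat.xor_lt_two_pow (n := 8) hv hr, ?_⟩
    simp only [if_true, one_smul, cond_true, vec_xor]
    funext i
    simp only [Pi.sub_apply, Pi.add_apply]
    exact CharTwo.sub_eq_add _ _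

/-- A root element on codes. -/
def sf (u v x : ℕ) : ℕ := x ^^^ (bif bn u x then v else 0) ^^^ (bif bn v x then u else 0)

theorem tab_sf {u v : ℕ} (hu : u < 256) (hv : v < 256) (h1 : qn u = false) (h2 : qn v = false)
    (h3 : bn u v = false) : Tab (sf u v) (sGL q8 B8 (vec u) (vec v)) := fun x hx => by
  have a1 : q8 (vec u) = 0 := by rw [q_vec hu, h1]; rfl
  have a3 : B8 (vec u) (vec v) = 0 := by rw [b_vec hu hv, h3]; rfl
  refine ⟨?_, ?_⟩
  · rw [sf]
    cases bn u x <;> cases bn v x <;> simp only [cond_true, cond_false, Nat.xor_zero] <;>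
      first | exact hx | exact Nat.xor_lt_two_pow (n := 8) hx hv | exact Nat.xor_lt_two_pow (n := 8) hx hu |
        exact Nat.xor_lt_two_pow (n := 8) (Nat.xor_lt_two_pow (n := 8) hx hv) hu
  · rw [sGL_act space8 a1 a3, b_vec hu hx, b_vec hv hx, q_vec hv, h2, sf, vec_xor, vec_xor]
    funext i
    cases bn u x <;> cases bn v x <;>
      simp [vec_zero, CharTwo.sub_eq_add]

end Cfsg.Lib.CoTwoType
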