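import Cfsg.Agent.Lib.CoTwoType.SpinChecks
import Cfsg.Agent.Lib.Linear.OrthSpinor

/-!
# Conjugates of the three base elements lie in the listed classes
-/

set_option autoImplicit false
set_option linter.style.haveILetI false
set_option maxRecDepth 100000

namespace Cfsg.Lib.CoTwoType

open Cfsg Module Cfsg.Lib.Linear Cfsg.Lib.Linear.Orth Cfsg.Lib.CoOneLocal
open scoped Matrix

/-- The isometries. -/
noncomputable abbrev Iso8 : Subgroup (GL I8 (ZMod 2)) := isometryGroup (ZMod 2) q8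

theorem bas_single : ∀ j : I8, 2 ^ pos j ∈ bas ∧ vec (2 ^ pos j) = Pi.single j 1 := by decide +kernel

theorem mat_ext_bas {M N : Matrix I8 I8 (ZMod 2)} (h : ∀ v ∈ bas, M *ᵥ vec v = N *ᵥ vec v) : M = N :=
  Matrix.ext fun i j => by
    have h1 := congrFun (h _ (bas_single j).1) i
    rw [(bas_single j).2] at h1
    simpa using h1

theorem tab_of_mat {c : ℕ} {g : GL I8 (ZMod 2)} (h : g.val = mat c) : Tab (app c) g := fun v _ =>
  ⟨app_lt c v, by rw [h, mat_mulVec]⟩

theorem tab_of_bas {c : ℕ} {g : GL I8 (ZMod 2)} (h : ∀ v ∈ bas, g.val *ᵥ vec v = vec (app c v)) :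
    Tab (app c) g :=
  tab_of_mat (mat_ext_bas fun v hv => by rw [h v hv, mat_mulVec])

theorem Tab.eq_of_agree {f f' : ℕ → ℕ} {g g' : GL I8 (ZMod 2)} (h : Tab f g) (h' : Tab f' g')
    (e : agree f f' = true) : g = g' := h.eq_of h' (agree_iff.1 e)

theorem Tab.agree_of_eq {f f' : ℕ → ℕ} {g g' : GL I8 (ZMod 2)} (h : Tab f g) (h' : Tab f' g') (e : g = g') :
    agree f f' = true := agree_iff.2 fun v hv => h.val_eq h' e (bas_lt v hv)

/-- Conjugating a coded element by a coded one. -/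
theorem tab_conj {h y k : ℕ} {H z : GL I8 (ZMod 2)} (hH : Tab (app h) H) (hz : Tab (app y) z)
    (e : agree (fun v => app h (app y v)) (fun v => app k (app h v)) = true) :
    Tab (app k) (H * z * H⁻¹) := by
  refine tab_of_mat ?_
  have hm : mat k * H.val = H.val * z.val := mat_ext_bas fun v hv => by
    rw [← Matrix.mulVec_mulVec, ← Matrix.mulVec_mulVec, (hH v (bas_lt v hv)).2, mat_mulVec,
      (hz v (bas_lt v hv)).2, (hH _ (app_lt y v)).2, ← agree_iff.1 e v hv]
  rw [Units.val_mul, Units.val_mul, ← hm, mul_assoc, Units.mul_inv, mul_one]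

theorem Tab.one : Tab id (1 : GL I8 (ZMod 2)) := fun v hv => ⟨hv, by simp⟩

theorem mem_low : ∀ a : Fin 256, ((∀ i, vec a.val (Sum.inr i) = 0) ↔ a.val < 16) := by decide +kernel

/-- The base half. -/
def Low : Submodule (ZMod 2) V8 where
  carrier := {x | ∀ i, x (Sum.inr i) = 0}
  zero_mem' := fun _ => rfl
  add_mem' := fun {a b} ha hb i => by simp [ha i, hb i]
  smul_mem' := fun c a ha i => by simp [ha i]

theorem vec_mem_low {a : ℕ} (ha : a < 256) : vec a ∈ Low ↔ a < 16 := mem_low ⟨a, ha⟩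

theorem low_step {g : GL I8 (ZMod 2)} (h : ∀ a ∈ [1, 2, 4, 8], g.val *ᵥ vec a ∈ Low) {x : V8} (hx : x ∈ Low) :
    g.val *ᵥ x ∈ Low := by
  have hs : ∀ x : V8, (∀ i, x (Sum.inr i) = 0) →
      x = x (.inl 0) • vec 1 + x (.inl 1) • vec 2 + x (.inl 2) • vec 4 + x (.inl 3) • vec 8 := by decide +kernel
  rw [hs x hx, Matrix.mulVec_add, Matrix.mulVec_add, Matrix.mulVec_add, Matrix.mulVec_smul, Matrix.mulVec_smul,
    Matrix.mulVec_smul, Matrix.mulVec_smul]
  exact add_mem (add_mem (add_mem (Low.smul_mem _ (h 1 (by simp))) (Low.smul_mem _ (h 2 (by simp))))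
    (Low.smul_mem _ (h 4 (by simp)))) (Low.smul_mem _ (h 8 (by simp)))

/-- The codes of a half and its inverse. -/
def hPair (k : ℕ) : ℕ × ℕ := SpinCert.hsF.getD k (0, 0)

theorem hPair_mem {k : ℕ} (hk : k < SpinCert.hsF.length) : hPair k ∈ SpinCert.hsF := by
  rw [hPair, List.getD_eq_getElem _ _ hk]; exact List.getElem_mem hk

theorem half_iso {p : ℕ × ℕ} (hp : p ∈ SpinCert.hsF) :
    ∃ H ∈ Iso8, Tab (app p.1) H ∧ Tab (app p.2) H⁻¹ := by
  have h := SpinCert.halves_ok.2
  rw [List.all_eq_true] at h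
  have h1 := h p hp
  simp only [Bool.and_eq_true] at h1
  obtain ⟨H, hH, hT⟩ := exists_iso h1.1.1
  obtain ⟨K, hK, hT'⟩ := exists_iso h1.1.2
  have hKH : K * H = 1 := (hT'.mul hT).eq_of_agree Tab.one h1.2
  exact ⟨H, hH, hT, eq_inv_of_mul_eq_one_left hKH ▸ hT'⟩

/-- Carrying every listed half to a listed half. -/
def Moves (g : GL I8 (ZMod 2)) : Prop :=
  ∀ k, k < SpinCert.hsF.length → ∀ H, Tab (app (hPair k).1) H →
    ∃ k', k' < SpinCert.hsF.length ∧ ∀ H', Tab (app (hPair k').1) H' → ∀ x ∈ Low, (H'⁻¹ * g * H).val *ᵥ x ∈ Low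

theorem Moves.mul {g g' : GL I8 (ZMod 2)} (h : Moves g) (h' : Moves g') : Moves (g * g') := by
  intro k hk H hH
  obtain ⟨k', hk', h1⟩ := h' k hk H hH
  obtain ⟨K, -, hK, -⟩ := half_iso (hPair_mem hk')
  obtain ⟨k'', hk'', h2⟩ := h k' hk' K hK
  refine ⟨k'', hk'', fun H'' hH'' x hx => ?_⟩
  have := h2 H'' hH'' _ (h1 K hK x hx)
  rwa [← mul_act, show H''⁻¹ * g * K * (K⁻¹ * g' * H) = H''⁻¹ * (g * g') * H by group] at this

theorem moves_one : Moves 1 := fun k hk H hH => ⟨k, hk, fun H' hH' x hx => by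
  have : H' = H := hH'.eq_of hH fun _ _ => rfl
  simp [this, hx]⟩

theorem qn_root : ∀ i, i < SpinCert.rootsO.length →
    SpinCert.rootsO.getD i 0 < 256 ∧ qn (SpinCert.rootsO.getD i 0) = true := by
  intro i hi
  have h := SpinCert.ordO_ok.2
  rw [List.all_eq_true] at h
  have := h _ (show SpinCert.rootsO.getD i 0 ∈ SpinCert.rootsO by
    rw [List.getD_eq_getElem _ _ hi]; exact List.getElem_mem hi)
  simpa [Bool.and_eq_true] using this

theorem moves_root {i : ℕ} (hi : i < SpinCert.rootsO.length) :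
    Moves (rGL q8 (vec (SpinCert.rootsO.getD i 0))) := by
  intro k hk H hH
  have h := SpinCert.step_ok
  simp only [List.all_eq_true, List.mem_range, Bool.and_eq_true, beq_iff_eq, decide_eq_true_eq] at h
  obtain ⟨hlen, hall⟩ := h i (by simpa [SpinCert.rootsO] using hi)
  have hmem : ((SpinCert.hsF[k]), (SpinCert.stepF.getD i [])[k]'(hlen ▸ hk)) ∈
      SpinCert.hsF.zip (SpinCert.stepF.getD i []) := by
    rw [List.mem_iff_getElem]
    exact ⟨k, by rw [List.length_zip, hlen, Nat.min_self]; exact hk, List.getElem_zip⟩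
  obtain ⟨hb, hlow⟩ := hall _ hmem
  refine ⟨_, hb, fun H' hH' x hx => low_step (fun a ha => ?_) hx⟩
  obtain ⟨K, -, hK, hKi⟩ := half_iso (hPair_mem hb)
  obtain rfl : H' = K := hH'.eq_of hK fun _ _ => rfl
  have ha' : a < 256 := by
    simp only [List.mem_cons, List.not_mem_nil, or_false] at ha
    rcases ha with rfl | rfl | rfl | rfl <;> norm_num
  obtain ⟨h1, h2⟩ := ((hKi.mul (tab_rf (qn_root i hi).1 (qn_root i hi).2).2).mul hH) a ha'
  rw [h2, vec_mem_low h1]
  have := hlow a ha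
  rwa [← List.getD_eq_getElem SpinCert.hsF (0, 0) hk] at this

theorem moves_ord : ∀ (l : List (ℕ × ℕ × ℕ)) (seen : List ℕ),
    (∀ v ∈ seen, v < 256 ∧ qn v = true ∧ Moves (rGL q8 (vec v))) → SpinCert.ordChk l seen = true →
      ∀ v, v < 256 → qn v = true → Moves (rGL q8 (vec v))
  | [], seen, hs, h, v, hv, hq => by
    simp only [SpinCert.ordChk, List.all_eq_true, List.elem_eq_mem, decide_eq_true_eq] at h
    exact (hs v (h v (by simp [SpinCert.anis, hv, hq]))).2.2
  | (w, i, p) :: l, seen, hs, h, v, hv, hq => by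
    simp only [SpinCert.ordChk, Bool.and_eq_true, decide_eq_true_eq] at h
    obtain ⟨⟨hi, hw⟩, hl⟩ := h
    refine moves_ord l (w :: seen) (fun u hu => ?_) hl v hv hq
    rcases List.mem_cons.1 hu with rfl | hu
    · obtain ⟨hr, hrq⟩ := qn_root i hi
      cases hp : p == 0
      · rw [hp, cond_false] at hw
        simp only [Bool.and_eq_true, List.elem_eq_mem, decide_eq_true_eq, beq_iff_eq] at hw
        obtain ⟨hp', hpq, hpm⟩ := hs p hw.1
        obtain ⟨hr0, hT⟩ := tab_rf hr hrq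
        obtain ⟨hp0, -⟩ := tab_rf hp' hpq
        obtain ⟨hlt, hval⟩ := hT p hp'
        have hiso := rGL_mem space8 hr0
        have hc : rGL q8 (vec (SpinCert.rootsO.getD i 0)) * rGL q8 (vec p) *
            rGL q8 (vec (SpinCert.rootsO.getD i 0)) = rGL q8 (vec u) := by
          have := rGL_conj space8 hp0 hiso
          rwa [rGL_inv space8 hr0, hval, ← hw.2] at this
        refine ⟨hw.2 ▸ hlt, ?_, hc ▸ (Moves.mul ((moves_root hi).mul hpm) (moves_root hi))⟩
        have hq' := mem_iso.1 hiso (vec p)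
        rw [hval, q_vec hlt, q_vec hp', ← hw.2, hpq] at hq'
        cases hu' : qn u
        · rw [hu'] at hq'; simp at hq'
        · rfl
      · rw [hp, cond_true, beq_iff_eq] at hw
        subst hw
        exact ⟨hr, hrq, moves_root hi⟩
    · exact hs u hu

theorem small8 : Fintype.card (ZMod 2) ≠ 2 ∨ Fintype.card I8 ≠ 4 := Or.inr (by decide)

theorem moves_all {g : GL I8 (ZMod 2)} (hg : g ∈ Iso8) : Moves g := by
  refine refl_induction space8 small8 (fun g => Moves g.1) moves_one (fun v hv k hk => ?_) ⟨g, hg⟩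
  refine Moves.mul ?_ hk
  rw [rI_val space8 hv]
  obtain ⟨e, hlt⟩ := vec_cod v
  rw [← e]
  refine moves_ord _ [] (by simp) SpinCert.ordO_ok.1 _ hlt ?_
  rw [← e, q_vec hlt] at hv
  cases hq : qn (cod v)
  · rw [hq] at hv; simp at hv
  · rfl

theorem baseF_facts : (∀ a : Fin 16, app SpinCert.baseF a = a.val) ∧
    (∀ v : Fin 256, v.val ^^^ app SpinCert.baseF v < 16 ∧ (app SpinCert.baseF v = v → v.val < 16)) := by
  decide +kernel

theorem xor_high : ∀ k : Fin 4, ∀ c : Fin 256, (16 * 2 ^ k.val) ^^^ c.val < 16 →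
    16 * 2 ^ k.val ≤ c.val ∧ c.val - 16 * 2 ^ k.val < 16 := by decide +kernel

theorem nU_lin0 : ((List.range 32).all fun u => (List.range 256).all fun v =>
    Nat.beq (app (enc (SpinCert.nU u)) v) (SpinCert.nU u v)) = true := by decide +kernel

theorem nU_lin1 : ((List.range 32).all fun u => (List.range 256).all fun v =>
    Nat.beq (app (enc (SpinCert.nU (32 + u))) v) (SpinCert.nU (32 + u) v)) = true := by decide +kernel

theorem nU_lin {u v : ℕ} (hu : u < 64) (hv : v < 256) : app (enc (SpinCert.nU u)) v = SpinCert.nU u v := by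
  have h0 := nU_lin0
  have h1 := nU_lin1
  simp only [List.all_eq_true, List.mem_range, Nat.beq_eq] at h0 h1
  rcases lt_or_ge u 32 with h | h
  · exact h0 u h v hv
  · simpa [Nat.add_sub_cancel' h] using h1 (u - 32) (by omega) v hv

/-- An isometry fixing the base half and trivial modulo it is a translation. -/
theorem shape {z : GL I8 (ZMod 2)} (hz : z ∈ Iso8) (h1 : ∀ x ∈ Low, z.val *ᵥ x = x)
    (h2 : ∀ x, x + z.val *ᵥ x ∈ Low) : ∃ u, u < 64 ∧ Tab (SpinCert.nU u) z := by
  have col : ∀ k : Fin 4, ∃ a, a < 16 ∧ z.val *ᵥ vec (16 * 2 ^ k.val) = vec (16 * 2 ^ k.val + a) := by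
    intro k
    obtain ⟨e, hlt⟩ := vec_cod (z.val *ᵥ vec (16 * 2 ^ k.val))
    have hk : 16 * 2 ^ k.val < 256 := by fin_cases k <;> norm_num
    have h := h2 (vec (16 * 2 ^ k.val))
    rw [← e, ← vec_xor, vec_mem_low (Nat.xor_lt_two_pow (n := 8) hk hlt)] at h
    obtain ⟨hle, hlt'⟩ := xor_high k ⟨_, hlt⟩ h
    exact ⟨_, hlt', by rw [Nat.add_sub_cancel' hle, e]⟩
  obtain ⟨a, ha, ea⟩ := col 0
  obtain ⟨b, hb, eb⟩ := col 1
  obtain ⟨c, hc, ec⟩ := col 2
  obtain ⟨d, hd, ed⟩ := col 3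
  norm_num at ea eb ec ed
  have hqn : ∀ {v w}, v < 256 → w < 256 → z.val *ᵥ vec v = vec w → qn v = false → qn w = false := by
    intro v w hv hw e hq
    have := mem_iso.1 hz (vec v)
    rw [e, q_vec hw, q_vec hv, hq] at this
    cases hqw : qn w
    · rfl
    · rw [hqw] at this; simp at this
  have hbn : ∀ {v w v' w'}, v < 256 → w < 256 → v' < 256 → w' < 256 → z.val *ᵥ vec v = vec w →
      z.val *ᵥ vec v' = vec w' → bn v v' = false → bn w w' = false := by
    intro v w v' w' hv hw hv' hw' e e' hq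
    have := space8.B_act hz (vec v) (vec v')
    rw [e, e', b_vec hw hw', b_vec hv hv', hq] at this
    cases hqw : bn w w'
    · rfl
    · rw [hqw] at this; simp at this
  have h := SpinCert.shape_ok
  simp only [SpinCert.shapeOk, List.all_eq_true, List.mem_range, Bool.or_eq_true, List.any_eq_true,
    Bool.and_eq_true, beq_iff_eq] at h
  have qa : qn (16 + a) = false := hqn (by norm_num) (by omega) ea (by decide)
  have qb : qn (32 + b) = false := hqn (by norm_num) (by omega) eb (by decide)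
  have qc : qn (64 + c) = false := hqn (by norm_num) (by omega) ec (by decide)
  have qd : qn (128 + d) = false := hqn (by norm_num) (by omega) ed (by decide)
  have ab : bn (16 + a) (32 + b) = false := hbn (by norm_num) (by omega) (by norm_num) (by omega) ea eb (by decide)
  have ac : bn (16 + a) (64 + c) = false := hbn (by norm_num) (by omega) (by norm_num) (by omega) ea ec (by decide)
  have ad : bn (16 + a) (128 + d) = false := hbn (by norm_num) (by omega) (by norm_num) (by omega) ea ed (by decide)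
  have bc : bn (32 + b) (64 + c) = false := hbn (by norm_num) (by omega) (by norm_num) (by omega) eb ec (by decide)
  have bd : bn (32 + b) (128 + d) = false := hbn (by norm_num) (by omega) (by norm_num) (by omega) eb ed (by decide)
  have cd : bn (64 + c) (128 + d) = false := hbn (by norm_num) (by omega) (by norm_num) (by omega) ec ed (by decide)
  have h0 := h a ha
  simp only [qa, Bool.false_eq_true, false_or] at h0
  have h0 := h0 b hb
  simp only [qb, ab, Bool.false_eq_true, false_or] at h0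
  have h0 := h0 c hc
  simp only [qc, ac, bc, Bool.false_eq_true, false_or] at h0
  have h0 := h0 d hd
  simp only [qd, ad, bd, cd, Bool.false_eq_true, false_or] at h0
  obtain ⟨u, hu, ⟨⟨e1, e2⟩, e3⟩, e4⟩ := h0
  have hl := SpinCert.low_fix
  simp only [List.all_eq_true, List.mem_range, beq_iff_eq] at hl
  have hT : Tab (app (enc (SpinCert.nU u))) z := by
    refine tab_of_bas fun v hv => ?_
    rw [show app (enc (SpinCert.nU u)) v = SpinCert.nU u v from nU_lin hu (bas_lt v hv)]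
    simp only [bas, List.mem_cons, List.not_mem_nil, or_false] at hv
    rcases hv with rfl | rfl | rfl | rfl | rfl | rfl | rfl | rfl
    iterate 4 (rw [hl u hu _ (by simp), h1 _ ((vec_mem_low (by norm_num)).2 (by norm_num))])
    · rw [e1, ea]
    · rw [e2, eb]
    · rw [e3, ec]
    · rw [e4, ed]
  refine ⟨u, hu, fun v hv => ?_⟩
  have := hT v hv
  rwa [show app (enc (SpinCert.nU u)) v = SpinCert.nU u v from nU_lin hu hv] at this

/-- Conjugates of the half-fixing base element are listed. -/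
theorem memberF {g y : GL I8 (ZMod 2)} (hg : g ∈ Iso8) (hy : Tab (app SpinCert.baseF) y) (hyi : y ∈ Iso8) :
    ∃ f ∈ SpinCert.classF, Tab f (g * y * g⁻¹) := by
  have hh := SpinCert.halves_ok.1
  have h0 : 0 < SpinCert.hsF.length := by rw [List.length_pos_iff]; intro e; simp [e] at hh
  have e0 : hPair 0 = (enc id, enc id) := by
    rw [hPair, List.getD_eq_getElem _ _ h0]
    rw [List.head?_eq_getElem?, List.getElem?_eq_getElem h0] at hh
    exact Option.some.inj hh
  obtain ⟨k, hk, hm⟩ := moves_all hg 0 h0 1 (e0 ▸ Tab.one.enc)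
  obtain ⟨H, hHi, hH, hH'⟩ := half_iso (hPair_mem hk)
  set s := H⁻¹ * g with hs
  have hsm : ∀ x ∈ Low, s.val *ᵥ x ∈ Low := fun x hx => by simpa [hs] using hm H hH x hx
  have hsi : s ∈ Iso8 := mul_mem (inv_mem hHi) hg
  have hsinv : ∀ x ∈ Low, (s⁻¹).val *ᵥ x ∈ Low := by
    intro x hx
    let φ : Low →ₗ[ZMod 2] Low := (Matrix.mulVecLin s.val).restrict hsm
    have hinj : Function.Injective φ := fun a b e =>
      Subtype.ext (act_injective s (congrArg Subtype.val e))
    obtain ⟨w, hw⟩ := LinearMap.surjective_of_injective hinj ⟨x, hx⟩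
    have : s.val *ᵥ w.val = x := congrArg Subtype.val hw
    rw [← this, ← mul_act, inv_mul_cancel, Units.val_one, Matrix.one_mulVec]
    exact w.2
  have hsv : ∀ x, s.val *ᵥ ((s⁻¹).val *ᵥ x) = x := fun x => by
    rw [← mul_act, mul_inv_cancel, Units.val_one, Matrix.one_mulVec]
  obtain ⟨f1, f2⟩ := baseF_facts
  have hz1 : ∀ x ∈ Low, (s * y * s⁻¹).val *ᵥ x = x := by
    intro x hx
    rw [mul_act, mul_act]
    obtain ⟨e, hlt⟩ := vec_cod ((s⁻¹).val *ᵥ x)
    have hlow : cod ((s⁻¹).val *ᵥ x) < 16 := (vec_mem_low hlt).1 (e.symm ▸ hsinv x hx)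
    rw [← e, (hy _ hlt).2, show app SpinCert.baseF _ = _ from f1 ⟨_, hlow⟩, e, hsv]
  have hz2 : ∀ x, x + (s * y * s⁻¹).val *ᵥ x ∈ Low := by
    intro x
    rw [mul_act, mul_act]
    obtain ⟨e, hlt⟩ := vec_cod ((s⁻¹).val *ᵥ x)
    obtain ⟨hval, hyv⟩ := hy _ hlt
    have h := (vec_mem_low (Nat.xor_lt_two_pow (n := 8) hlt hval)).2 (f2 ⟨_, hlt⟩).1
    rw [vec_xor, ← hyv, e] at h
    have := hsm _ h
    rwa [Matrix.mulVec_add, hsv] at this
  have hz3 : ∀ x, (s * y * s⁻¹).val *ᵥ x = x → x ∈ Low := by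
    intro x hx
    rw [mul_act, mul_act] at hx
    obtain ⟨e, hlt⟩ := vec_cod ((s⁻¹).val *ᵥ x)
    have hfix : y.val *ᵥ ((s⁻¹).val *ᵥ x) = (s⁻¹).val *ᵥ x := by
      refine act_injective s ?_
      show s.val *ᵥ _ = s.val *ᵥ _
      rw [hx, hsv]
    rw [← e, (hy _ hlt).2] at hfix
    have hl := (f2 ⟨_, hlt⟩).2 (vec_inj (app_lt _ _) hlt hfix)
    rw [← hsv x, ← e]
    exact hsm _ ((vec_mem_low hlt).2 hl)
  obtain ⟨u, hu, hT⟩ := shape (mul_mem (mul_mem hsi hyi) (inv_mem hsi)) hz1 hz2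
  have hpf : SpinCert.pfB u = true := by
    by_contra hpf
    have h := SpinCert.pf_fix
    simp only [List.all_eq_true, List.mem_range, Bool.or_eq_true, List.any_eq_true, beq_iff_eq] at h
    obtain ⟨f, hf, hfu⟩ := (h u hu).resolve_left hpf
    have hlt : 16 * (f + 1) < 256 := by omega
    have := hz3 (vec (16 * (f + 1))) (by rw [(hT _ hlt).2, hfu])
    rw [vec_mem_low hlt] at this
    omega
  refine ⟨SpinCert.hF (hPair k) u, ?_, ?_⟩
  · rw [SpinCert.classF, List.mem_flatMap]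
    exact ⟨_, hPair_mem hk, List.mem_map.2 ⟨u, by simp [hu, hpf], rfl⟩⟩
  · have := (hH.mul hT).mul hH'
    rwa [show H * (s * y * s⁻¹) * H⁻¹ = g * y * g⁻¹ by rw [hs]; group] at this

theorem sGL8_act {u v : ℕ} (hu : u < 256) (hv : v < 256) (qu : qn u = false) (qv : qn v = false)
    (buv : bn u v = false) (x : V8) :
    (sGL q8 B8 (vec u) (vec v)).val *ᵥ x = x + B8 (vec u) x • vec v + B8 (vec v) x • vec u := by
  have a1 : q8 (vec u) = 0 := by rw [q_vec hu, qu]; rfl
  have a3 : B8 (vec u) (vec v) = 0 := by rw [b_vec hu hv, buv]; rfl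
  have a2 : q8 (vec v) = 0 := by rw [q_vec hv, qv]; rfl
  rw [sGL_act space8 a1 a3, a2, zero_mul, add_zero]
  funext i
  simp only [Pi.sub_apply, Pi.add_apply, Pi.smul_apply]
  exact CharTwo.sub_eq_add _ _

/-- A singular orthogonal pair and its root element. -/
def RootPair (y : GL I8 (ZMod 2)) (a b : ℕ) : Prop :=
  a < 256 ∧ b < 256 ∧ qn a = false ∧ qn b = false ∧ bn a b = false ∧ a ≠ 0 ∧ b ≠ 0 ∧ a ≠ b ∧
    sGL q8 B8 (vec a) (vec b) = y

theorem bn_comm (a b : ℕ) : bn a b = bn b a := by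
  rw [bn, bn, Nat.xor_comm]; cases qn (b ^^^ a) <;> cases qn a <;> cases qn b <;> rfl

theorem RootPair.swap {y : GL I8 (ZMod 2)} {a b : ℕ} (h : RootPair y a b) : RootPair y b a := by
  obtain ⟨ha, hb, qa, qb, bab, a0, b0, ne, e⟩ := h
  refine ⟨hb, ha, qb, qa, bn_comm a b ▸ bab, b0, a0, ne.symm, ?_⟩
  rw [← e]
  refine gl_ext fun x => ?_
  rw [sGL8_act hb ha qb qa (bn_comm a b ▸ bab), sGL8_act ha hb qa qb bab]
  abel

theorem RootPair.third {y : GL I8 (ZMod 2)} {a b : ℕ} (h : RootPair y a b) : RootPair y a (a ^^^ b) := by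
  obtain ⟨ha, hb, qa, qb, bab, a0, b0, ne, e⟩ := h
  have hw : a ^^^ b < 256 := Nat.xor_lt_two_pow (n := 8) ha hb
  have qw : qn (a ^^^ b) = false := by
    rw [bn, qa, qb, Bool.xor_false, Bool.xor_false] at bab; exact bab
  have baw : bn a (a ^^^ b) = false := by
    rw [bn, ← Nat.xor_assoc, Nat.xor_self, Nat.zero_xor, qa, qw, qb]; rfl
  have w0 : a ^^^ b ≠ 0 := fun e0 => ne (Nat.eq_of_xor_eq_zero e0)
  have aw : a ≠ a ^^^ b := fun e0 => b0 (by
    have := congrArg (a ^^^ ·) e0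
    simpa [← Nat.xor_assoc] using this.symm)
  refine ⟨ha, hw, qa, qw, baw, a0, w0, aw, ?_⟩
  rw [← e]
  refine gl_ext fun x => ?_
  rw [sGL8_act ha hw qa qw baw, sGL8_act ha hb qa qb bab, vec_xor, map_add, LinearMap.add_apply, add_smul, smul_add]
  funext i
  simp only [Pi.add_apply, Pi.smul_apply, smul_eq_mul]
  linear_combination B8 (vec a) x * vec a i * two8

theorem RootPair.sorted {y : GL I8 (ZMod 2)} {a b : ℕ} (h : RootPair y a b) :
    ∃ c d, RootPair y c d ∧ c < d ∧ d < (c ^^^ d) := by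
  have e1 : a ^^^ (a ^^^ b) = b := by rw [← Nat.xor_assoc, Nat.xor_self, Nat.zero_xor]
  have e2 : b ^^^ (a ^^^ b) = a := by rw [Nat.xor_comm a b, ← Nat.xor_assoc, Nat.xor_self, Nat.zero_xor]
  have hw := h.third
  have hv : RootPair y b (a ^^^ b) := Nat.xor_comm b a ▸ h.swap.third
  have n1 : a ≠ b := h.2.2.2.2.2.2.2.1
  have n2 : a ≠ a ^^^ b := hw.2.2.2.2.2.2.2.1
  have n3 : b ≠ a ^^^ b := hv.2.2.2.2.2.2.2.1
  rcases lt_or_gt_of_ne n1 with l1 | l1 <;> rcases lt_or_gt_of_ne n2 with l2 | l2 <;>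
    rcases lt_or_gt_of_ne n3 with l3 | l3
  · exact ⟨a, b, h, l1, l3⟩
  · exact ⟨a, a ^^^ b, hw, l2, by rw [e1]; exact l3⟩
  · omega
  · exact ⟨a ^^^ b, a, hw.swap, l2, by rw [Nat.xor_comm, e1]; exact l1⟩
  · exact ⟨b, a, h.swap, l1, by rw [Nat.xor_comm]; exact l2⟩
  · omega
  · exact ⟨b, a ^^^ b, hv, l3, by rw [e2]; exact l2⟩
  · exact ⟨a ^^^ b, b, hv.swap, l3, by rw [Nat.xor_comm, e2]; exact l1⟩

theorem rf_comm {a b : ℕ} (ha : a < 256) (hb : b < 256) (qa : qn a = true) (qb : qn b = true)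
    (bab : bn a b = false) : rGL q8 (vec a) * rGL q8 (vec b) = rGL q8 (vec b) * rGL q8 (vec a) := by
  obtain ⟨na, hA⟩ := tab_rf ha qa
  obtain ⟨nb, -⟩ := tab_rf hb qb
  have := rGL_conj space8 nb (rGL_mem space8 na)
  rw [(hA b hb).2, rf, bab, cond_false] at this
  exact mul_inv_eq_iff_eq_mul.1 this

theorem base_codes : SpinCert.baseA = enc (sf 1 2) ∧
    SpinCert.baseC = enc (fun v => rf 17 (rf 19 v)) := by decide +kernel

/-- The image of a vector. -/
noncomputable def img (g : GL I8 (ZMod 2)) (v : ℕ) : ℕ := cod (g.val *ᵥ vec v)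

theorem img_spec (g : GL I8 (ZMod 2)) (v : ℕ) : img g v < 256 ∧ g.val *ᵥ vec v = vec (img g v) :=
  ⟨(vec_cod _).2, (vec_cod _).1.symm⟩

theorem img_qn {g : GL I8 (ZMod 2)} (hg : g ∈ Iso8) {v : ℕ} (hv : v < 256) : qn (img g v) = qn v := by
  have := mem_iso.1 hg (vec v)
  rw [(img_spec g v).2, q_vec (img_spec g v).1, q_vec hv] at this
  revert this; cases qn (img g v) <;> cases qn v <;> simp

theorem img_bn {g : GL I8 (ZMod 2)} (hg : g ∈ Iso8) {u v : ℕ} (hu : u < 256) (hv : v < 256) :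
    bn (img g u) (img g v) = bn u v := by
  have := space8.B_act hg (vec u) (vec v)
  rw [(img_spec g u).2, (img_spec g v).2, b_vec (img_spec g u).1 (img_spec g v).1, b_vec hu hv] at this
  revert this; cases bn (img g u) (img g v) <;> cases bn u v <;> simp

theorem img_inj {g : GL I8 (ZMod 2)} {u v : ℕ} (hu : u < 256) (hv : v < 256) (h : img g u = img g v) : u = v := by
  refine vec_inj hu hv (act_injective g ?_)
  show g.val *ᵥ vec u = g.val *ᵥ vec v
  rw [(img_spec g u).2, (img_spec g v).2, h]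

theorem img_zero (g : GL I8 (ZMod 2)) : img g 0 = 0 := by
  refine vec_inj (img_spec g 0).1 (by norm_num) ?_
  rw [← (img_spec g 0).2, vec_zero, Matrix.mulVec_zero]

/-- Conjugates of the base root element are listed. -/
theorem memberA {g y : GL I8 (ZMod 2)} (hg : g ∈ Iso8) (hy : Tab (app SpinCert.baseA) y) :
    ∃ f ∈ SpinCert.classA, Tab f (g * y * g⁻¹) := by
  have hT := tab_sf (u := 1) (v := 2) (by norm_num) (by norm_num) (by decide) (by decide) (by decide)
  have hy' : y = sGL q8 B8 (vec 1) (vec 2) := hy.eq_of_agree hT.enc (by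
    rw [base_codes.1]; exact agree_iff.2 fun _ _ => rfl)
  have q1 : q8 (vec 1) = 0 := by decide +kernel
  have b1 : B8 (vec 1) (vec 2) = 0 := by rw [b_vec (by norm_num) (by norm_num)]; rfl
  rw [hy', sGL_conj space8 q1 b1 hg, (img_spec g 1).2, (img_spec g 2).2]
  obtain ⟨hu, hv⟩ := (img_spec g 1).1, (img_spec g 2).1
  have qu : qn (img g 1) = false := by rw [img_qn hg (by norm_num)]; decide
  have qv : qn (img g 2) = false := by rw [img_qn hg (by norm_num)]; decide
  have buv : bn (img g 1) (img g 2) = false := by rw [img_bn hg (by norm_num) (by norm_num)]; decide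
  have nu : img g 1 ≠ 0 := fun e => absurd (img_inj (g := g) (by norm_num) (by norm_num) (e.trans (img_zero g).symm)) (by decide)
  have nv : img g 2 ≠ 0 := fun e => absurd (img_inj (g := g) (by norm_num) (by norm_num) (e.trans (img_zero g).symm)) (by decide)
  have ne : img g 1 ≠ img g 2 := fun e => absurd (img_inj (g := g) (by norm_num) (by norm_num) e) (by decide)
  obtain ⟨c, d, ⟨hc, hd, qc, qd, bcd, -, -, -, e⟩, hcd, hd'⟩ :=
    RootPair.sorted (⟨hu, hv, qu, qv, buv, nu, nv, ne, rfl⟩ :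
      RootPair (sGL q8 B8 (vec (img g 1)) (vec (img g 2))) (img g 1) (img g 2))
  refine ⟨sf c d, ?_, ?_⟩
  · rw [SpinCert.classA, List.mem_flatMap]
    exact ⟨c, by simp [SpinCert.sing, hc, qc], List.mem_map.2
      ⟨d, by simp [SpinCert.sing, hd, qd, hcd, hd', bcd], rfl⟩⟩
  · rw [← e]
    exact tab_sf hc hd qc qd bcd

/-- Conjugates of the base pair of reflections are listed. -/
theorem memberC {g y : GL I8 (ZMod 2)} (hg : g ∈ Iso8) (hy : Tab (app SpinCert.baseC) y) :
    ∃ f ∈ SpinCert.classC, Tab f (g * y * g⁻¹) := by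
  obtain ⟨hne, hA⟩ := tab_rf (r := 17) (by norm_num) (by decide)
  obtain ⟨hne', hB⟩ := tab_rf (r := 19) (by norm_num) (by decide)
  have hy' : y = rGL q8 (vec 17) * rGL q8 (vec 19) := hy.eq_of_agree (hA.mul hB).enc (by
    rw [base_codes.2]; exact agree_iff.2 fun _ _ => rfl)
  rw [hy', show g * (rGL q8 (vec 17) * rGL q8 (vec 19)) * g⁻¹ =
      (g * rGL q8 (vec 17) * g⁻¹) * (g * rGL q8 (vec 19) * g⁻¹) by group,
    rGL_conj space8 hne hg, rGL_conj space8 hne' hg, (img_spec g 17).2, (img_spec g 19).2]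
  obtain ⟨hu, hv⟩ := (img_spec g 17).1, (img_spec g 19).1
  have qu : qn (img g 17) = true := by rw [img_qn hg (by norm_num)]; decide
  have qv : qn (img g 19) = true := by rw [img_qn hg (by norm_num)]; decide
  have buv : bn (img g 17) (img g 19) = false := by rw [img_bn hg (by norm_num) (by norm_num)]; decide
  have ne : img g 17 ≠ img g 19 := fun e => absurd (img_inj (g := g) (by norm_num) (by norm_num) e) (by decide)
  have mem : ∀ {a b}, a < 256 → b < 256 → qn a = true → qn b = true → bn a b = false → a < b →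
      (fun v => rf a (rf b v)) ∈ SpinCert.classC := by
    intro a b ha hb qa qb bab hab
    rw [SpinCert.classC, List.mem_flatMap]
    exact ⟨a, by simp [SpinCert.anis, ha, qa], List.mem_map.2 ⟨b, by simp [SpinCert.anis, hb, qb, hab, bab], rfl⟩⟩
  have hT := (tab_rf hu qu).2.mul (tab_rf hv qv).2
  rcases lt_or_gt_of_ne ne with hlt | hlt
  · exact ⟨_, mem hu hv qu qv buv hlt, hT⟩
  · rw [rf_comm hu hv qu qv buv]
    exact ⟨_, mem hv hu qv qu (bn_comm _ _ ▸ buv) hlt, (tab_rf hv qv).2.mul (tab_rf hu qu).2⟩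

end Cfsg.Lib.CoTwoType
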